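import Cfsg.Agent.Lib.StrongPEmb.Quotient
import Cfsg.Agent.Lib.Cores.Basic
import Mathlib.Algebra.Module.ZMod
import Mathlib.GroupTheory.PGroup

/-!
# Groups with a strongly `p`-embedded subgroup acting faithfully on a space of dimension three

`p` odd, `W` a space over `ZMod p` of order `p ^ 3`, `ρ : G →* End W` injective, `M` strongly `p`-embedded.

* `Rep.card_pgroup_le` : the `p`-subgroups have order at most `p`;
* `Rep.exists_torus` : for an element of order `p` acting as a transvection, a diagonal element `(ν⁻¹, ν, 1)`;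
* `Rep.moves_line`, `Rep.moves_plane` : for the other elements of order `p`, the fixed line and the
  invariant plane are moved.
-/

set_option autoImplicit false
set_option linter.style.haveILetI false
set_option linter.unusedSectionVars false

namespace Cfsg.Agent.RankThreeEss

variable {p : ℕ} [hp : Fact p.Prime] {W : Type*} [AddCommGroup W] [Module (ZMod p) W]

/-- The setting of this file. -/
structure Rep (p : ℕ) (G : Type*) [Group G] (W : Type*) [AddCommGroup W] [Module (ZMod p) W] where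
  three : 3 ≤ p
  card : Nat.card W = p ^ 3
  ρ : G →* Module.End (ZMod p) W
  inj : Function.Injective ρ
  M : Subgroup G
  emb : Cfsg.IsStronglyPEmbedded p M

omit hp in
/-- Powers of `1 + X` with `X * X = 0`. -/
theorem one_add_pow_of_sq {R : Type*} [Ring R] {X : R} (h : X * X = 0) (n : ℕ) :
    (1 + X) ^ n = 1 + n • X := by
  induction n with
  | zero => simp
  | succ n ih =>
    rw [pow_succ, ih, add_mul, mul_add, one_mul, one_mul, smul_mul_assoc, mul_add, mul_one, h, add_zero,
      succ_nsmul]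
    abel

/-- Three independent vectors span a space of order `p ^ 3`. -/
theorem exists_coords (hW : Nat.card W = p ^ 3) (e₁ e₂ e₃ : W)
    (hind : ∀ x y z : ZMod p, x • e₁ + y • e₂ + z • e₃ = 0 → x = 0 ∧ y = 0 ∧ z = 0) (v : W) :
    ∃ x y z : ZMod p, v = x • e₁ + y • e₂ + z • e₃ := by
  haveI : Finite W := Nat.finite_of_card_ne_zero (hW ▸ pow_ne_zero 3 hp.out.ne_zero)
  let φ : ZMod p × ZMod p × ZMod p → W := fun t => t.1 • e₁ + t.2.1 • e₂ + t.2.2 • e₃
  have hinj : Function.Injective φ := by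
    rintro ⟨x, y, z⟩ ⟨x', y', z'⟩ h
    have h' : (x - x') • e₁ + (y - y') • e₂ + (z - z') • e₃ = 0 := by
      have h0 : φ (x, y, z) - φ (x', y', z') = 0 := sub_eq_zero.2 h
      rw [← h0]
      simp only [φ, sub_smul]
      abel
    obtain ⟨h1, h2, h3⟩ := hind _ _ _ h'
    rw [sub_eq_zero] at h1 h2 h3
    rw [h1, h2, h3]
  obtain ⟨t, ht⟩ := ((Nat.bijective_iff_injective_and_card φ).2
    ⟨hinj, by rw [hW, Nat.card_prod, Nat.card_prod, Nat.card_zmod]; ring⟩).2 v
  exact ⟨_, _, _, ht.symm⟩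

namespace Rep

variable {G : Type*} [Group G] [Finite G] (R : Rep p G W)
include R

/-- `ρ g - 1`. -/
def nil (g : G) : Module.End (ZMod p) W := R.ρ g - 1

theorem ρ_eq (g : G) : R.ρ g = 1 + R.nil g := by simp [nil]

theorem apply_eq (g : G) (v : W) : R.ρ g v = v + R.nil g v := by simp [nil]

theorem inv_apply_self (g : G) (v : W) : R.ρ g⁻¹ (R.ρ g v) = v := by
  rw [← Module.End.mul_apply, ← map_mul, inv_mul_cancel, map_one, Module.End.one_apply]

theorem apply_inv_self (g : G) (v : W) : R.ρ g (R.ρ g⁻¹ v) = v := by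
  rw [← Module.End.mul_apply, ← map_mul, mul_inv_cancel, map_one, Module.End.one_apply]

theorem apply_injective (g : G) : Function.Injective (R.ρ g) :=
  Function.LeftInverse.injective (R.inv_apply_self g)

theorem nil_conj (g x : G) : R.nil (g * x * g⁻¹) = R.ρ g * R.nil x * R.ρ g⁻¹ := by
  simp only [nil, map_mul, mul_sub, sub_mul, mul_one]
  rw [← map_mul R.ρ g g⁻¹, mul_inv_cancel, map_one]

theorem nil_conj_apply (g x : G) (v : W) :
    R.nil (g * x * g⁻¹) (R.ρ g v) = R.ρ g (R.nil x v) := by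
  rw [nil_conj, Module.End.mul_apply, Module.End.mul_apply, inv_apply_self]

theorem finiteW : Finite W := Nat.finite_of_card_ne_zero (R.card ▸ pow_ne_zero 3 hp.out.ne_zero)

theorem finrank_eq : Module.finrank (ZMod p) W = 3 := by
  haveI := R.finiteW
  have h := Module.natCard_eq_pow_finrank (K := ZMod p) (V := W)
  rw [R.card, Nat.card_zmod] at h
  exact (Nat.pow_right_injective hp.out.two_le h).symm

theorem charP_end : CharP (Module.End (ZMod p) W) p := by
  haveI := R.finiteW
  haveI : Nontrivial W := Finite.one_lt_card_iff_nontrivial.1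
    (R.card ▸ Nat.one_lt_pow (by norm_num) hp.out.one_lt)
  exact charP_of_injective_algebraMap (algebraMap (ZMod p) (Module.End (ZMod p) W)).injective p

theorem two_ne : (2 : ZMod p) ≠ 0 := by
  intro h
  have h' : ((2 : ℕ) : ZMod p) = 0 := by exact_mod_cast h
  rw [ZMod.natCast_eq_zero_iff] at h'
  have := Nat.le_of_dvd two_pos h'
  have := R.three
  omega

/-- A `p`-element acts unipotently. -/
theorem nil_cube {g : G} (hg : ∃ k : ℕ, g ^ p ^ k = 1) : R.nil g ^ 3 = 0 := by
  haveI := R.finiteW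
  haveI := R.charP_end
  obtain ⟨k, hk⟩ := hg
  have h0 : R.nil g ^ p ^ k = 0 := by
    rw [nil, sub_pow_char_pow_of_commute (p := p) (h := Commute.one_right _), ← map_pow, hk, map_one,
      one_pow, sub_self]
  rw [← LinearMap.ker_eq_top] at h0 ⊢
  have h1 : LinearMap.ker (R.nil g ^ (p ^ k + 3)) = ⊤ := by
    rw [eq_top_iff, ← h0]
    intro v hv
    rw [LinearMap.mem_ker] at hv ⊢
    rw [add_comm, pow_add, Module.End.mul_apply, hv, map_zero]
  rwa [Module.End.ker_pow_eq_ker_pow_finrank_of_le (by rw [R.finrank_eq]; omega), R.finrank_eq] at h1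

theorem nil_cube_apply {g : G} (hg : ∃ k : ℕ, g ^ p ^ k = 1) (v : W) :
    R.nil g (R.nil g (R.nil g v)) = 0 := by
  have h := LinearMap.congr_fun (R.nil_cube hg) v
  rwa [pow_three, Module.End.mul_apply, Module.End.mul_apply] at h

theorem pow_p_of_cube {g : G} (h : R.nil g ^ 3 = 0) : g ^ p = 1 := by
  haveI := R.charP_end
  refine R.inj ?_
  rw [map_pow, map_one, ρ_eq, add_pow_char_of_commute (p := p) (h := Commute.one_left _), one_pow,
    pow_eq_zero_of_le (show 3 ≤ p by have := R.three; omega) h, add_zero]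

theorem orderOf_eq {g : G} (hg : ∃ k : ℕ, g ^ p ^ k = 1) (h1 : g ≠ 1) : orderOf g = p :=
  orderOf_eq_prime (R.pow_p_of_cube (R.nil_cube hg)) h1

omit [Finite G] R in
theorem exists_pk {P : Subgroup G} (hP : IsPGroup p P) {g : G} (hg : g ∈ P) : ∃ k : ℕ, g ^ p ^ k = 1 :=
  (hP ⟨g, hg⟩).imp fun _ h => congrArg Subtype.val h

omit [Finite G] R in
theorem exists_pk_conj {u : G} (hu : ∃ k : ℕ, u ^ p ^ k = 1) (g : G) :
    ∃ k : ℕ, (g * u * g⁻¹) ^ p ^ k = 1 :=
  hu.imp fun k hk => by rw [conj_pow, hk, mul_one, mul_inv_cancel]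

theorem nil_eq_zero_iff {g : G} : R.nil g = 0 ↔ g = 1 := by
  rw [nil, sub_eq_zero, ← map_one R.ρ]
  exact R.inj.eq_iff

/-- A square-zero map of a space of dimension three has rank one. -/
theorem exists_rank_one {A : Module.End (ZMod p) W} (h2 : A * A = 0) (hA : A ≠ 0) :
    ∃ (c : W) (f : W →ₗ[ZMod p] ZMod p), c ≠ 0 ∧ f c = 0 ∧ (∃ v, f v = 1) ∧ ∀ v, A v = f v • c := by
  haveI := R.finiteW
  obtain ⟨v₀, hv₀⟩ : ∃ v, A v ≠ 0 := by
    by_contra h
    push Not at h
    exact hA (LinearMap.ext h)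
  have hle : LinearMap.range A ≤ LinearMap.ker A := by
    rintro _ ⟨v, rfl⟩
    exact LinearMap.congr_fun h2 v
  have h1 : Module.finrank (ZMod p) (LinearMap.range A) ≤ 1 := by
    have := LinearMap.finrank_range_add_finrank_ker A
    rw [R.finrank_eq] at this
    have := Submodule.finrank_mono hle
    omega
  have hspan : (ZMod p) ∙ A v₀ = LinearMap.range A :=
    Submodule.eq_of_le_of_finrank_le ((Submodule.span_singleton_le_iff_mem _ _).2 ⟨v₀, rfl⟩)
      (by rw [finrank_span_singleton hv₀]; exact h1)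
  obtain ⟨g, hg⟩ := (LinearMap.toSpanSingleton (ZMod p) W (A v₀)).exists_leftInverse_of_injective
    (LinearMap.ker_eq_bot.2 (smul_left_injective (ZMod p) hv₀))
  have hg' : ∀ r : ZMod p, g (r • A v₀) = r := fun r => LinearMap.congr_fun hg r
  have key : ∀ v, A v = g (A v) • A v₀ := by
    intro v
    obtain ⟨r, hr⟩ := Submodule.mem_span_singleton.1 (hspan.ge ⟨v, rfl⟩)
    rw [← hr, hg']
  refine ⟨A v₀, g ∘ₗ A, hv₀, ?_, ⟨v₀, ?_⟩, fun v => key v⟩
  · rw [LinearMap.comp_apply, show A (A v₀) = 0 from LinearMap.congr_fun h2 v₀, map_zero]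
  · rw [LinearMap.comp_apply]
    simpa using hg' 1

/-- Conjugating a strongly embedded subgroup. -/
theorem exists_mem_emb {u : G} (hu : ∃ k : ℕ, u ^ p ^ k = 1) :
    ∃ R' : Rep p G W, R'.ρ = R.ρ ∧ u ∈ R'.M := by
  have hup : IsPGroup p (Subgroup.zpowers u) := by
    obtain ⟨k, hk⟩ := hu
    rintro ⟨y, hy⟩
    obtain ⟨i, rfl⟩ := Subgroup.mem_zpowers_iff.1 hy
    exact ⟨k, Subtype.ext (show (u ^ i) ^ p ^ k = 1 by
      rw [← zpow_natCast, ← zpow_mul, mul_comm, zpow_mul, zpow_natCast, hk, one_zpow])⟩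
  obtain ⟨P', hP'⟩ := hup.exists_le_sylow
  obtain ⟨P, hP⟩ := StrongPEmb.exists_sylow_le R.emb
  obtain ⟨x, hx⟩ := MulAction.exists_smul_eq G P' P
  have hmem : ∀ y, y ∈ (P' : Subgroup G) → x * y * x⁻¹ ∈ (P : Subgroup G) := fun y hy => by
    rw [← hx]; exact Subgroup.smul_mem_pointwise_smul _ (MulAut.conj x) _ hy
  let M' : Subgroup G := R.M.comap (MulAut.conj x).toMonoidHom
  suffices hM' : Cfsg.IsStronglyPEmbedded p M' from
    ⟨{ R with M := M', emb := hM' }, rfl, hP (hmem u (hP' (Subgroup.mem_zpowers u)))⟩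
  refine (StrongPEmb.isStronglyPEmbedded_iff_forall M').2
    ⟨R.emb.1, fun h => ?_, P', fun Q hQ hne n hn => ?_⟩
  · refine R.emb.2.1 ((Subgroup.eq_top_iff' _).2 fun y => ?_)
    have := h.ge (Subgroup.mem_top ((MulAut.conj x).symm y))
    simpa [M', mul_assoc] using this
  · have hQ' : Q.map (MulAut.conj x).toMonoidHom ≤ P := by
      rintro _ ⟨q, hq, rfl⟩
      exact hmem q (hQ hq)
    refine StrongPEmb.normalizer_le R.emb (P.isPGroup'.to_le hQ') ?_ (hQ'.trans hP) ?_
    · rwa [Ne, Subgroup.map_eq_bot_iff_of_injective _ (MulAut.conj x).injective]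
    · rw [← Subgroup.map_normalizer_eq_of_bijective _ (MulAut.conj x).bijective]
      exact ⟨n, hn, rfl⟩

/-- Some conjugate of an element of order `p` of `M` lies outside `M`. -/
theorem exists_conj_not_mem {z : G} (hz : orderOf z = p) (hzM : z ∈ R.M) :
    ∃ g : G, g * z * g⁻¹ ∉ R.M := by
  by_contra h
  push Not at h
  exact R.emb.2.1 ((Subgroup.eq_top_iff' _).2 fun g => StrongPEmb.mem_of_conj_mem R.emb hz hzM (h g))

/-- The commutator of two square-zero elements with product zero in one order. -/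
theorem commutator_commute {z z' : G} (hA : R.nil z * R.nil z = 0) (hB : R.nil z' * R.nil z' = 0)
    (hAB : R.nil z * R.nil z' = 0) :
    let k := z * z' * z⁻¹ * z'⁻¹
    k * z = z * k ∧ k * z' = z' * k ∧ k ^ p = 1 := by
  intro k
  have hinv : ∀ w : G, R.nil w * R.nil w = 0 → R.ρ w⁻¹ = 1 - R.nil w := fun w hw => by
    have h1 : R.ρ w * (1 - R.nil w) = 1 := by
      rw [ρ_eq, add_mul, one_mul, mul_sub, mul_one, hw]; abel
    calc R.ρ w⁻¹ = R.ρ w⁻¹ * (R.ρ w * (1 - R.nil w)) := by rw [h1, mul_one]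
      _ = _ := by rw [← mul_assoc, ← map_mul, inv_mul_cancel, map_one, one_mul]
  set A := R.nil z with hA'
  set B := R.nil z' with hB'
  have hk : R.ρ k = 1 - B * A := by
    simp only [k, map_mul, hinv z hA, hinv z' hB, ρ_eq, ← hA', ← hB']
    have h3 : B * A * B = 0 := by rw [mul_assoc, hAB, mul_zero]
    noncomm_ring [hA, hB, hAB, h3]
  have h1 : B * A * A = 0 := by rw [mul_assoc, hA, mul_zero]
  have h2 : A * (B * A) = 0 := by rw [← mul_assoc, hAB, zero_mul]
  have h3 : B * A * B = 0 := by rw [mul_assoc, hAB, mul_zero]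
  have h4 : B * (B * A) = 0 := by rw [← mul_assoc, hB, zero_mul]
  refine ⟨R.inj ?_, R.inj ?_, R.pow_p_of_cube ?_⟩
  · rw [map_mul R.ρ k z, map_mul R.ρ z k, hk, ρ_eq, ← hA']
    simp only [sub_mul, mul_add, add_mul, mul_sub, mul_one, one_mul, h1, h2]
    noncomm_ring
  · rw [map_mul R.ρ k z', map_mul R.ρ z' k, hk, ρ_eq, ← hB']
    simp only [sub_mul, mul_add, add_mul, mul_sub, mul_one, one_mul, h3, h4]
    noncomm_ring
  · have hn : R.nil k = -(B * A) := by rw [nil, hk]; abel
    rw [hn, pow_three, neg_mul_neg, show B * A * (B * A) = 0 by rw [mul_assoc, h2, mul_zero], mul_zero]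

/-- The key lemma. -/
theorem mem_of_mul_eq_zero {z z' : G} (hz : orderOf z = p) (hzM : z ∈ R.M)
    (hA : R.nil z * R.nil z = 0) (hB : R.nil z' * R.nil z' = 0)
    (h : R.nil z * R.nil z' = 0 ∨ R.nil z' * R.nil z = 0) : z' ∈ R.M := by
  have hC : ∀ k : G, k * z = z * k → k * z' = z' * k → k ^ p = 1 → k ≠ 1 → z' ∈ R.M := by
    intro k h1 h2 h3 h4
    have hk : k ∈ R.M := StrongPEmb.centralizer_le R.emb hzM hz
      (Subgroup.mem_centralizer_singleton_iff.2 h1)
    exact StrongPEmb.centralizer_le R.emb hk (orderOf_eq_prime h3 h4)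
      (Subgroup.mem_centralizer_singleton_iff.2 h2.symm)
  have h0 : z' * z = z * z' → z' ∈ R.M := fun e => StrongPEmb.centralizer_le R.emb hzM hz
    (Subgroup.mem_centralizer_singleton_iff.2 e)
  rcases h with h | h
  · obtain ⟨h1, h2, h3⟩ := R.commutator_commute hA hB h
    rcases eq_or_ne (z * z' * z⁻¹ * z'⁻¹) 1 with e | e
    · exact h0 (by rw [mul_inv_eq_one, mul_inv_eq_iff_eq_mul] at e; exact e.symm)
    · exact hC _ h1 h2 h3 e
  · obtain ⟨h1, h2, h3⟩ := R.commutator_commute hB hA h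
    rcases eq_or_ne (z' * z * z'⁻¹ * z⁻¹) 1 with e | e
    · exact h0 (by rw [mul_inv_eq_one, mul_inv_eq_iff_eq_mul] at e; exact e)
    · exact hC _ h2 h1 h3 e

/-- A conjugate transvection outside `M` is in general position. -/
theorem general_position {z g : G} (hz : orderOf z = p) (hzM : z ∈ R.M)
    (hA : R.nil z * R.nil z = 0) {c : W} {f : W →ₗ[ZMod p] ZMod p} (hf : ∀ v, R.nil z v = f v • c)
    (hg : g * z * g⁻¹ ∉ R.M) : f (R.ρ g c) ≠ 0 ∧ f (R.ρ g⁻¹ c) ≠ 0 := by
  have hB : R.nil (g * z * g⁻¹) * R.nil (g * z * g⁻¹) = 0 := by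
    refine LinearMap.ext fun v => ?_
    rw [← R.apply_inv_self g v, Module.End.mul_apply, nil_conj_apply, nil_conj_apply,
      ← Module.End.mul_apply (R.nil z), hA, LinearMap.zero_apply, map_zero]
    rfl
  have hBv : ∀ v, R.nil (g * z * g⁻¹) v = f (R.ρ g⁻¹ v) • R.ρ g c := fun v => by
    conv_lhs => rw [← R.apply_inv_self g v, nil_conj_apply, hf, map_smul]
  refine ⟨fun e => hg (R.mem_of_mul_eq_zero hz hzM hA hB (Or.inl ?_)),
    fun e => hg (R.mem_of_mul_eq_zero hz hzM hA hB (Or.inr ?_))⟩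
  · refine LinearMap.ext fun v => ?_
    rw [Module.End.mul_apply, hBv, map_smul, hf, e, zero_smul, smul_zero]
    rfl
  · refine LinearMap.ext fun v => ?_
    rw [Module.End.mul_apply, hf, map_smul, hBv, e, zero_smul, smul_zero]
    rfl

/-- No abelian subgroup of order `p ^ 2` centralizes a transvection of `M`. -/
theorem false_of_sq {P : Subgroup G} (hP : IsPGroup p P) (hPc : Nat.card P = p ^ 2) {z : G}
    (hz : orderOf z = p) (hA : R.nil z * R.nil z = 0) (hzM : z ∈ R.M)
    (hcom : ∀ q ∈ P, q * z = z * q) : False := by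
  haveI := R.finiteW
  obtain ⟨c, f, hc, hfc, ⟨v₀, hv₀⟩, hf⟩ := R.exists_rank_one hA fun e => by
    rw [R.nil_eq_zero_iff] at e
    rw [e, orderOf_one] at hz
    exact hp.out.ne_one hz.symm
  obtain ⟨g, hg⟩ := R.exists_conj_not_mem hz hzM
  obtain ⟨h1, -⟩ := R.general_position hz hzM hA hf hg
  set c' := R.ρ g c with hc'
  have hqA : ∀ q ∈ P, ∀ v, R.nil z (R.ρ q v) = R.ρ q (R.nil z v) := fun q hq v => by
    have h := LinearMap.congr_fun (congrArg R.ρ (hcom q hq)) v
    rw [map_mul, map_mul, Module.End.mul_apply, Module.End.mul_apply, apply_eq _ z, apply_eq _ z,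
      map_add] at h
    exact (add_left_cancel h).symm
  have hqc : ∀ q ∈ P, R.ρ q c = c := by
    intro q hq
    have h := hqA q hq v₀
    rw [hf, hf, hv₀, one_smul] at h
    have h3 := R.nil_cube_apply (exists_pk hP hq) c
    have hn : R.nil q c = (f (R.ρ q v₀) - 1) • c := by
      rw [sub_smul, one_smul, h, apply_eq, add_sub_cancel_left]
    rw [hn, map_smul, hn, map_smul, map_smul, hn, smul_smul, smul_smul, smul_eq_zero_iff_left hc] at h3
    have h4 : f (R.ρ q v₀) = 1 := by
      have h5 : (f (R.ρ q v₀) - 1) ^ 3 = 0 := by rw [← h3]; ring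
      exact sub_eq_zero.1 (pow_eq_zero_iff (n := 3) (by norm_num) |>.1 h5)
    rw [← h, h4, one_smul]
  have hfq : ∀ q ∈ P, ∀ v, f (R.ρ q v) = f v := fun q hq v => by
    have h := hqA q hq v
    rw [hf, hf, map_smul, hqc q hq] at h
    exact smul_left_injective (ZMod p) hc h
  -- the orbit of `c'` avoids the second axis
  have hkey : ∀ q ∈ P, f (R.ρ g⁻¹ (R.ρ q c')) = 0 → q = 1 := by
    intro q hq he
    by_contra hq1
    set y := g⁻¹ * q * g with hy
    have hyy : R.nil (y * z * y⁻¹) * R.nil (y * z * y⁻¹) = 0 := by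
      refine LinearMap.ext fun v => ?_
      rw [← R.apply_inv_self y v, Module.End.mul_apply, nil_conj_apply, nil_conj_apply,
        ← Module.End.mul_apply (R.nil z), hA, LinearMap.zero_apply, map_zero]
      rfl
    have hm : y * z * y⁻¹ ∈ R.M := by
      refine R.mem_of_mul_eq_zero hz hzM hA hyy (Or.inl (LinearMap.ext fun v => ?_))
      rw [Module.End.mul_apply, ← R.apply_inv_self y v, nil_conj_apply, hf (R.ρ y⁻¹ v), map_smul,
        map_smul, hf, hy, map_mul, map_mul, Module.End.mul_apply, Module.End.mul_apply, ← hc', he,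
        zero_smul, smul_zero]
      rfl
    have hyM := StrongPEmb.mem_of_conj_mem R.emb hz hzM hm
    have hyo : orderOf y = p := by
      rw [hy, show g⁻¹ * q * g = MulAut.conj g⁻¹ q by rw [MulAut.conj_apply, inv_inv],
        MulEquiv.orderOf_eq]
      exact R.orderOf_eq (exists_pk hP hq) hq1
    have h2 : g⁻¹ * z * g ∈ R.M := StrongPEmb.centralizer_le R.emb hyM hyo
      (Subgroup.mem_centralizer_singleton_iff.2 (by
        rw [hy, show g⁻¹ * z * g * (g⁻¹ * q * g) = g⁻¹ * (z * q) * g by group, ← hcom q hq]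
        group))
    have h3 : g⁻¹ ∈ R.M := StrongPEmb.mem_of_conj_mem R.emb hz hzM (by rwa [inv_inv])
    exact hg (mul_mem (mul_mem (inv_inv g ▸ inv_mem h3) hzM) h3)
  let T := {v : W // f v = f c'}
  let Φ : P → T := fun q => ⟨R.ρ q c', hfq q q.2 c'⟩
  have hfc' : f (R.ρ g⁻¹ c') = 0 := by rw [hc', R.inv_apply_self, hfc]
  have hΦ : Function.Injective Φ := by
    rintro q q' e
    have e' : R.ρ q c' = R.ρ q' c' := congrArg Subtype.val e
    have h := hkey (q⁻¹ * q' : P) (q⁻¹ * q' : P).2 (by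
      rw [Subgroup.coe_mul, Subgroup.coe_inv, map_mul, Module.End.mul_apply, ← e', R.inv_apply_self,
        hfc'])
    exact inv_mul_eq_one.1 (Subtype.ext h)
  have hT : Nat.card T = p ^ 2 := by
    have e : T ≃ LinearMap.ker f :=
      { toFun := fun v => ⟨v.1 - c', by rw [LinearMap.mem_ker, map_sub, v.2, sub_self]⟩
        invFun := fun w => ⟨w.1 + c', by rw [map_add, LinearMap.mem_ker.1 w.2, zero_add]⟩
        left_inv := fun v => Subtype.ext (sub_add_cancel _ _)
        right_inv := fun w => Subtype.ext (add_sub_cancel_right _ _) }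
    rw [Nat.card_congr e, Module.natCard_eq_pow_finrank (K := ZMod p), Nat.card_zmod]
    have h := LinearMap.finrank_range_add_finrank_ker f
    rw [R.finrank_eq, LinearMap.range_eq_top.2 (fun r => ⟨r • v₀, by
      rw [map_smul, hv₀, smul_eq_mul, mul_one]⟩), finrank_top, Module.finrank_self] at h
    congr 1
    omega
  haveI : Finite T := Subtype.finite
  obtain ⟨w, hw0, hw1, hw2⟩ : ∃ w : W, w ≠ 0 ∧ f w = 0 ∧ f (R.ρ g⁻¹ w) = 0 := by
    by_contra h
    push Not at h
    have hinj : Function.Injective (fun v : W => (f v, f (R.ρ g⁻¹ v))) := by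
      intro v v' e
      simp only [Prod.mk.injEq] at e
      obtain ⟨e1, e2⟩ := e
      by_contra hne
      exact h (v - v') (sub_ne_zero.2 hne) (by rw [map_sub, e1, sub_self])
        (by rw [map_sub, map_sub, e2, sub_self])
    have := Nat.card_le_card_of_injective _ hinj
    rw [R.card, Nat.card_prod, Nat.card_zmod] at this
    nlinarith [hp.out.two_le, pow_succ p 2]
  obtain ⟨q, hq⟩ := ((Nat.bijective_iff_injective_and_card Φ).2 ⟨hΦ, hPc.trans hT.symm⟩).2
    ⟨c' + w, by rw [map_add, hw1, add_zero]⟩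
  have hq' : R.ρ q c' = c' + w := congrArg Subtype.val hq
  have h := hkey q q.2 (by rw [hq', map_add, map_add, hfc', hw2, add_zero])
  rw [h, map_one, Module.End.one_apply] at hq'
  exact hw0 (left_eq_add.1 hq')

/-- A `p`-subgroup has order at most `p`. -/
theorem card_pgroup_le {P : Subgroup G} (hP : IsPGroup p P) : Nat.card P ≤ p := by
  obtain ⟨n, hn⟩ := IsPGroup.iff_card.1 hP
  by_contra hgt
  have hn2 : 2 ≤ n := by
    by_contra h
    refine hgt (hn.le.trans ?_)
    calc p ^ n ≤ p ^ 1 := Nat.pow_le_pow_right hp.out.pos (by omega)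
      _ = p := pow_one p
  obtain ⟨Q, hQ⟩ := Sylow.exists_subgroup_card_pow_prime (G := G) p
    (n := 2) ((pow_dvd_pow p hn2).trans (hn ▸ Subgroup.card_subgroup_dvd_card P))
  have hQp : IsPGroup p Q := IsPGroup.of_card hQ
  have hQab : ∀ a ∈ Q, ∀ b ∈ Q, a * b = b * a := fun a ha b hb =>
    congrArg Subtype.val (IsPGroup.commutative_of_card_eq_prime_sq hQ (⟨a, ha⟩ : Q) ⟨b, hb⟩)
  obtain ⟨z, hzQ, hz1, hz2⟩ : ∃ z ∈ Q, z ≠ 1 ∧ R.nil z * R.nil z = 0 := by
    by_contra hno
    push Not at hno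
    obtain ⟨u, hu, hu1⟩ : ∃ u ∈ Q, u ≠ 1 := by
      by_contra h
      push Not at h
      have hb : Q = ⊥ := (Subgroup.eq_bot_iff_forall Q).2 h
      rw [hb, Subgroup.card_bot] at hQ
      have := Nat.one_lt_pow (two_ne_zero) hp.out.one_lt
      omega
    set A := R.nil u with hA
    obtain ⟨d, hd⟩ : ∃ d, A (A d) ≠ 0 := by
      by_contra h
      push Not at h
      exact hno u hu hu1 (LinearMap.ext h)
    obtain ⟨u', hu', hu'u⟩ : ∃ u' ∈ Q, u' ∉ Subgroup.zpowers u := by
      by_contra h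
      push Not at h
      have := Subgroup.card_le_of_le (show Q ≤ Subgroup.zpowers u from h)
      rw [hQ, Nat.card_zpowers, R.orderOf_eq (exists_pk hQp hu) hu1, pow_two] at this
      nlinarith [hp.out.two_le]
    have h3 : A (A (A d)) = 0 := R.nil_cube_apply (exists_pk hQp hu) d
    have hind : ∀ x y w : ZMod p, x • d + y • A d + w • A (A d) = 0 → x = 0 ∧ y = 0 ∧ w = 0 := by
      intro x y w h
      have h' := congrArg (fun v => A (A v)) h
      simp only [map_add, map_smul, h3, map_zero, smul_zero, add_zero, smul_eq_zero_iff_left hd] at h'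
      subst h'
      have h'' := congrArg A h
      simp only [map_add, map_smul, h3, map_zero, smul_zero, add_zero, zero_smul, zero_add,
        smul_eq_zero_iff_left hd] at h''
      subst h''
      simp only [zero_smul, zero_add, smul_eq_zero_iff_left hd] at h
      exact ⟨rfl, rfl, h⟩
    have hco := exists_coords R.card d (A d) (A (A d)) hind
    set B := R.nil u' with hB
    have hcm : ∀ v, B (A v) = A (B v) := fun v => by
      have h := LinearMap.congr_fun (congrArg R.ρ (hQab u' hu' u hu)) v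
      simp only [map_mul, Module.End.mul_apply, apply_eq, map_add] at h
      rw [← hA, ← hB] at h
      rw [← sub_eq_zero] at h ⊢
      rw [← h]
      abel
    obtain ⟨α, β, γ, hBd⟩ := hco (B d)
    have hB2 : B (A (A d)) = α • A (A d) := by
      rw [hcm, hcm, hBd]
      simp only [map_add, map_smul, h3, map_zero, smul_zero, add_zero]
    have hα : α = 0 := by
      have h := R.nil_cube_apply (exists_pk hQp hu') (A (A d))
      rw [← hB, hB2, map_smul, hB2, map_smul, map_smul, hB2, smul_smul, smul_smul,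
        smul_eq_zero_iff_left hd] at h
      simpa using h
    have hBeq : B = β • A + γ • (A * A) := by
      refine LinearMap.ext fun v => ?_
      obtain ⟨x, y, w, rfl⟩ := hco v
      simp only [map_add, map_smul, hcm, hBd, hα, LinearMap.add_apply, LinearMap.smul_apply,
        Module.End.mul_apply, h3, zero_smul, zero_add, map_zero, smul_zero, add_zero, smul_add, smul_smul]
    have hA3 : A * A * A = 0 := LinearMap.ext fun v => R.nil_cube_apply (exists_pk hQp hu) v
    have hpow : ∀ n : ℕ, ∃ e : ZMod p, (1 + A) ^ n = 1 + (n : ZMod p) • A + e • (A * A) := by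
      intro n
      induction n with
      | zero => exact ⟨0, by simp⟩
      | succ n ih =>
        obtain ⟨e, he⟩ := ih
        refine ⟨e + n, ?_⟩
        rw [pow_succ, he, Nat.cast_succ]
        simp only [mul_add, mul_one, add_mul, one_mul, smul_mul_assoc, hA3, smul_zero, add_zero]
        module
    obtain ⟨e, he⟩ := hpow (-β).val
    set v := u' * u ^ (-β).val with hv
    have hv1 : v ≠ 1 := fun h => hu'u (by
      rw [mul_eq_one_iff_eq_inv] at h
      rw [h]
      exact inv_mem (pow_mem (Subgroup.mem_zpowers u) _))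
    refine hno v (mul_mem hu' (pow_mem hu _)) hv1 ?_
    have hv2 : R.nil v = (γ + e + β * (-β)) • (A * A) := by
      rw [nil, hv, map_mul, map_pow, ρ_eq, ρ_eq, ← hA, ← hB, hBeq, he, ZMod.natCast_zmod_val]
      simp only [mul_add, mul_one, add_mul, one_mul, smul_mul_assoc, mul_smul_comm, hA3,
        show A * (A * A) = 0 from (mul_assoc A A A).symm.trans hA3,
        show A * A * (A * A) = 0 by rw [← mul_assoc, hA3, zero_mul], smul_zero, add_zero]
      module
    rw [hv2, smul_mul_smul_comm, show A * A * (A * A) = 0 by rw [← mul_assoc, hA3, zero_mul], smul_zero]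
  obtain ⟨R', hρ, hzM⟩ := R.exists_mem_emb (exists_pk hQp hzQ)
  refine R'.false_of_sq hQp hQ (R'.orderOf_eq (exists_pk hQp hzQ) hz1) ?_ hzM
    fun q hq => hQab q hq z hzQ
  rw [nil, hρ]
  exact hz2

/-- The diagonal element normalizing a transvection. -/
theorem exists_torus {u : G} (hu : ∃ k : ℕ, u ^ p ^ k = 1) (hu1 : u ≠ 1)
    (hA : R.nil u * R.nil u = 0) (ν : ZMod p) (hν : ν ≠ 0) :
    ∃ (a z c : W) (t : G),
      (∀ x y w : ZMod p, x • a + y • z + w • c = 0 → x = 0 ∧ y = 0 ∧ w = 0) ∧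
      R.ρ u a = a + z ∧ R.ρ u z = z ∧ R.ρ u c = c ∧
      R.ρ t a = ν⁻¹ • a ∧ R.ρ t z = ν • z ∧ R.ρ t c = c := by
  haveI := R.finiteW
  obtain ⟨R', hρ, huM⟩ := R.exists_mem_emb hu
  have hnil : ∀ g, R'.nil g = R.nil g := fun g => by rw [nil, nil, hρ]
  have hzo := R.orderOf_eq hu hu1
  obtain ⟨c₀, f, hc₀, hfc, -, hf⟩ := R.exists_rank_one hA fun e => hu1 (R.nil_eq_zero_iff.1 e)
  obtain ⟨g, hg⟩ := R'.exists_conj_not_mem hzo huM
  obtain ⟨h1, h2⟩ := R'.general_position hzo huM (by rw [hnil]; exact hA)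
    (fun v => by rw [hnil]; exact hf v) hg
  rw [hρ] at h1 h2
  set u' := g * u * g⁻¹ with hu'
  have hBv : ∀ v, R.nil u' v = f (R.ρ g⁻¹ v) • R.ρ g c₀ := fun v => by
    conv_lhs => rw [← R.apply_inv_self g v, hu', nil_conj_apply, hf, map_smul]
  have hB : R.nil u' * R.nil u' = 0 := LinearMap.ext fun v => by
    rw [Module.End.mul_apply, hBv v, map_smul, hBv, R.inv_apply_self, hfc, zero_smul, smul_zero]
    rfl
  set a := (f (R.ρ g c₀))⁻¹ • R.ρ g c₀ with ha
  set κ := f (R.ρ g⁻¹ c₀) * f (R.ρ g c₀) with hκ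
  have hκ0 : κ ≠ 0 := mul_ne_zero h2 h1
  obtain ⟨C, hC0, hC1, hC2⟩ : ∃ w : W, w ≠ 0 ∧ f w = 0 ∧ f (R.ρ g⁻¹ w) = 0 := by
    by_contra h
    push Not at h
    have hinj : Function.Injective (fun v : W => (f v, f (R.ρ g⁻¹ v))) := by
      intro v v' e
      simp only [Prod.mk.injEq] at e
      obtain ⟨e1, e2⟩ := e
      by_contra hne
      exact h (v - v') (sub_ne_zero.2 hne) (by rw [map_sub, e1, sub_self])
        (by rw [map_sub, map_sub, e2, sub_self])
    have := Nat.card_le_card_of_injective _ hinj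
    rw [R.card, Nat.card_prod, Nat.card_zmod] at this
    nlinarith [hp.out.two_le, pow_succ p 2]
  have hAa : R.nil u a = c₀ := by
    rw [hf, ha, map_smul, smul_eq_mul, inv_mul_cancel₀ h1, one_smul]
  have hAz : R.nil u c₀ = 0 := by rw [hf, hfc, zero_smul]
  have hAc : R.nil u C = 0 := by rw [hf, hC1, zero_smul]
  have hBa : R.nil u' a = 0 := by
    rw [ha, map_smul, hBv, R.inv_apply_self, hfc, zero_smul, smul_zero]
  have hBz : R.nil u' c₀ = κ • a := by
    rw [hBv, ha, smul_smul, hκ, mul_assoc, mul_inv_cancel₀ h1, mul_one]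
  have hBc : R.nil u' C = 0 := by rw [hBv, hC2, zero_smul]
  have hu'pow : ∀ (n : ℕ) (v : W), R.ρ (u' ^ n) v = v + (n : ZMod p) • R.nil u' v := by
    intro n v
    rw [map_pow, ρ_eq, one_add_pow_of_sq hB, LinearMap.add_apply, Module.End.one_apply,
      LinearMap.smul_apply, Nat.cast_smul_eq_nsmul]
  have hupow : ∀ (n : ℕ) (v : W), R.ρ (u ^ n) v = v + (n : ZMod p) • R.nil u v := by
    intro n v
    rw [map_pow, ρ_eq, one_add_pow_of_sq hA, LinearMap.add_apply, Module.End.one_apply,
      LinearMap.smul_apply, Nat.cast_smul_eq_nsmul]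
  let w : ZMod p → G := fun s => u ^ s.val * u' ^ (-s⁻¹ / κ).val * u ^ s.val
  have hw : ∀ s : ZMod p, s ≠ 0 → R.ρ (w s) a = s • c₀ ∧ R.ρ (w s) c₀ = (-s⁻¹) • a ∧
      R.ρ (w s) C = C := by
    intro s hs
    refine ⟨?_, ?_, ?_⟩
    · simp only [w, map_mul, Module.End.mul_apply, hupow, hu'pow, ZMod.natCast_zmod_val, hAa, hAz,
        hBa, hBz, map_add, map_smul, smul_zero, add_zero, zero_add, smul_add, smul_smul]
      match_scalars <;> field_simp <;> ring
    · simp only [w, map_mul, Module.End.mul_apply, hupow, hu'pow, ZMod.natCast_zmod_val, hAa, hAz,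
        hBa, hBz, map_add, map_smul, smul_zero, add_zero, zero_add, smul_add, smul_smul]
      match_scalars <;> field_simp <;> ring
    · simp only [w, map_mul, Module.End.mul_apply, hupow, hu'pow, ZMod.natCast_zmod_val, hAc, hBc,
        smul_zero, add_zero]
  obtain ⟨wa, wz, wc⟩ := hw (-1) (neg_ne_zero.2 one_ne_zero)
  obtain ⟨va, vz, vc⟩ := hw ν hν
  refine ⟨a, c₀, C, w ν * w (-1), ?_, ?_, ?_, ?_, ?_, ?_, ?_⟩
  · intro x y t h
    have hx := congrArg (R.nil u) h
    simp only [map_add, map_smul, hAa, hAz, hAc, map_zero, smul_zero, add_zero,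
      smul_eq_zero_iff_left hc₀] at hx
    subst hx
    have ha0 : a ≠ 0 := fun e => hc₀ (by rw [← hAa, e, map_zero])
    have hy := congrArg (R.nil u') h
    simp only [map_add, map_smul, hBa, hBz, hBc, map_zero, smul_zero, add_zero, zero_add, smul_smul,
      smul_eq_zero_iff_left ha0, mul_eq_zero, hκ0, or_false] at hy
    subst hy
    simp only [zero_smul, zero_add, smul_eq_zero_iff_left hC0] at h
    exact ⟨rfl, rfl, h⟩
  · rw [apply_eq, hAa]
  · rw [apply_eq, hAz, add_zero]
  · rw [apply_eq, hAc, add_zero]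
  · rw [map_mul, Module.End.mul_apply, wa, map_smul, vz, smul_smul]
    congr 1
    ring
  · rw [map_mul, Module.End.mul_apply, wz, map_smul, va, smul_smul]
    congr 1
    norm_num
  · rw [map_mul, Module.End.mul_apply, wc, vc]

/-- The elements stabilizing a series `0 ≤ U₁ ≤ U₂ ≤ W`. -/
noncomputable def stabSeries (U₁ U₂ : Submodule (ZMod p) W) (h : U₁ ≤ U₂) : Subgroup G :=
  let S : Submonoid G :=
    { carrier := {g | (∀ v ∈ U₁, R.nil g v = 0) ∧ (∀ v ∈ U₂, R.nil g v ∈ U₁) ∧ ∀ v, R.nil g v ∈ U₂}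
      one_mem' := by
        have : R.nil 1 = 0 := R.nil_eq_zero_iff.2 rfl
        simp [this]
      mul_mem' := by
        rintro a b ⟨a1, a2, a3⟩ ⟨b1, b2, b3⟩
        have e : ∀ v, R.nil (a * b) v = R.nil a v + R.nil b v + R.nil a (R.nil b v) := fun v => by
          simp only [nil, map_mul, LinearMap.sub_apply, Module.End.mul_apply, Module.End.one_apply,
            map_sub]
          abel
        refine ⟨fun v hv => ?_, fun v hv => ?_, fun v => ?_⟩
        · rw [e, a1 v hv, b1 v hv, map_zero, add_zero, add_zero]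
        · rw [e]
          exact add_mem (add_mem (a2 v hv) (b2 v hv)) (by rw [a1 _ (b2 v hv)]; exact zero_mem _)
        · rw [e]
          exact add_mem (add_mem (a3 v) (b3 v)) (h (a2 _ (b3 v))) }
  { S with
    inv_mem' := fun {x} hx => by
      have : x⁻¹ = x ^ (orderOf x - 1) :=
        inv_eq_of_mul_eq_one_right (by
          rw [← pow_succ', Nat.sub_add_cancel (orderOf_pos x), pow_orderOf_eq_one])
      rw [this]
      exact pow_mem (show x ∈ S from hx) _ }

theorem mem_stabSeries {U₁ U₂ : Submodule (ZMod p) W} {h : U₁ ≤ U₂} {g : G} :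
    g ∈ R.stabSeries U₁ U₂ h ↔
      (∀ v ∈ U₁, R.nil g v = 0) ∧ (∀ v ∈ U₂, R.nil g v ∈ U₁) ∧ ∀ v, R.nil g v ∈ U₂ := Iff.rfl

/-- An invariant series has trivial stabilizer. -/
theorem eq_one_of_stabSeries {U₁ U₂ : Submodule (ZMod p) W} (h : U₁ ≤ U₂)
    (h₁ : ∀ (g : G), ∀ v ∈ U₁, R.ρ g v ∈ U₁) (h₂ : ∀ (g : G), ∀ v ∈ U₂, R.ρ g v ∈ U₂) {g : G}
    (hg : g ∈ R.stabSeries U₁ U₂ h) : g = 1 := by
  have hn : (R.stabSeries U₁ U₂ h).Normal := ⟨by
    rintro x ⟨x1, x2, x3⟩ y
    refine ⟨fun v hv => ?_, fun v hv => ?_, fun v => ?_⟩ <;>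
      rw [← R.apply_inv_self y v, nil_conj_apply]
    · rw [x1 _ (h₁ _ v hv), map_zero]
    · exact h₁ _ _ (x2 _ (h₂ _ v hv))
    · exact h₂ _ _ (x3 _)⟩
  have hpg : IsPGroup p (R.stabSeries U₁ U₂ h) := by
    rintro ⟨x, x1, x2, x3⟩
    refine ⟨1, Subtype.ext ?_⟩
    rw [pow_one]
    refine R.pow_p_of_cube ?_
    refine LinearMap.ext fun v => ?_
    rw [pow_three, Module.End.mul_apply, Module.End.mul_apply, x1 _ (x2 _ (x3 v))]
    rfl
  have hle := Cores.le_pCore hn hpg hg
  have hb : Cfsg.pCore p G = ⊥ := StrongPEmb.pCore_eq_bot R.emb (Cores.isPGroup_pCore p G)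
  rwa [hb, Subgroup.mem_bot] at hle

theorem half {v : W} (h : v + v = 0) : v = 0 := by
  rw [← two_smul (ZMod p) v, smul_eq_zero] at h
  exact h.resolve_left R.two_ne

theorem sq_conj_ne {u : G} {d : W} (hd : R.nil u (R.nil u d) ≠ 0) (g : G) :
    R.nil (g * u * g⁻¹) (R.nil (g * u * g⁻¹) (R.ρ g d)) ≠ 0 := by
  rw [nil_conj_apply, nil_conj_apply]
  exact fun h => hd (R.apply_injective g (by rw [h, map_zero]))

/-- The fixed line of a regular unipotent element is moved. -/
theorem moves_line {u : G} (hu : ∃ k : ℕ, u ^ p ^ k = 1) {d : W} (hd : R.nil u (R.nil u d) ≠ 0) :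
    ∃ g : G, R.ρ g (R.nil u (R.nil u d)) ∉ (ZMod p) ∙ R.nil u (R.nil u d) := by
  by_contra hinv
  push Not at hinv
  set A := R.nil u with hA
  set C := (ZMod p) ∙ A (A d) with hC
  have h3 : ∀ v, A (A (A v)) = 0 := R.nil_cube_apply hu
  have hinvC : ∀ g : G, ∀ v ∈ C, R.ρ g v ∈ C := fun g v hv => by
    obtain ⟨r, rfl⟩ := Submodule.mem_span_singleton.1 hv
    rw [map_smul]
    exact C.smul_mem r (hinv g)
  have hind : ∀ (e : W), A (A e) ≠ 0 → ∀ x y w : ZMod p, x • e + y • A e + w • A (A e) = 0 →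
      x = 0 ∧ y = 0 ∧ w = 0 := by
    intro e he x y w h
    have h' := congrArg (fun v => A (A v)) h
    simp only [map_add, map_smul, h3, map_zero, smul_zero, add_zero, smul_eq_zero_iff_left he] at h'
    subst h'
    have h'' := congrArg A h
    simp only [map_add, map_smul, h3, map_zero, smul_zero, add_zero, zero_smul, zero_add,
      smul_eq_zero_iff_left he] at h''
    subst h''
    simp only [zero_smul, zero_add, smul_eq_zero_iff_left he] at h
    exact ⟨rfl, rfl, h⟩
  have hco := exists_coords R.card d (A d) (A (A d)) (hind d hd)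
  set H := LinearMap.ker (A * A) with hH
  have hAAC : ∀ v, A (A v) ∈ C := fun v => by
    obtain ⟨x, y, w, rfl⟩ := hco v
    simp only [map_add, map_smul, h3, map_zero, smul_zero, add_zero]
    exact C.smul_mem _ (Submodule.mem_span_singleton_self _)
  have hHm : ∀ v, v ∈ H ↔ A (A v) = 0 := fun v => by rw [hH, LinearMap.mem_ker]; rfl
  have hAH : ∀ v ∈ H, A v ∈ C := fun v hv => by
    obtain ⟨x, y, w, rfl⟩ := hco v
    rw [hHm] at hv
    simp only [map_add, map_smul, h3, map_zero, smul_zero, add_zero,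
      smul_eq_zero_iff_left hd] at hv
    subst hv
    simp only [map_add, map_smul, h3, smul_zero, add_zero, zero_smul, zero_add]
    exact C.smul_mem _ (Submodule.mem_span_singleton_self _)
  have hCA : ∀ v ∈ C, A v = 0 := fun v hv => by
    obtain ⟨r, rfl⟩ := Submodule.mem_span_singleton.1 hv
    rw [map_smul, h3, smul_zero]
  have hCH : C ≤ H := fun v hv => (hHm v).2 (by rw [hCA v hv, map_zero])
  -- the invariant plane is moved
  obtain ⟨g, v, hv, hgv⟩ : ∃ (g : G) (v : W), v ∈ H ∧ R.ρ g v ∉ H := by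
    by_contra h
    push Not at h
    have hu1 : u = 1 := R.eq_one_of_stabSeries hCH hinvC h
      ⟨fun v hv => hCA v hv, fun v hv => hAH v hv, fun v => (hHm _).2 (h3 v)⟩
    exact hd (by rw [hA, R.nil_eq_zero_iff.2 hu1]; rfl)
  set e := R.ρ g v with he
  set L := A e with hL
  set c := A L with hc
  have hc0 : c ≠ 0 := fun h => hgv ((hHm e).2 h)
  have hcC : c ∈ C := hAAC e
  have hspan : ∀ x ∈ C, ∃ r : ZMod p, x = r • c := by
    intro x hx
    obtain ⟨r, hr⟩ := Submodule.mem_span_singleton.1 hcC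
    obtain ⟨s, rfl⟩ := Submodule.mem_span_singleton.1 hx
    have hr0 : r ≠ 0 := fun h => hc0 (by rw [← hr, h, zero_smul])
    exact ⟨s / r, by rw [← hr, smul_smul, div_mul_cancel₀ _ hr0]⟩
  set u' := g * u * g⁻¹ with hu'
  set B := R.nil u' with hB
  obtain ⟨ε, hBe⟩ : ∃ r : ZMod p, B e = r • c := hspan _ (by
    rw [he, hB, hu', nil_conj_apply]; exact hinvC g _ (hAH v hv))
  have hBc : B c = 0 := by
    rw [hB, hu', ← R.apply_inv_self g c, nil_conj_apply, hCA _ (hinvC _ _ hcC), map_zero]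
  obtain ⟨δ, δ', η, hBL⟩ := exists_coords R.card e L c (hind e hc0) (B L)
  have hδ' : δ' = 0 := by
    have h := R.nil_cube_apply (exists_pk_conj hu g) L
    simp only [← hu', ← hB, hBL, map_add, map_smul, hBe, hBc, smul_zero, add_zero, smul_add,
      smul_smul] at h
    have h' : (δ' * δ' * δ) • e + (δ' * δ' * δ') • L + (δ' * δ' * η + δ' * δ * ε) • c = 0 := by
      rw [← h]; module
    have := (hind e hc0 _ _ _ h').2.1
    simpa using this
  have hδ : δ ≠ 0 := by
    intro h0
    refine R.sq_conj_ne hd g ?_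
    rw [← hu', ← hB]
    obtain ⟨x, y, w, hxy⟩ := exists_coords R.card e L c (hind e hc0) (R.ρ g d)
    rw [hxy]
    simp only [map_add, map_smul, hBe, hBL, h0, hδ', hBc, zero_smul, zero_add, smul_zero, add_zero]
  rw [hδ', zero_smul, add_zero] at hBL
  have hpow : ∀ n : ℕ, R.ρ (u' ^ n) c = c ∧ (∃ r : ZMod p, R.ρ (u' ^ n) e = e + r • c) ∧
      ∃ r : ZMod p, R.ρ (u' ^ n) L = L + ((n : ZMod p) * δ) • e + r • c := by
    intro n
    induction n with
    | zero => simp only [pow_zero, map_one, Module.End.one_apply]; exact ⟨trivial, ⟨0, by simp⟩, 0, by simp⟩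
    | succ n ih =>
      obtain ⟨i1, ⟨r, i2⟩, s, i3⟩ := ih
      simp only [pow_succ', map_mul, Module.End.mul_apply, i1, i2, i3]
      refine ⟨by rw [apply_eq, ← hB, hBc, add_zero], ⟨r + ε, ?_⟩,
        ⟨s + η + (n : ZMod p) * δ * ε, ?_⟩⟩
      · rw [apply_eq, ← hB, map_add, map_smul, hBe, hBc, smul_zero, add_zero]
        module
      · rw [apply_eq, ← hB, map_add, map_add, map_smul, map_smul, hBe, hBc, hBL, smul_zero, add_zero,
          Nat.cast_succ]
        module
  obtain ⟨pc, ⟨r₁, pe⟩, r₂, pL⟩ := hpow (-δ⁻¹).val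
  rw [ZMod.natCast_zmod_val, neg_mul, inv_mul_cancel₀ hδ] at pL
  set w := u * u' ^ (-δ⁻¹).val * u with hw
  have ue : R.ρ u e = e + L := by rw [apply_eq]
  have uL : R.ρ u L = L + c := by rw [apply_eq]
  have uc : R.ρ u c = c := by rw [apply_eq, ← hA, hCA c hcC, add_zero]
  obtain ⟨a₁, we⟩ : ∃ r : ZMod p, R.ρ w e = L + r • c := by
    refine ⟨r₁ + r₂ + 1, ?_⟩
    simp only [hw, map_mul, Module.End.mul_apply, ue, uL, uc, pe, pL, map_add, map_smul]
    module
  obtain ⟨a₂, wL⟩ : ∃ r : ZMod p, R.ρ w L = -e + r • c := by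
    refine ⟨r₂ + 1 + 1, ?_⟩
    simp only [hw, map_mul, Module.End.mul_apply, ue, uL, uc, pc, pL, map_add, map_smul]
    module
  have wc : R.ρ w c = c := by simp only [hw, map_mul, Module.End.mul_apply, uc, pc]
  set s := w * w with hs
  obtain ⟨γ₁, se⟩ : ∃ r : ZMod p, R.ρ s e = -e + r • c := ⟨a₂ + a₁, by
    simp only [hs, map_mul, Module.End.mul_apply, we, wL, wc, map_add, map_smul]
    module⟩
  obtain ⟨γ₂, sL⟩ : ∃ r : ZMod p, R.ρ s L = -L + r • c := ⟨a₂ - a₁, by
    simp only [hs, map_mul, Module.End.mul_apply, we, wL, wc, map_add, map_smul, map_neg]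
    module⟩
  have sc : R.ρ s c = c := by simp only [hs, map_mul, Module.End.mul_apply, wc]
  set k := s * u * s⁻¹ * u⁻¹ with hk
  have hk1 : k = 1 := by
    have hdiff : ∀ v, R.ρ (s * u) v - R.ρ (u * s) v ∈ C := fun v => by
      obtain ⟨x, y, t, rfl⟩ := exists_coords R.card e L c (hind e hc0) v
      simp only [map_mul, Module.End.mul_apply, map_add, map_smul, ue, uL, uc, se, sL, sc, map_neg]
      have : ∀ r : ZMod p, r • c ∈ C := fun r => C.smul_mem r hcC
      convert this (x * γ₂ + y * 2) using 1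
      module
    refine R.eq_one_of_stabSeries (le_refl C) hinvC hinvC ⟨?_, ?_, ?_⟩
    · intro v hv
      obtain ⟨r, rfl⟩ := hspan v hv
      have e1 : R.ρ k c = c := by
        have h1 : R.ρ u⁻¹ c = c := by conv_lhs => rw [← uc, R.inv_apply_self]
        have h2 : R.ρ s⁻¹ c = c := by conv_lhs => rw [← sc, R.inv_apply_self]
        simp only [hk, map_mul, Module.End.mul_apply, h1, h2, uc, sc]
      rw [map_smul, nil, LinearMap.sub_apply, Module.End.one_apply, e1, sub_self, smul_zero]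
    all_goals
      intro v
      have h := hdiff (R.ρ ((u * s)⁻¹) v)
      rw [R.apply_inv_self, ← Module.End.mul_apply, ← map_mul] at h
      have e' : s * u * (u * s)⁻¹ = k := by rw [hk]; group
      rw [e'] at h
      first | exact h | exact fun _ => h
  rw [hk, mul_inv_eq_one, mul_inv_eq_iff_eq_mul] at hk1
  have h := LinearMap.congr_fun (congrArg R.ρ hk1) L
  simp only [map_mul, Module.End.mul_apply, uL, sL, sc, uc, map_add, map_smul, map_neg] at h
  refine hc0 (R.half ?_)
  rw [← sub_eq_zero] at h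
  rw [← h]
  module

/-- The invariant plane of a regular unipotent element is moved. -/
theorem moves_plane {u : G} (hu : ∃ k : ℕ, u ^ p ^ k = 1) {d : W} (hd : R.nil u (R.nil u d) ≠ 0) :
    ∃ (g : G) (v : W), R.nil u (R.nil u v) = 0 ∧ R.nil u (R.nil u (R.ρ g v)) ≠ 0 := by
  by_contra hinv
  push Not at hinv
  obtain ⟨g, hg⟩ := R.moves_line hu hd
  set A := R.nil u with hA
  set H := LinearMap.ker (A * A) with hH
  have hHm : ∀ v, v ∈ H ↔ A (A v) = 0 := fun v => by rw [hH, LinearMap.mem_ker]; rfl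
  have hinvH : ∀ g : G, ∀ v ∈ H, R.ρ g v ∈ H := fun g v hv => (hHm _).2 (hinv g v ((hHm v).1 hv))
  have h3 : ∀ v, A (A (A v)) = 0 := R.nil_cube_apply hu
  have hind : ∀ x y w : ZMod p, x • d + y • A d + w • A (A d) = 0 → x = 0 ∧ y = 0 ∧ w = 0 := by
    intro x y w h
    have h' := congrArg (fun v => A (A v)) h
    simp only [map_add, map_smul, h3, map_zero, smul_zero, add_zero, smul_eq_zero_iff_left hd] at h'
    subst h'
    have h'' := congrArg A h
    simp only [map_add, map_smul, h3, map_zero, smul_zero, add_zero, zero_smul, zero_add,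
      smul_eq_zero_iff_left hd] at h''
    subst h''
    simp only [zero_smul, zero_add, smul_eq_zero_iff_left hd] at h
    exact ⟨rfl, rfl, h⟩
  have hco := exists_coords R.card d (A d) (A (A d)) hind
  have hHco : ∀ v ∈ H, ∃ y w : ZMod p, v = y • A d + w • A (A d) := fun v hv => by
    obtain ⟨x, y, w, rfl⟩ := hco v
    rw [hHm] at hv
    simp only [map_add, map_smul, h3, map_zero, smul_zero, add_zero, smul_eq_zero_iff_left hd] at hv
    exact ⟨y, w, by rw [hv, zero_smul, zero_add]⟩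
  set L := R.ρ g (A (A d)) with hL
  have hLH : L ∈ H := hinvH g _ ((hHm _).2 (by rw [h3]))
  obtain ⟨y, w₀, hLyw⟩ := hHco L hLH
  have hy : y ≠ 0 := fun h0 => hg (Submodule.mem_span_singleton.2
    ⟨w₀, by rw [hLyw, h0, zero_smul, zero_add]⟩)
  set c := A L with hc
  have hcy : c = y • A (A d) := by
    rw [hc, hLyw, map_add, map_smul, map_smul, h3, smul_zero, add_zero]
  have hc0 : c ≠ 0 := by rw [hcy]; exact smul_ne_zero hy hd
  have hAc : A c = 0 := by rw [hcy, map_smul, h3, smul_zero]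
  have hHco' : ∀ v ∈ H, ∃ a b : ZMod p, v = a • L + b • c := fun v hv => by
    obtain ⟨a, b, rfl⟩ := hHco v hv
    refine ⟨a / y, (b - a / y * w₀) / y, ?_⟩
    rw [hLyw, hcy, smul_add, smul_smul, smul_smul, smul_smul, div_mul_cancel₀ _ hy,
      div_mul_cancel₀ _ hy, sub_smul]
    abel
  set u' := g * u * g⁻¹ with hu'
  set B := R.nil u' with hB
  have hBL : B L = 0 := by rw [hL, hB, hu', nil_conj_apply, h3, map_zero]
  have hcH : c ∈ H := (hHm _).2 (by rw [hAc, map_zero])
  obtain ⟨δ, hBc⟩ : ∃ r : ZMod p, B c = r • L := by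
    obtain ⟨a, b, hab⟩ := hHco _ (hinvH g⁻¹ _ hcH)
    refine ⟨a, ?_⟩
    rw [hB, hu', ← R.apply_inv_self g c, nil_conj_apply, hab, map_add, map_smul, map_smul, h3,
      smul_zero, add_zero, map_smul]
  have hBW : ∀ v, B v ∈ H := fun v => by
    rw [hB, hu', ← R.apply_inv_self g v, nil_conj_apply]
    exact hinvH g _ ((hHm _).2 (h3 _))
  have hδ : δ ≠ 0 := by
    intro h0
    refine R.sq_conj_ne hd g ?_
    obtain ⟨a, b, hab⟩ := hHco' _ (hBW (R.ρ g d))
    rw [← hu', ← hB, hab, map_add, map_smul, map_smul, hBL, hBc, h0, zero_smul, smul_zero, smul_zero,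
      add_zero]
  have hpow : ∀ n : ℕ, R.ρ (u' ^ n) L = L ∧ R.ρ (u' ^ n) c = c + ((n : ZMod p) * δ) • L := by
    intro n
    induction n with
    | zero => simp
    | succ n ih =>
      obtain ⟨i1, i2⟩ := ih
      rw [pow_succ', map_mul, Module.End.mul_apply, Module.End.mul_apply, i1, i2]
      refine ⟨by rw [apply_eq, ← hB, hBL, add_zero], ?_⟩
      rw [apply_eq, ← hB, map_add, map_smul, hBL, hBc, smul_zero, add_zero, Nat.cast_succ]
      module
  obtain ⟨pL, pc⟩ := hpow (-δ⁻¹).val
  rw [ZMod.natCast_zmod_val, neg_mul, inv_mul_cancel₀ hδ] at pc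
  set w := u * u' ^ (-δ⁻¹).val * u with hw
  have uL : R.ρ u L = L + c := by rw [apply_eq]
  have uc : R.ρ u c = c := by rw [apply_eq, ← hA, hAc, add_zero]
  have wL : R.ρ w L = c := by
    simp only [hw, map_mul, Module.End.mul_apply, uL, uc, pL, pc, map_add, map_smul]
    module
  have wc : R.ρ w c = -L := by
    simp only [hw, map_mul, Module.End.mul_apply, uL, uc, pL, pc, map_add, map_smul]
    module
  set s := w * w with hs
  have sH : ∀ v ∈ H, R.ρ s v = -v := fun v hv => by
    obtain ⟨a, b, rfl⟩ := hHco' v hv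
    simp only [hs, map_mul, Module.End.mul_apply, map_add, map_smul, wL, wc, map_neg]
    module
  have hT : ∀ x ∈ ({u, u'} : Set G), ∀ v, R.ρ x v - v ∈ H := by
    rintro x (rfl | rfl) v
    · rw [apply_eq, add_sub_cancel_left]; exact (hHm _).2 (h3 v)
    · rw [apply_eq, add_sub_cancel_left]; exact hBW v
  have hsd : ∀ v, R.ρ s v - v ∈ H := by
    have : s ∈ Subgroup.closure ({u, u'} : Set G) := by
      have h1 : u ∈ Subgroup.closure ({u, u'} : Set G) := Subgroup.subset_closure (by simp)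
      have h2 : u' ∈ Subgroup.closure ({u, u'} : Set G) := Subgroup.subset_closure (by simp)
      exact mul_mem (mul_mem (mul_mem h1 (pow_mem h2 _)) h1) (mul_mem (mul_mem h1 (pow_mem h2 _)) h1)
    suffices hgen : ∀ x ∈ Subgroup.closure ({u, u'} : Set G), ∀ v, R.ρ x v - v ∈ H from hgen s this
    intro x hx
    induction hx using Subgroup.closure_induction with
    | mem x hx => exact hT x hx
    | one => intro v; simp
    | mul a b _ _ ha hb =>
      intro v
      have := add_mem (ha (R.ρ b v)) (hb v)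
      rwa [sub_add_sub_cancel, ← Module.End.mul_apply, ← map_mul] at this
    | inv a _ ha =>
      intro v
      have := neg_mem (ha (R.ρ a⁻¹ v))
      rwa [R.apply_inv_self, neg_sub] at this
  set k := s * u * s⁻¹ * u⁻¹ with hk
  have hk1 : k = 1 := by
    refine R.eq_one_of_stabSeries (le_refl H) hinvH hinvH ?_
    have e' : ∀ v, R.ρ k (R.ρ u (R.ρ s v)) = R.ρ s (R.ρ u v) := fun v => by
      simp only [← Module.End.mul_apply, ← map_mul]
      congr 2
      rw [hk]
      group
    have hH1 : ∀ v ∈ H, R.nil k v = 0 := fun v hv => by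
      set v' := R.ρ s⁻¹ (R.ρ u⁻¹ v) with hv'
      have hv'H : v' ∈ H := hinvH _ _ (hinvH _ _ hv)
      have hvv : R.ρ u (R.ρ s v') = v := by rw [hv', R.apply_inv_self, R.apply_inv_self]
      have h := e' v'
      rw [hvv, sH _ (hinvH u _ hv'H)] at h
      rw [nil, LinearMap.sub_apply, Module.End.one_apply, h]
      conv_lhs => arg 2; rw [← hvv, sH _ hv'H, map_neg]
      rw [sub_self]
    refine ⟨hH1, fun v hv => by rw [hH1 v hv]; exact zero_mem _, fun v => ?_⟩
    set v' := R.ρ s⁻¹ (R.ρ u⁻¹ v) with hv'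
    have hvv : R.ρ u (R.ρ s v') = v := by rw [hv', R.apply_inv_self, R.apply_inv_self]
    rw [nil, LinearMap.sub_apply, Module.End.one_apply]
    have h1 := add_mem (hsd (R.ρ u v')) (hT u (by simp) v')
    have h2 := add_mem (hT u (by simp) (R.ρ s v')) (hsd v')
    have h := sub_mem h1 h2
    rw [sub_add_sub_cancel, sub_add_sub_cancel, sub_sub_sub_cancel_right, hvv, ← e', hvv] at h
    exact h
  rw [hk, mul_inv_eq_one, mul_inv_eq_iff_eq_mul] at hk1
  have h := LinearMap.congr_fun (congrArg R.ρ hk1) d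
  obtain ⟨h', hh', hsdd⟩ : ∃ h' ∈ H, R.ρ s d = d + h' :=
    ⟨_, hsd d, (add_sub_cancel d _).symm⟩
  rw [map_mul R.ρ s u, map_mul R.ρ u s, Module.End.mul_apply, Module.End.mul_apply, apply_eq _ u d, map_add, hsdd,
    sH (A d) ((hHm _).2 (h3 d)), apply_eq _ u, map_add, ← hA] at h
  refine hd (R.half ?_)
  have h4 := congrArg A h
  rw [map_add, map_add, map_neg, map_add, map_add, map_add, (hHm h').1 hh', add_zero] at h4
  rw [← sub_eq_zero] at h4
  rw [← neg_eq_zero, ← h4]
  abel

end Rep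

end Cfsg.Agent.RankThreeEss
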