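import Cfsg.Agent.Lib.RankThreeEss.Basics
import Cfsg.Agent.Lib.RankTwo.Auto

/-!
# The transvection case: the frame

`exists_frame` : in a `p`-group `N` of sectional rank three with a maximal subgroup `E` on whose Frattini quotient
`N` acts as a transvection, normalized by a diagonal automorphism, the Frattini subgroup of `E` is characteristic
in `N`, and the quotient by it is `p ^ {1+2} × C_p` with the diagonal automorphism.
-/

set_option autoImplicit false
set_option linter.style.haveILetI false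
set_option linter.unusedSectionVars false

namespace Cfsg.Agent.RankThreeEss

open scoped commutatorElement

/-- Coordinates in `p ^ {1+2} × C_p` with a diagonal automorphism. -/
structure Frame (p : ℕ) {Q : Type*} [Group Q] (x a z c : Q) (τ : MulAut Q) (l m : ℕ) : Prop where
  xa : x * a * x⁻¹ = a * z
  xz : Commute x z
  xc : Commute x c
  az : Commute a z
  ac : Commute a c
  zc : Commute z c
  px : x ^ p = 1
  pa : a ^ p = 1
  pz : z ^ p = 1
  pc : c ^ p = 1
  span : ∀ v : Q, ∃ i j k r : ℕ, v = x ^ i * a ^ j * z ^ k * c ^ r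
  ind : ∀ i j k r : ℕ, x ^ i * a ^ j * z ^ k * c ^ r = 1 → p ∣ i ∧ p ∣ j ∧ p ∣ k ∧ p ∣ r
  tx : τ x = x ^ (l * l)
  ta : τ a = a ^ m
  tz : τ z = z ^ l
  tc : τ c = c
  lm : ((m * l : ℕ) : ZMod p) = 1
  l2 : ((l : ℕ) : ZMod p) ^ 2 ≠ 1
  l3 : ((l : ℕ) : ZMod p) ^ 3 ≠ 1
  l5 : ((l : ℕ) : ZMod p) ^ 5 ≠ 1

variable {p : ℕ} [hp : Fact p.Prime]

theorem pow_congr {G : Type*} [Group G] {y : G} (hy : y ^ p = 1) {i j : ℕ}
    (h : (i : ZMod p) = j) : y ^ i = y ^ j := by
  rw [pow_eq_pow_mod i hy, pow_eq_pow_mod j hy]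
  congr 1
  exact (ZMod.natCast_eq_natCast_iff' i j p).1 h

theorem eq_one_of_pow_eq {G : Type*} [Group G] {y : G} (hy : y ^ p = 1) {i j : ℕ}
    (h : y ^ i = y ^ j) (hne : (i : ZMod p) ≠ j) : y = 1 := by
  by_contra h1
  rw [pow_eq_pow_iff_modEq, orderOf_eq_prime hy h1, ← ZMod.natCast_eq_natCast_iff] at h
  exact hne h

variable {N : Type*} [Group N] [Finite N]

/-- The central elements of exponent `p` raised to the power `i` by `α`. -/
def eig (p : ℕ) {G : Type*} [Group G] (α : G →* G) (i : ℕ) : Subgroup G where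
  carrier := {u | u ∈ Subgroup.center G ∧ u ^ p = 1 ∧ α u = u ^ i}
  one_mem' := ⟨one_mem _, one_pow p, by rw [map_one, one_pow]⟩
  mul_mem' := by
    rintro u v ⟨hu, pu, au⟩ ⟨hv, pv, av⟩
    have hc : Commute u v := Subgroup.mem_center_iff.1 hv u
    exact ⟨mul_mem hu hv, by rw [hc.mul_pow, pu, pv, one_mul], by rw [map_mul, au, av, hc.mul_pow]⟩
  inv_mem' := by
    rintro u ⟨hu, pu, au⟩
    exact ⟨inv_mem hu, by rw [inv_pow, pu, inv_one], by rw [map_inv, au, inv_pow]⟩

instance eig_normal {G : Type*} [Group G] (α : G →* G) (i : ℕ) : (eig p α i).Normal :=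
  ⟨fun u hu g => by
    rw [Subgroup.mem_center_iff.1 hu.1 g, mul_inv_cancel_right]; exact hu⟩

theorem eq_one_of_eig {G : Type*} [Group G] {α : G →* G} {y : G} {i j : ℕ}
    (hi : y ∈ eig p α i) (hj : y ∈ eig p α j) (hij : (i : ZMod p) ≠ j) : y = 1 :=
  eq_one_of_pow_eq hi.2.1 (hi.2.2.symm.trans hj.2.2) hij

/-- A product of two eigenvectors is not an eigenvector for a third eigenvalue. -/
theorem eq_one_of_eig_sup {G : Type*} [Group G] {α : G →* G} {y : G} {i j n : ℕ}
    (hy : y ∈ eig p α i ⊔ eig p α j) (hn : y ∈ eig p α n) (hij : (i : ZMod p) ≠ j)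
    (hin : (i : ZMod p) ≠ n) (hjn : (j : ZMod p) ≠ n) : y = 1 := by
  obtain ⟨u, hu, v, hv, rfl⟩ := Subgroup.mem_sup_of_normal_left.1 hy
  have hc : Commute u v := Subgroup.mem_center_iff.1 hv.1 u
  have h := hn.2.2
  rw [map_mul, hu.2.2, hv.2.2, hc.mul_pow] at h
  have e1 : u ^ i * (u ^ n)⁻¹ = v ^ n * (v ^ j)⁻¹ := by
    rw [mul_inv_eq_iff_eq_mul, mul_assoc, ((Commute.pow_pow hc n j).symm.inv_left).eq, ← mul_assoc,
      eq_mul_inv_iff_mul_eq, h, (hc.pow_pow n n).eq]
  have hd : u ^ i * (u ^ n)⁻¹ = 1 := eq_one_of_eig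
    (mul_mem (pow_mem hu i) (inv_mem (pow_mem hu n)))
    (e1 ▸ mul_mem (pow_mem hv n) (inv_mem (pow_mem hv j))) hij
  have hu1 : u = 1 := eq_one_of_pow_eq hu.2.1 (mul_inv_eq_one.1 hd) hin
  rw [hd, eq_comm, mul_inv_eq_one] at e1
  rw [hu1, eq_one_of_pow_eq hv.2.1 e1.symm hjn, one_mul]

theorem exists_frame (five : 5 ≤ p) (hN : IsPGroup p N) (hsr : Cfsg.SectionalPRankLE p 3 N)
    (E : Subgroup N) [E.Normal] (x a z c : N) (ha : a ∈ E) (hz : z ∈ E) (hc : c ∈ E)
    (hxa : (a * z)⁻¹ * (x * a * x⁻¹) ∈ (frattini E).map E.subtype)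
    (hxz : ⁅x, z⁆ ∈ (frattini E).map E.subtype) (hxc : ⁅x, c⁆ ∈ (frattini E).map E.subtype)
    (hspan : ∀ e ∈ E, ∃ i j k : ℕ, (a ^ i * z ^ j * c ^ k)⁻¹ * e ∈ (frattini E).map E.subtype)
    (hind : ∀ i j k : ℕ, a ^ i * z ^ j * c ^ k ∈ (frattini E).map E.subtype → p ∣ i ∧ p ∣ j ∧ p ∣ k)
    (hgen : ∀ v : N, ∃ i : ℕ, (x ^ i)⁻¹ * v ∈ E) (hxE : x ∉ E) (hxp : x ^ p ∈ E)
    (τ : MulAut N) (hτE : ∀ e ∈ E, τ e ∈ E) {l m : ℕ}
    (hτa : (a ^ m)⁻¹ * τ a ∈ (frattini E).map E.subtype)
    (hτz : (z ^ l)⁻¹ * τ z ∈ (frattini E).map E.subtype)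
    (hτc : c⁻¹ * τ c ∈ (frattini E).map E.subtype)
    (hτx : (x ^ (l * l))⁻¹ * τ x ∈ E)
    (lm : ((m * l : ℕ) : ZMod p) = 1) (l2 : ((l : ℕ) : ZMod p) ^ 2 ≠ 1)
    (l3 : ((l : ℕ) : ZMod p) ^ 3 ≠ 1) (l5 : ((l : ℕ) : ZMod p) ^ 5 ≠ 1) :
    ∃ (K : Subgroup N) (hK : K.Characteristic), K ≤ frattini N ∧ K ≤ E ∧
      ∃ x₁ a₁ z₁ c₁ : N ⧸ K, Frame p x₁ a₁ z₁ c₁ (RankTwo.quotientAut K (hN := hK) τ) l m ∧
        ∀ v : N, v ∈ E ↔ ∃ j k r : ℕ, (v : N ⧸ K) = a₁ ^ j * z₁ ^ k * c₁ ^ r := by
  have hpp : p.Prime := hp.out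
  have hp2 : p ≠ 2 := by omega
  have hEp : IsPGroup p E := hN.to_subgroup E
  -- arithmetic of the eigenvalues
  set n := l * l with hn
  have lz : (l : ZMod p) ≠ 0 := fun h => by
    rw [Nat.cast_mul, h, mul_zero] at lm; exact zero_ne_one lm
  have hlm : (m : ZMod p) * (l : ZMod p) = 1 := by rw [← Nat.cast_mul]; exact lm
  have hnl : (n : ZMod p) = (l : ZMod p) * l := by rw [hn, Nat.cast_mul]
  have l1 : (l : ZMod p) ≠ 1 := fun h => l2 (by rw [h, one_pow])
  have m1 : (m : ZMod p) ≠ ((1 : ℕ) : ZMod p) := fun h => l1 (by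
    rw [Nat.cast_one] at h; rw [← hlm, h, one_mul])
  have mn : (m : ZMod p) ≠ (n : ZMod p) := fun h => l3 (by
    rw [hnl] at h; rw [h] at hlm; rw [← hlm]; ring)
  have n1 : (n : ZMod p) ≠ ((1 : ℕ) : ZMod p) := fun h => l2 (by
    rw [hnl, Nat.cast_one] at h; rw [← h]; ring)
  have ln : (l : ZMod p) ≠ (n : ZMod p) := fun h => l1 (by
    rw [hnl] at h; exact mul_right_cancel₀ lz (by rw [one_mul]; exact h.symm))
  -- the quotient by the Frattini subgroup of `E`
  set K := (frattini E).map E.subtype with hKdef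
  haveI hKN : K.Normal := inferInstance
  have hKE : K ≤ E := Subgroup.map_subtype_le _
  let σ : N →* N ⧸ K := QuotientGroup.mk' K
  have hσ1 : ∀ v : N, σ v = 1 ↔ v ∈ K := fun v => QuotientGroup.eq_one_iff v
  have hσeq : ∀ u v : N, u⁻¹ * v ∈ K → σ u = σ v := fun u v h => QuotientGroup.eq.2 h
  have hσE : ∀ u ∈ E, ∀ v ∈ E, Commute (σ u) (σ v) := fun u hu v hv => by
    refine commutatorElement_eq_one_iff_commute.1 ?_
    rw [← map_commutatorElement, hσ1]
    exact ⟨⁅(⟨u, hu⟩ : E), ⟨v, hv⟩⁆, PGroup.commutatorElement_mem_frattini hEp _ _,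
      map_commutatorElement E.subtype _ _⟩
  have hσp : ∀ u ∈ E, σ u ^ p = 1 := fun u hu => by
    rw [← map_pow, hσ1]
    exact ⟨(⟨u, hu⟩ : E) ^ p, PGroup.pow_mem_frattini hEp _, map_pow E.subtype _ p⟩
  have sa : σ x * σ a * (σ x)⁻¹ = σ a * σ z := by
    rw [← map_mul, ← map_inv, ← map_mul, ← map_mul]; exact (hσeq _ _ hxa).symm
  have sz : Commute (σ x) (σ z) := commutatorElement_eq_one_iff_commute.1 (by
    rw [← map_commutatorElement, hσ1]; exact hxz)
  have sc : Commute (σ x) (σ c) := commutatorElement_eq_one_iff_commute.1 (by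
    rw [← map_commutatorElement, hσ1]; exact hxc)
  have hco : ∀ e ∈ E, ∃ i j k : ℕ, σ e = σ a ^ i * σ z ^ j * σ c ^ k := fun e he => by
    obtain ⟨i, j, k, h⟩ := hspan e he
    exact ⟨i, j, k, by rw [← hσeq _ _ h, map_mul, map_mul, map_pow, map_pow, map_pow]⟩
  have hind' : ∀ i j k : ℕ, σ a ^ i * σ z ^ j * σ c ^ k = 1 → p ∣ i ∧ p ∣ j ∧ p ∣ k := fun i j k h =>
    hind i j k (by rw [← hσ1, map_mul, map_mul, map_pow, map_pow, map_pow, h])
  have hzcen : ∀ v : N, Commute (σ z) (σ v) := fun v => by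
    obtain ⟨i, hi⟩ := hgen v
    rw [show v = x ^ i * ((x ^ i)⁻¹ * v) by group, map_mul, map_pow]
    exact (sz.symm.pow_right i).mul_right (hσE z hz _ hi)
  haveI hZn : (Subgroup.zpowers (σ z)).Normal := ⟨fun w hw g => by
    obtain ⟨g, rfl⟩ := QuotientGroup.mk'_surjective K g
    obtain ⟨i, rfl⟩ := Subgroup.mem_zpowers_iff.1 hw
    show σ g * σ z ^ i * (σ g)⁻¹ ∈ _
    rw [← ((hzcen g).zpow_left i).eq, mul_inv_cancel_right]
    exact zpow_mem (Subgroup.mem_zpowers _) i⟩
  -- commutators lie in `⟨z⟩`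
  let δ : (N ⧸ K) →* (N ⧸ K) ⧸ Subgroup.zpowers (σ z) := QuotientGroup.mk' _
  have hδz : δ (σ z) = 1 := (QuotientGroup.eq_one_iff _).2 (Subgroup.mem_zpowers _)
  have hδc : ∀ u v : N, Commute (δ (σ u)) (δ (σ v)) := by
    have hxe : ∀ e ∈ E, Commute (δ (σ x)) (δ (σ e)) := by
      intro e he
      obtain ⟨i, j, k, h⟩ := hco e he
      rw [h, map_mul, map_mul, map_pow, map_pow, map_pow]
      refine (Commute.mul_right (Commute.pow_right ?_ i) (Commute.pow_right ?_ j)).mul_right
        (Commute.pow_right ?_ k)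
      · show δ (σ x) * δ (σ a) = δ (σ a) * δ (σ x)
        rw [← mul_inv_eq_iff_eq_mul, ← map_mul, ← map_inv, ← map_mul, sa, map_mul, hδz, mul_one]
      · exact sz.map δ
      · exact sc.map δ
    intro u v
    obtain ⟨i, hi⟩ := hgen u
    obtain ⟨j, hj⟩ := hgen v
    obtain ⟨eu, heu, rfl⟩ : ∃ e ∈ E, u = x ^ i * e := ⟨_, hi, by group⟩
    obtain ⟨ev, hev, rfl⟩ : ∃ e ∈ E, v = x ^ j * e := ⟨_, hj, by group⟩
    simp only [map_mul, map_pow]
    exact Commute.mul_left (((Commute.refl _).pow_pow i j).mul_right ((hxe _ hev).pow_left i))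
      (((hxe _ heu).symm.pow_right j).mul_right ((hσE _ heu _ hev).map δ))
  have hσcc : ∀ u v w : N, Commute (σ w) ⁅σ u, σ v⁆ := fun u v w => by
    have h : δ ⁅σ u, σ v⁆ = 1 := by
      rw [map_commutatorElement, commutatorElement_eq_one_iff_commute]; exact hδc u v
    obtain ⟨i, hi⟩ := Subgroup.mem_zpowers_iff.1 ((QuotientGroup.eq_one_iff _).1 h)
    rw [← hi]
    exact (hzcen w).symm.zpow_right i
  have hσcp : ∀ u v : N, ⁅σ u, σ v⁆ ^ p = 1 := fun u v => by
    have h : δ ⁅σ u, σ v⁆ = 1 := by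
      rw [map_commutatorElement, commutatorElement_eq_one_iff_commute]; exact hδc u v
    obtain ⟨i, hi⟩ := Subgroup.mem_zpowers_iff.1 ((QuotientGroup.eq_one_iff _).1 h)
    rw [← hi, ← zpow_natCast, zpow_comm, zpow_natCast, hσp z hz, one_zpow]
  have hmulp : ∀ u v : N, σ (u * v) ^ p = σ u ^ p * σ v ^ p := fun u v => by
    rw [map_mul]
    exact PGroup.mul_pow_prime_eq hpp hp2 (hσcc v u u) (hσcc v u v) (hσcp v u)
  -- the action of `τ`
  have hτK : ∀ v ∈ K, τ v ∈ K := by
    rintro _ ⟨v, hv, rfl⟩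
    let τE : MulAut E := MulEquiv.ofBijective
      ((τ.toMonoidHom.comp E.subtype).codRestrict E fun e => hτE e e.2)
      ((Finite.injective_iff_bijective).1 fun e e' h => Subtype.ext (τ.injective (congrArg Subtype.val h)))
    exact ⟨τE v, (Subgroup.characteristic_iff_comap_eq.1 (inferInstance : (frattini E).Characteristic) τE).ge hv, rfl⟩
  let τK : (N ⧸ K) →* (N ⧸ K) := QuotientGroup.map K K τ.toMonoidHom hτK
  have hτKσ : ∀ v : N, τK (σ v) = σ (τ v) := fun v => rfl
  have ta : τK (σ a) = σ a ^ m := by rw [hτKσ, ← hσeq _ _ hτa, map_pow]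
  have tz : τK (σ z) = σ z ^ l := by rw [hτKσ, ← hσeq _ _ hτz, map_pow]
  have tc : τK (σ c) = σ c := by rw [hτKσ, ← hσeq _ _ hτc]
  obtain ⟨e, he, hτe⟩ : ∃ e ∈ E, τ x = x ^ n * e := ⟨_, hτx, by group⟩
  have neg1 : ((p - 1 : ℕ) : ZMod p) = -1 := by
    rw [Nat.cast_sub hpp.one_le, ZMod.natCast_self, Nat.cast_one, zero_sub]
  -- the quotient has exponent `p`
  have hxpK : σ x ^ p = 1 := by
    obtain ⟨i, j, k, h⟩ := hco _ hxp
    have hi : p ∣ i := by
      have h1 : σ x * σ (x ^ p) * (σ x)⁻¹ = σ (x ^ p) := by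
        rw [map_pow, ((Commute.refl (σ x)).pow_right p).eq, mul_inv_cancel_right]
      rw [h, show σ x * (σ a ^ i * σ z ^ j * σ c ^ k) * (σ x)⁻¹ =
          (σ x * σ a * (σ x)⁻¹) ^ i * (σ x * σ z * (σ x)⁻¹) ^ j * (σ x * σ c * (σ x)⁻¹) ^ k by
            rw [conj_pow, conj_pow, conj_pow]; group,
        sa, sz.eq, mul_inv_cancel_right, sc.eq, mul_inv_cancel_right, (hσE a ha z hz).mul_pow,
        mul_assoc (σ a ^ i) (σ z ^ i), ((Commute.refl (σ z)).pow_pow i j).eq, ← mul_assoc] at h1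
      exact (hind' 0 i 0 (by
        have := mul_right_cancel h1
        rw [mul_eq_left] at this
        simpa using this)).2.1
    obtain ⟨i', rfl⟩ := hi
    rw [pow_mul, hσp a ha, one_pow, one_mul] at h
    rw [← map_pow, h]
    have h1 : τK (σ (x ^ p)) = σ (x ^ p) ^ n := by
      rw [hτKσ, map_pow τ, map_pow σ, hτe, hmulp, hσp e he, mul_one, map_pow, map_pow, ← pow_mul,
        ← pow_mul, mul_comm]
    rw [h, map_mul, map_pow, map_pow, tz, tc, ((hσE z hz c hc).pow_pow j k).mul_pow, ← pow_mul,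
      ← pow_mul, ← pow_mul] at h1
    have hjk : σ z ^ j = 1 ∧ σ c ^ k = 1 := by
      obtain ⟨-, h2, h3⟩ := hind' 0 (l * j + (p - 1) * (j * n)) (k + (p - 1) * (k * n)) (by
        rw [pow_zero, one_mul, pow_add, pow_add,
          (((hσE z hz c hc).pow_pow ((p - 1) * (j * n)) k)).mul_mul_mul_comm, h1,
          ← (((hσE z hz c hc).pow_pow ((p - 1) * (j * n)) (k * n))).mul_mul_mul_comm, ← pow_add, ← pow_add]
        have e : ∀ q : ℕ, q + (p - 1) * q = p * q := fun q => by
          rw [Nat.sub_mul, one_mul, Nat.add_sub_cancel' (Nat.le_mul_of_pos_left _ hpp.pos)]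
        rw [e, e, pow_mul (σ z) p, pow_mul (σ c) p, hσp z hz, hσp c hc, one_pow, one_pow, one_mul])
      rw [← ZMod.natCast_eq_zero_iff] at h2 h3
      push_cast [neg1] at h2 h3
      constructor
      · refine (pow_congr (hσp z hz) (j := 0) ?_).trans (pow_zero _)
        have : (j : ZMod p) * ((l : ZMod p) - n) = 0 := by linear_combination h2
        rw [Nat.cast_zero]
        exact (mul_eq_zero.1 this).resolve_right fun h' => ln (sub_eq_zero.1 h')
      · refine (pow_congr (hσp c hc) (j := 0) ?_).trans (pow_zero _)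
        have : (k : ZMod p) * (1 - n) = 0 := by linear_combination h3
        rw [Nat.cast_zero]
        exact (mul_eq_zero.1 this).resolve_right fun h' => n1 (by
          rw [Nat.cast_one]; exact (sub_eq_zero.1 h').symm)
    rw [hjk.1, hjk.2, one_mul]
  have hexp : ∀ v : N, σ v ^ p = 1 := fun v => by
    obtain ⟨i, hi⟩ := hgen v
    rw [show v = x ^ i * ((x ^ i)⁻¹ * v) by group, hmulp, hσp _ hi, mul_one, map_pow, ← pow_mul,
      mul_comm, pow_mul, hxpK, one_pow]
  -- choose `x` as an eigenvector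
  obtain ⟨y, hyE, ya, yz, yc, ty⟩ : ∃ y : N, x⁻¹ * y ∈ E ∧ σ y * σ a * (σ y)⁻¹ = σ a * σ z ∧
      Commute (σ y) (σ z) ∧ Commute (σ y) (σ c) ∧ τK (σ y) = σ y ^ n := by
    obtain ⟨r, w, s, hr⟩ := hco e he
    set i := ((r : ZMod p) / ((n : ZMod p) - m)).val with hi
    set j := ((s : ZMod p) / ((n : ZMod p) - 1)).val with hj
    set t := (((w : ZMod p) + (i : ZMod p) * (n.choose 2 : ℕ)) / ((n : ZMod p) - l)).val with ht
    set f := a ^ i * z ^ t * c ^ j with hf
    have hfE : f ∈ E := mul_mem (mul_mem (pow_mem ha i) (pow_mem hz t)) (pow_mem hc j)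
    have hfz : Commute (σ f) (σ z) := hσE f hfE z hz
    refine ⟨x * f, by rw [inv_mul_cancel_left]; exact hfE, ?_, ?_, ?_, ?_⟩
    · rw [map_mul, show σ x * σ f * σ a * (σ x * σ f)⁻¹ = σ x * (σ f * σ a * (σ f)⁻¹) * (σ x)⁻¹ by group,
        (hσE f hfE a ha).eq, mul_inv_cancel_right, sa]
    · rw [map_mul]; exact sz.mul_left hfz
    · rw [map_mul]; exact sc.mul_left (hσE f hfE c hc)
    · have hxf : ⁅σ f, σ x⁆ = σ z ^ ((p - 1) * i) := by
        have h1 : σ x * σ f * (σ x)⁻¹ = σ f * σ z ^ i := by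
          rw [hf, map_mul, map_mul, map_pow, map_pow, map_pow,
            show σ x * (σ a ^ i * σ z ^ t * σ c ^ j) * (σ x)⁻¹ =
              (σ x * σ a * (σ x)⁻¹) ^ i * (σ x * σ z * (σ x)⁻¹) ^ t * (σ x * σ c * (σ x)⁻¹) ^ j by
                rw [conj_pow, conj_pow, conj_pow]; group,
            sa, sz.eq, mul_inv_cancel_right, sc.eq, mul_inv_cancel_right, (hσE a ha z hz).mul_pow,
            mul_assoc (σ a ^ i), ((Commute.refl (σ z)).pow_pow i t).eq, ← mul_assoc, mul_assoc _ _ (σ c ^ j),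
            ((hσE z hz c hc).pow_pow i j).eq, ← mul_assoc]
        rw [commutatorElement_def, show σ f * σ x * (σ f)⁻¹ * (σ x)⁻¹ = σ f * (σ x * σ f * (σ x)⁻¹)⁻¹ by group,
          h1, mul_inv_rev, ((hfz.pow_right i).inv_inv.symm).eq, mul_inv_cancel_left, inv_eq_iff_mul_eq_one,
          ← pow_add, show i + (p - 1) * i = p * i by
            rw [Nat.sub_mul, one_mul, Nat.add_sub_cancel' (Nat.le_mul_of_pos_left _ hpp.pos)],
          pow_mul, hσp z hz, one_pow]
      rw [map_mul σ x f]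
      conv_rhs => rw [PGroup.mul_pow_eq (x := σ x) (y := σ f) (hσcc f x x) (hσcc f x f) n, hxf]
      rw [map_mul, hτKσ x, hτe, map_mul σ, hr, hf]
      simp only [map_mul, map_pow, ta, tz, tc]
      rw [(((hσE a ha c hc).pow_pow i j).mul_left ((hσE z hz c hc).pow_pow t j)).mul_pow,
        ((hσE a ha z hz).pow_pow i t).mul_pow, ← pow_mul, ← pow_mul, ← pow_mul, ← pow_mul, ← pow_mul,
        ← pow_mul, ← ((hzcen x).pow_pow _ n).symm.eq]
      simp only [mul_assoc]
      congr 1
      -- compare the coordinates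
      have hA : Commute (σ a) (σ z) := hσE a ha z hz
      have hC : Commute (σ z) (σ c) := hσE z hz c hc
      have hAC : Commute (σ a) (σ c) := hσE a ha c hc
      calc σ a ^ r * (σ z ^ w * (σ c ^ s * (σ a ^ (m * i) * (σ z ^ (l * t) * σ c ^ j))))
          = σ a ^ (r + m * i) * (σ z ^ (w + l * t) * σ c ^ (s + j)) := by
            rw [pow_add, pow_add, pow_add, ← mul_assoc (σ c ^ s), (hAC.symm.pow_pow s (m * i)).eq, mul_assoc,
              ← mul_assoc (σ z ^ w), (hA.symm.pow_pow w (m * i)).eq, mul_assoc, ← mul_assoc (σ c ^ s),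
              (hC.symm.pow_pow s (l * t)).eq]
            simp only [mul_assoc]
        _ = σ a ^ (i * n) * (σ z ^ ((p - 1) * i * n.choose 2 + t * n) * σ c ^ (j * n)) := by
            have h0 : (n : ZMod p) - m ≠ 0 := sub_ne_zero.2 mn.symm
            have h1 : (n : ZMod p) - 1 ≠ 0 := by rw [sub_ne_zero]; simpa using n1
            have h2 : (n : ZMod p) - l ≠ 0 := sub_ne_zero.2 ln.symm
            have ei : (i : ZMod p) * ((n : ZMod p) - m) = r := by
              rw [hi, ZMod.natCast_zmod_val, div_mul_cancel₀ _ h0]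
            have ej : (j : ZMod p) * ((n : ZMod p) - 1) = s := by
              rw [hj, ZMod.natCast_zmod_val, div_mul_cancel₀ _ h1]
            have et : (t : ZMod p) * ((n : ZMod p) - l) = w + (i : ZMod p) * (n.choose 2 : ℕ) := by
              rw [ht, ZMod.natCast_zmod_val, div_mul_cancel₀ _ h2]
            rw [pow_congr (hσp a ha) (i := r + m * i) (j := i * n) (by push_cast; linear_combination -ei),
              pow_congr (hσp z hz) (i := w + l * t) (j := (p - 1) * i * n.choose 2 + t * n)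
                (by push_cast [neg1]; linear_combination -et),
              pow_congr (hσp c hc) (i := s + j) (j := j * n) (by push_cast; linear_combination -ej)]
        _ = _ := by
            rw [pow_add]
            simp only [mul_assoc]
            rw [(hA.pow_pow _ _).left_comm]
  have hgy : ∀ v : N, ∃ i : ℕ, (y ^ i)⁻¹ * v ∈ E := by
    intro v
    obtain ⟨i, hi⟩ := hgen v
    refine ⟨i, ?_⟩
    let τE : N →* N ⧸ E := QuotientGroup.mk' E
    refine QuotientGroup.eq.1 ?_
    show τE (y ^ i) = τE v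
    rw [map_pow, ← show τE x = τE y from QuotientGroup.eq.2 hyE, ← map_pow]
    exact QuotientGroup.eq.2 hi
  have hKfr : K ≤ frattini N := by
    rw [hKdef, PGroup.frattini_eq hEp, Subgroup.map_sup, MonoidHom.map_closure]
    refine sup_le ?_ ((Subgroup.closure_le _).2 ?_)
    · rw [_root_.commutator_def, Subgroup.map_commutator]
      exact (Subgroup.commutator_mono le_top le_top).trans
        (le_of_eq_of_le (_root_.commutator_def N).symm (PGroup.commutator_le_frattini hN))
    · rintro _ ⟨_, ⟨v, rfl⟩, rfl⟩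
      exact (map_pow E.subtype v p).symm ▸ PGroup.pow_mem_frattini hN _
  have hzfr : z ∈ frattini N := by
    have h1 : ⁅a⁻¹, x⁆ ∈ frattini N := PGroup.commutatorElement_mem_frattini hN _ _
    have h2 : (⁅a⁻¹, x⁆)⁻¹ * z ∈ K := by
      refine QuotientGroup.eq.1 ?_
      show σ ⁅a⁻¹, x⁆ = σ z
      simp only [commutatorElement_def, map_mul, map_inv, inv_inv]
      rw [mul_assoc _ (σ x), mul_assoc _ _ (σ x)⁻¹, sa, inv_mul_cancel_left]
    have := mul_mem h1 (hKfr h2)
    rwa [mul_inv_cancel_left] at this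
  set D := (Subgroup.zpowers (σ z)).comap σ with hD
  have hKD : K ≤ D := fun v hv => by
    rw [hD, Subgroup.mem_comap, (hσ1 v).2 hv]; exact one_mem _
  have hzD : z ∈ D := Subgroup.mem_zpowers (σ z)
  have hDE : D ≤ E := fun v hv => by
    obtain ⟨i, hi⟩ := Subgroup.mem_zpowers_iff.1 (hv : σ v ∈ _)
    have h1 : (z ^ i)⁻¹ * v ∈ K := QuotientGroup.eq.1 (by
      show σ (z ^ i) = σ v
      rw [map_zpow, hi])
    have := mul_mem (zpow_mem hz i) (hKE h1)
    rwa [mul_inv_cancel_left] at this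
  have hfr : frattini N = D := by
    refine le_antisymm (PGroup.frattini_le_of_quotient_elementary (p := p) ?_ fun v => ?_) fun v hv => ?_
    · rw [_root_.commutator_def, Subgroup.commutator_le]
      intro u _ v _
      refine Subgroup.mem_comap.2 ((QuotientGroup.eq_one_iff _).1 ?_)
      show δ (σ ⁅u, v⁆) = 1
      rw [map_commutatorElement, map_commutatorElement, commutatorElement_eq_one_iff_commute]
      exact hδc u v
    · exact Subgroup.mem_comap.2 (by rw [map_pow, hexp]; exact one_mem _)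
    · obtain ⟨i, hi⟩ := Subgroup.mem_zpowers_iff.1 (hv : σ v ∈ _)
      have h1 : (z ^ i)⁻¹ * v ∈ K := QuotientGroup.eq.1 (by
      show σ (z ^ i) = σ v
      rw [map_zpow, hi])
      have := mul_mem (zpow_mem hzfr i) (hKfr h1)
      rwa [mul_inv_cancel_left] at this
  -- the layer below `Φ(N)`
  set Ψ := psi p N with hΨ
  have hΨK : Ψ ≤ K := by
    rw [hΨ, psi, hfr]
    refine sup_le ?_ ((Subgroup.closure_le _).2 ?_)
    · rw [Subgroup.commutator_le]
      intro u hu v _
      rw [← hσ1, map_commutatorElement, commutatorElement_eq_one_iff_commute]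
      obtain ⟨i, hi⟩ := Subgroup.mem_zpowers_iff.1 (hu : σ u ∈ _)
      rw [← hi]
      exact (hzcen v).zpow_left i
    · rintro _ ⟨u, hu, rfl⟩
      exact (hσ1 _).1 (by rw [map_pow]; exact hexp u)
  let q : N →* N ⧸ Ψ := QuotientGroup.mk' Ψ
  have hq1 : ∀ v : N, q v = 1 ↔ v ∈ Ψ := fun v => QuotientGroup.eq_one_iff v
  have hFcen : ∀ v ∈ frattini N, ∀ w : N, Commute (q v) (q w) := fun v hv w =>
    commutatorElement_eq_one_iff_commute.1 (by
      rw [← map_commutatorElement, hq1]; exact commutator_mem_psi hv w)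
  have hcenq : ∀ v ∈ frattini N, q v ∈ Subgroup.center (N ⧸ Ψ) := fun v hv =>
    Subgroup.mem_center_iff.2 fun g => by
      obtain ⟨g, rfl⟩ := QuotientGroup.mk'_surjective Ψ g
      exact (hFcen v hv g).eq.symm
  have hFp : ∀ v ∈ frattini N, q v ^ p = 1 := fun v hv => by rw [← map_pow, hq1]; exact pow_mem_psi hv
  have hcc : ∀ u v w : N, Commute (q w) ⁅q u, q v⁆ := fun u v w => by
    rw [← map_commutatorElement]
    exact (hFcen _ (PGroup.commutatorElement_mem_frattini hN u v) w).symm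
  let P : N →* N ⧸ Ψ := MonoidHom.mk' (fun v => q (v ^ p)) fun u v => by
    rw [map_pow, map_mul, PGroup.mul_pow_prime_eq hpp hp2 (hcc v u u) (hcc v u v) (by
      rw [← map_commutatorElement]
      exact hFp _ (PGroup.commutatorElement_mem_frattini hN v u)), map_pow, map_pow]
  have hP : ∀ v : N, P v = q (v ^ p) := fun _ => rfl
  have hPfr : ∀ v ∈ frattini N, P v = 1 := fun v hv => by rw [hP, map_pow]; exact hFp v hv
  haveI : (psi p N).Characteristic := inferInstance
  let τq : (N ⧸ Ψ) →* (N ⧸ Ψ) := (RankTwo.quotientAut Ψ τ).toMonoidHom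
  have hτq : ∀ v : N, τq (q v) = q (τ v) := fun v => rfl
  have hτP : ∀ v : N, τq (P v) = P (τ v) := fun v => by rw [hP, hτq, map_pow, hP]
  have hKq : ∀ u v : N, u⁻¹ * v ∈ frattini N → P u = P v ∧ ∀ w, ⁅q u, q w⁆ = ⁅q v, q w⁆ := by
    intro u v h
    obtain ⟨f, hf, rfl⟩ : ∃ f ∈ frattini N, v = u * f := ⟨_, h, (mul_inv_cancel_left _ _).symm⟩
    refine ⟨by rw [map_mul, hPfr f hf, mul_one], fun w => ?_⟩
    rw [map_mul, PGroup.commutator_mul_left (hcc f w u),
      commutatorElement_eq_one_iff_commute.2 (hFcen f hf w), one_mul]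
  have hty : (y ^ n)⁻¹ * τ y ∈ K := QuotientGroup.eq.1 (by
    show σ (y ^ n) = σ (τ y); rw [map_pow, ← ty, hτKσ])
  have heig : ∀ (v : N) (i : ℕ), (v ^ i)⁻¹ * τ v ∈ K → P v ∈ eig p τq i ∧ ⁅q v, q c⁆ ∈ eig p τq i := by
    intro v i hv
    refine ⟨⟨hcenq _ (PGroup.pow_mem_frattini hN v), ?_, ?_⟩, ?_, ?_, ?_⟩
    · rw [hP]; exact hFp _ (PGroup.pow_mem_frattini hN v)
    · rw [hτP, ← (hKq _ _ (hKfr hv)).1, map_pow]
    · rw [← map_commutatorElement]; exact hcenq _ (PGroup.commutatorElement_mem_frattini hN _ _)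
    · rw [← map_commutatorElement]; exact hFp _ (PGroup.commutatorElement_mem_frattini hN _ _)
    · rw [map_commutatorElement, hτq, hτq, ← (hKq _ _ (hKfr hv)).2, ← commutatorElement_inv,
        ← (hKq _ _ (hKfr hτc)).2, commutatorElement_inv, map_pow,
        PGroup.commutator_pow_left (hcc v c v)]
  obtain ⟨hPy, hyc'⟩ := heig y n hty
  obtain ⟨hPa, hac'⟩ := heig a m hτa
  obtain ⟨hPc, -⟩ := heig c 1 (by rw [pow_one]; exact hτc)
  have hKT : ∀ T : Subgroup (N ⧸ Ψ), T.Normal → P a ∈ T → ⁅q a, q c⁆ ∈ T → P c ∈ T → K.map q ≤ T := by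
    intro T hTn h1 h2 h3
    let f : E →* (N ⧸ Ψ) ⧸ T := (QuotientGroup.mk' T).comp (q.comp E.subtype)
    have hgenE : Subgroup.closure ({⟨a, ha⟩, ⟨z, hz⟩, ⟨c, hc⟩} : Set E) = ⊤ := by
      refine frattini_nongenerating (eq_top_iff.2 fun e _ => ?_)
      obtain ⟨i, j, k, h⟩ := hspan e e.2
      obtain ⟨w, hw, hwe⟩ := h
      have hmem : (⟨a, ha⟩ : E) ^ i * ⟨z, hz⟩ ^ j * ⟨c, hc⟩ ^ k ∈
          Subgroup.closure ({⟨a, ha⟩, ⟨z, hz⟩, ⟨c, hc⟩} : Set E) :=
        mul_mem (mul_mem (pow_mem (Subgroup.subset_closure (by simp)) _)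
          (pow_mem (Subgroup.subset_closure (by simp)) _)) (pow_mem (Subgroup.subset_closure (by simp)) _)
      have := mul_mem (Subgroup.mem_sup_left hmem) (Subgroup.mem_sup_right (S := Subgroup.closure _) hw)
      convert this using 1
      refine Subtype.ext ?_
      simp only [Subgroup.coe_mul, Subgroup.coe_pow]
      rw [show (w : N) = (a ^ i * z ^ j * c ^ k)⁻¹ * e from hwe, mul_inv_cancel_left]
    have hzf : ∀ b : E, Commute (f ⟨z, hz⟩) (f b) := fun b => (hFcen z hzfr b).map (QuotientGroup.mk' T)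
    have hacf : Commute (f ⟨a, ha⟩) (f ⟨c, hc⟩) := by
      refine commutatorElement_eq_one_iff_commute.1 ?_
      show ⁅QuotientGroup.mk' T (q a), QuotientGroup.mk' T (q c)⁆ = 1
      rw [← map_commutatorElement]
      exact (QuotientGroup.eq_one_iff _).2 h2
    have hgens : ∀ u ∈ ({⟨a, ha⟩, ⟨z, hz⟩, ⟨c, hc⟩} : Set E), ∀ v ∈ ({⟨a, ha⟩, ⟨z, hz⟩, ⟨c, hc⟩} : Set E),
        Commute (f u) (f v) := by
      rintro u (rfl | rfl | rfl) v (rfl | rfl | rfl) <;>
        first
          | exact Commute.refl _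
          | exact hzf _
          | exact (hzf _).symm
          | exact hacf
          | exact hacf.symm
    have hfc : ∀ u v : E, Commute (f u) (f v) := by
      intro u v
      have hu : u ∈ Subgroup.closure ({⟨a, ha⟩, ⟨z, hz⟩, ⟨c, hc⟩} : Set E) := hgenE ▸ Subgroup.mem_top u
      have hv : v ∈ Subgroup.closure ({⟨a, ha⟩, ⟨z, hz⟩, ⟨c, hc⟩} : Set E) := hgenE ▸ Subgroup.mem_top v
      induction hu using Subgroup.closure_induction with
      | mem y hy =>
        induction hv using Subgroup.closure_induction with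
        | mem w hw => exact hgens y hy w hw
        | one => rw [map_one]; exact Commute.one_right _
        | mul w w' _ _ h h' => rw [map_mul]; exact h.mul_right h'
        | inv w _ h => rw [map_inv]; exact h.inv_right
      | one => rw [map_one]; exact Commute.one_left _
      | mul y y' _ _ h h' => rw [map_mul]; exact h.mul_left h'
      | inv y _ h => rw [map_inv]; exact h.inv_left
    have hfp : ∀ u : E, f u ^ p = 1 := by
      intro u
      have hu : u ∈ Subgroup.closure ({⟨a, ha⟩, ⟨z, hz⟩, ⟨c, hc⟩} : Set E) := hgenE ▸ Subgroup.mem_top u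
      induction hu using Subgroup.closure_induction with
      | mem y hy =>
        rcases hy with rfl | rfl | rfl
        all_goals show QuotientGroup.mk' T (q _) ^ p = 1
        · rw [← map_pow, ← map_pow, ← hP]
          exact (QuotientGroup.eq_one_iff _).2 h1
        · rw [← map_pow]
          exact (congrArg (QuotientGroup.mk' T) (hFp z hzfr)).trans (map_one _)
        · rw [← map_pow, ← map_pow, ← hP]
          exact (QuotientGroup.eq_one_iff _).2 h3
      | one => rw [map_one, one_pow]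
      | mul y y' _ _ h h' => rw [map_mul, (hfc y y').mul_pow, h, h', one_mul]
      | inv y _ h => rw [map_inv, inv_pow, h, inv_one]
    have hker : frattini E ≤ f.ker := by
      rw [PGroup.frattini_eq hEp]
      refine sup_le ?_ ((Subgroup.closure_le _).2 ?_)
      · rw [_root_.commutator_def, Subgroup.commutator_le]
        intro u _ v _
        rw [MonoidHom.mem_ker, map_commutatorElement, commutatorElement_eq_one_iff_commute]
        exact hfc u v
      · rintro _ ⟨v, rfl⟩
        rw [SetLike.mem_coe, MonoidHom.mem_ker, map_pow, hfp]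
    rintro _ ⟨_, ⟨v, hv, rfl⟩, rfl⟩
    exact (QuotientGroup.eq_one_iff _).1 (hker hv)
  have hKT0 : K.map q ≤ eig p τq m ⊔ eig p τq 1 :=
    hKT _ inferInstance (Subgroup.mem_sup_left hPa) (Subgroup.mem_sup_left hac') (Subgroup.mem_sup_right hPc)
  have hyKc : ⁅y, c⁆ ∈ K := by
    rw [← hσ1, map_commutatorElement, commutatorElement_eq_one_iff_commute]; exact yc
  have hy1 : ∀ w ∈ K.map q, w ∈ eig p τq n → w = 1 := fun w hw hwn =>
    eq_one_of_eig_sup (hKT0 hw) hwn m1 mn n1.symm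
  have hPy1 : P y = 1 := hy1 _ ⟨y ^ p, (hσ1 _).1 (by rw [map_pow, hexp]), rfl⟩ hPy
  have hyc1 : ⁅q y, q c⁆ = 1 := hy1 _ ⟨_, hyKc, map_commutatorElement q y c⟩ hyc'
  -- the other eigenspace vanishes by sectional rank
  haveI hY : (Subgroup.zpowers (P c)).Normal := ⟨fun w hw g => by
    obtain ⟨i, rfl⟩ := Subgroup.mem_zpowers_iff.1 hw
    rw [Subgroup.mem_center_iff.1 (zpow_mem hPc.1 i) g, mul_inv_cancel_right]
    exact zpow_mem (Subgroup.mem_zpowers _) i⟩
  have hm : ∀ w ∈ K.map q, w ∈ eig p τq m → w = 1 := by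
    rintro w ⟨k, hk, rfl⟩ hwm
    by_contra hw1
    let f0 : N →* (N ⧸ Ψ) ⧸ Subgroup.zpowers (P c) := (QuotientGroup.mk' _).comp q
    have hfk : f0 k ≠ 1 := fun h => hw1 (eq_one_of_eig hwm
      ((Subgroup.zpowers_le.2 hPc) ((QuotientGroup.eq_one_iff _).1 h)) m1)
    have hback : ∀ (S : Subgroup N), K ≤ S → ∀ v : N, f0 v ∈ S.map f0 → v ∈ S := by
      rintro S hKS v ⟨s, hs, hsv⟩
      have hmem : s⁻¹ * v ∈ K := by
        have h1 : q (s⁻¹ * v) ∈ Subgroup.zpowers (P c) := (QuotientGroup.eq_one_iff _).1 (by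
          show f0 (s⁻¹ * v) = 1
          rw [map_mul, map_inv, hsv, inv_mul_cancel])
        obtain ⟨i, hi⟩ := Subgroup.mem_zpowers_iff.1 h1
        have h2 : ((c ^ p) ^ i)⁻¹ * (s⁻¹ * v) ∈ Ψ := QuotientGroup.eq.1 (by
          show q ((c ^ p) ^ i) = q (s⁻¹ * v)
          rw [← hi, hP, map_zpow])
        have h3 := mul_mem (zpow_mem (show c ^ p ∈ K from (hσ1 _).1 (by rw [map_pow, hexp])) i) (hΨK h2)
        rwa [mul_inv_cancel_left] at h3
      have := mul_mem hs (hKS hmem)
      rwa [mul_inv_cancel_left] at this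
    let U : Subgroup N := D ⊔ Subgroup.closure {c, y}
    have hU : ∀ u ∈ U, (∀ v ∈ U, Commute (f0 u) (f0 v)) ∧ f0 u ^ p = 1 := by
      have hD' : ∀ u ∈ D, ∀ v : N, Commute (f0 u) (f0 v) := fun u hu v =>
        (hFcen u (hfr.ge hu) v).map (QuotientGroup.mk' _)
      have hcy : Commute (f0 c) (f0 y) := (commutatorElement_eq_one_iff_commute.1 hyc1).symm.map (QuotientGroup.mk' (Subgroup.zpowers (P c)))
      have hgen2 : ∀ u ∈ ({c, y} : Set N), ∀ v ∈ ({c, y} : Set N), Commute (f0 u) (f0 v) := by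
        rintro u (rfl | rfl) v (rfl | rfl) <;>
          first | exact Commute.refl _ | exact hcy | exact hcy.symm
      have hcomm : ∀ u ∈ U, ∀ v ∈ U, Commute (f0 u) (f0 v) := by
        intro u hu v hv
        change u ∈ D ⊔ _ at hu
        change v ∈ D ⊔ _ at hv
        rw [← Subgroup.closure_eq D, ← Subgroup.closure_union] at hu hv
        induction hu using Subgroup.closure_induction with
        | mem u hu =>
          induction hv using Subgroup.closure_induction with
          | mem v hv =>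
            rcases hu with hu | hu
            · exact hD' u hu v
            rcases hv with hv | hv
            · exact (hD' v hv u).symm
            · exact hgen2 u hu v hv
          | one => rw [map_one]; exact Commute.one_right _
          | mul w w' _ _ h h' => rw [map_mul]; exact h.mul_right h'
          | inv w _ h => rw [map_inv]; exact h.inv_right
        | one => rw [map_one]; exact Commute.one_left _
        | mul w w' _ _ h h' => rw [map_mul]; exact h.mul_left h'
        | inv w _ h => rw [map_inv]; exact h.inv_left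
      have hpU : ∀ u ∈ Subgroup.closure ((D : Set N) ∪ {c, y}), QuotientGroup.mk' (Subgroup.zpowers (P c)) (P u) = 1 := by
        intro u hu
        induction hu using Subgroup.closure_induction with
        | mem u hu =>
          rcases hu with hu | rfl | rfl
          · rw [hPfr u (hfr.ge hu), map_one]
          · exact (QuotientGroup.eq_one_iff _).2 (Subgroup.mem_zpowers _)
          · rw [hPy1, map_one]
        | one => rw [map_one, map_one]
        | mul w w' _ _ h h' => rw [map_mul, map_mul, h, h', one_mul]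
        | inv w _ h => rw [map_inv, map_inv, h, inv_one]
      intro u hu
      refine ⟨hcomm u hu, ?_⟩
      change u ∈ D ⊔ _ at hu
      rw [← Subgroup.closure_eq D, ← Subgroup.closure_union] at hu
      rw [← map_pow]
      exact hpU u hu
    have hle : Nat.card (U.map f0) ≤ p ^ 3 := by
      have := card_range_le hsr (U := U) (f0.comp U.subtype)
        (fun u v => ((hU u u.2).1 v v.2).eq) (fun u => (hU u u.2).2)
      rwa [MonoidHom.range_comp, Subgroup.range_subtype] at this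
    have hQp : IsPGroup p ((N ⧸ Ψ) ⧸ Subgroup.zpowers (P c)) := (hN.to_quotient Ψ).to_quotient _
    let S3 : Subgroup N := D ⊔ Subgroup.zpowers c
    have h01 : (⊥ : Subgroup _) < K.map f0 := bot_lt_iff_ne_bot.2 fun h =>
      hfk (Subgroup.mem_bot.1 (h.le ⟨k, hk, rfl⟩))
    have h12 : K.map f0 < D.map f0 := lt_of_le_of_ne (Subgroup.map_mono hKD) fun h => by
      have hzK := hback K le_rfl z (h.ge ⟨z, hzD, rfl⟩)
      obtain ⟨-, h1, -⟩ := hind 0 1 0 (by simpa using hzK)
      exact absurd (Nat.le_of_dvd one_pos h1) (by omega)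
    have h23 : D.map f0 < S3.map f0 := lt_of_le_of_ne (Subgroup.map_mono le_sup_left) fun h => by
      have hcD := hback D hKD c (h.ge ⟨c, Subgroup.mem_sup_right (Subgroup.mem_zpowers c), rfl⟩)
      obtain ⟨i, hi⟩ := (mem_powers_iff_mem_zpowers).2 (hcD : σ c ∈ Subgroup.zpowers (σ z))
      obtain ⟨-, -, h1⟩ := hind' 0 i (p - 1) (by
        show σ a ^ 0 * σ z ^ i * σ c ^ (p - 1) = 1
        rw [show σ z ^ i = σ c from hi, pow_zero, one_mul, ← pow_succ', Nat.sub_add_cancel hpp.one_le,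
          hσp c hc])
      exact absurd (Nat.le_of_dvd (by omega) h1) (by omega)
    have hS3E : S3 ≤ E := sup_le hDE (Subgroup.zpowers_le.2 hc)
    have hS3U : S3 ≤ U :=
      sup_le le_sup_left (Subgroup.zpowers_le.2 (Subgroup.mem_sup_right (Subgroup.subset_closure (by simp))))
    have h34 : S3.map f0 < U.map f0 := lt_of_le_of_ne (Subgroup.map_mono hS3U) fun h => by
      have := hS3E (hback S3 (hKD.trans le_sup_left) y
        (h.ge ⟨y, Subgroup.mem_sup_right (Subgroup.subset_closure (by simp)), rfl⟩))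
      exact hxE (by
        have h' := mul_mem this (inv_mem hyE)
        simpa [mul_assoc] using h')
    have c1 := PGroup.mul_card_le_of_lt hQp h01
    have c2 := PGroup.mul_card_le_of_lt hQp h12
    have c3 := PGroup.mul_card_le_of_lt hQp h23
    have c4 := PGroup.mul_card_le_of_lt hQp h34
    rw [Subgroup.card_bot, mul_one] at c1
    have b1 : p ^ 2 ≤ Nat.card (D.map f0) := by
      rw [pow_two]; exact le_trans (Nat.mul_le_mul le_rfl c1) c2
    have b2 : p ^ 3 ≤ Nat.card (S3.map f0) := by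
      rw [pow_succ']; exact le_trans (Nat.mul_le_mul le_rfl b1) c3
    have b3 : p ^ 4 ≤ Nat.card (U.map f0) := by
      rw [pow_succ']; exact le_trans (Nat.mul_le_mul le_rfl b2) c4
    exact absurd (b3.trans hle) (not_le.2 (Nat.pow_lt_pow_right hpp.one_lt (by norm_num)))
  have hPa1 : P a = 1 := hm _ ⟨a ^ p, (hσ1 _).1 (by rw [map_pow]; exact hexp a), rfl⟩ hPa
  have hac1 : ⁅q a, q c⁆ = 1 := hm _ ⟨⁅a, c⁆, by
    rw [SetLike.mem_coe, ← hσ1, map_commutatorElement, commutatorElement_eq_one_iff_commute]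
    exact hσE a ha c hc, map_commutatorElement q a c⟩ hac'
  have hKeq : K = Ψ ⊔ Subgroup.closure (Set.range fun v : N => v ^ p) := by
    refine le_antisymm (fun v hv => ?_) (sup_le hΨK ((Subgroup.closure_le _).2 ?_))
    · have h := hKT _ hY (by rw [hPa1]; exact one_mem _) (by rw [hac1]; exact one_mem _)
        (Subgroup.mem_zpowers _) ⟨v, hv, rfl⟩
      obtain ⟨i, hi⟩ := Subgroup.mem_zpowers_iff.1 h
      have h2 : ((c ^ p) ^ i)⁻¹ * v ∈ Ψ := QuotientGroup.eq.1 (by
        rw [hP, ← map_zpow] at hi; exact hi)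
      have := mul_mem (Subgroup.mem_sup_right (S := Ψ)
        (zpow_mem (show c ^ p ∈ Subgroup.closure (Set.range fun v : N => v ^ p) from Subgroup.subset_closure ⟨c, rfl⟩) i))
        (Subgroup.mem_sup_left h2)
      rwa [mul_inv_cancel_left] at this
    · rintro _ ⟨v, rfl⟩
      exact (hσ1 _).1 (by rw [map_pow]; exact hexp v)
  have hKc : K.Characteristic := by
    refine Subgroup.characteristic_iff_map_le.2 fun α => ?_
    rw [hKeq, Subgroup.map_sup,
      Subgroup.characteristic_iff_map_eq.1 (inferInstance : (psi p N).Characteristic) α,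
      MonoidHom.map_closure]
    refine sup_le le_sup_left (le_sup_of_le_right (Subgroup.closure_mono ?_))
    rintro _ ⟨_, ⟨v, rfl⟩, rfl⟩
    exact ⟨α v, (map_pow α v p).symm⟩
  refine ⟨K, hKc, hKfr, hKE, σ y, σ a, σ z, σ c,
    { xa := ya, xz := yz, xc := yc, az := hσE a ha z hz, ac := hσE a ha c hc, zc := hσE z hz c hc,
      px := hexp y, pa := hσp a ha, pz := hσp z hz, pc := hσp c hc, span := fun v => ?_,
      ind := fun i j k r h => ?_, tx := ty, ta := ta, tz := tz, tc := tc, lm := lm, l2 := l2, l3 := l3,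
      l5 := l5 }, fun v => ⟨fun hv => hco v hv, ?_⟩⟩
  · obtain ⟨v, rfl⟩ := QuotientGroup.mk'_surjective K v
    obtain ⟨i, hi⟩ := hgy v
    obtain ⟨j, k, r, h⟩ := hco _ hi
    refine ⟨i, j, k, r, ?_⟩
    show σ v = _
    rw [mul_assoc, mul_assoc, ← mul_assoc (σ a ^ j), ← h, map_mul, map_inv, map_pow, mul_inv_cancel_left]
  · have hE' : σ a ^ j * σ z ^ k * σ c ^ r = σ (a ^ j * z ^ k * c ^ r) := by
      simp only [map_mul, map_pow]
    have hi : p ∣ i := by
      have h1 : y ^ i * (a ^ j * z ^ k * c ^ r) ∈ K := (hσ1 _).1 (by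
        rw [map_mul, ← hE', map_pow, ← h]; simp only [mul_assoc])
      have h2 : y ^ i ∈ E := by
        have := mul_mem (hKE h1) (inv_mem (mul_mem (mul_mem (pow_mem ha j) (pow_mem hz k)) (pow_mem hc r)))
        rwa [mul_inv_cancel_right] at this
      by_contra hpi
      obtain ⟨u, -, hu⟩ := Nat.exists_mul_mod_eq_one_of_coprime
        (Nat.Coprime.symm ((hpp.coprime_iff_not_dvd).2 hpi)) hpp.one_lt
      have hy' : y ^ p ∈ E := hKE ((hσ1 _).1 (by rw [map_pow, hexp]))
      have h3 : y ^ (i * u) ∈ E := by rw [pow_mul]; exact pow_mem h2 u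
      rw [← Nat.mod_add_div (i * u) p, hu, pow_add, pow_one, pow_mul] at h3
      have hyE' : y ∈ E := by
        have := mul_mem h3 (inv_mem (pow_mem hy' (i * u / p)))
        rwa [mul_inv_cancel_right] at this
      exact hxE (by
        have h' := mul_mem hyE' (inv_mem hyE)
        simpa [mul_assoc] using h')
    obtain ⟨i', rfl⟩ := hi
    rw [pow_mul, hexp, one_pow, one_mul] at h
    exact ⟨dvd_mul_right p i', hind' j k r h⟩
  · rintro ⟨j, k, r, h⟩
    have h' : (a ^ j * z ^ k * c ^ r)⁻¹ * v ∈ K := QuotientGroup.eq.1 (by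
      show σ (a ^ j * z ^ k * c ^ r) = σ v
      simp only [map_mul, map_pow]
      exact h.symm)
    have := mul_mem (mul_mem (mul_mem (pow_mem ha j) (pow_mem hz k)) (pow_mem hc r)) (hKE h')
    rwa [mul_inv_cancel_left] at this

end Cfsg.Agent.RankThreeEss
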