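import Cfsg.Agent.Lib.RankThreeEss.Basics
import Cfsg.Agent.Lib.EssentialSmall.Basic

/-!
# A maximal subgroup with a regular unipotent action is invariant

`false_of_regular` : in a `p`-group `N` of sectional rank three, `p ≥ 5`, a maximal subgroup `E` on whose
Frattini quotient (of order `p ^ 3`) the group `N` acts as a Jordan block of size three, and whose automorphisms
move every proper nontrivial series, is invariant under the automorphisms of `N` of `p`-power order.
-/

set_option autoImplicit false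
set_option linter.style.haveILetI false
set_option linter.unusedSectionVars false

namespace Cfsg.Agent.RankThreeEss

open scoped commutatorElement

variable {N : Type*} [Group N] [Finite N] {p : ℕ} [hp : Fact p.Prime]

theorem false_of_regular (five : 5 ≤ p) (hN : IsPGroup p N) (hsr : Cfsg.SectionalPRankLE p 3 N)
    (E : Subgroup N) [hEn : E.Normal] (x : N) (d L c : E)
    (hL : MulAut.conjNormal x d = d * L) (hc : MulAut.conjNormal x L = L * c)
    (hfix : c⁻¹ * MulAut.conjNormal x c ∈ frattini E)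
    (hspan : ∀ e : E, ∃ i j l : ℕ, (d ^ i * L ^ j * c ^ l)⁻¹ * e ∈ frattini E)
    (hind : ∀ i j l : ℕ, d ^ i * L ^ j * c ^ l ∈ frattini E → p ∣ i ∧ p ∣ j ∧ p ∣ l)
    (hidx : (frattini E).index = p ^ 3)
    (hgen : ∀ n : N, ∃ i : ℕ, (x ^ i)⁻¹ * n ∈ E) (hxp : x ^ p ∈ E)
    (hchar : ∀ U : Subgroup E, U.Characteristic → frattini E ≤ U → U = frattini E ∨ U = ⊤)
    (hmove : ∃ (α : MulAut E) (j l : ℕ), ∀ j' l' : ℕ, (L ^ j' * c ^ l')⁻¹ * α (L ^ j * c ^ l) ∉ frattini E)
    (γ : MulAut N) (hγp : ∃ k : ℕ, γ ^ p ^ k = 1) (hγ : ∃ e ∈ E, γ e ∉ E) : False := by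
  have hpp : p.Prime := hp.out
  have hp2 : p ≠ 2 := by omega
  have hEp : IsPGroup p E := hN.to_subgroup E
  set Φ := frattini E with hΦdef
  set u : MulAut E := MulAut.conjNormal x with hu
  -- the Frattini quotient
  let π : E →* E ⧸ Φ := QuotientGroup.mk' Φ
  have hπ1 : ∀ v : E, π v = 1 ↔ v ∈ Φ := fun v => QuotientGroup.eq_one_iff v
  have hπc : ∀ a b : E, π a * π b = π b * π a := fun a b => by
    rw [← commutatorElement_eq_one_iff_mul_comm, ← map_commutatorElement, hπ1]
    exact PGroup.commutatorElement_mem_frattini hEp a b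
  letI : CommGroup (E ⧸ Φ) :=
    { (inferInstance : Group (E ⧸ Φ)) with
      mul_comm := fun a b => QuotientGroup.induction_on a fun a => QuotientGroup.induction_on b fun b => hπc a b }
  have hπp : ∀ a : E, π a ^ p = 1 := fun a => by
    rw [← map_pow, hπ1]; exact PGroup.pow_mem_frattini hEp a
  have hπeq : ∀ a b : E, a⁻¹ * b ∈ Φ ↔ π a = π b := fun a b => (QuotientGroup.eq).symm
  have hco : ∀ e : E, ∃ i j l : ℕ, π e = π d ^ i * π L ^ j * π c ^ l := fun e => by
    obtain ⟨i, j, l, h⟩ := hspan e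
    refine ⟨i, j, l, ?_⟩
    rw [← (hπeq _ _).1 h, map_mul, map_mul, map_pow, map_pow, map_pow]
  have hind' : ∀ i j l : ℕ, π d ^ i * π L ^ j * π c ^ l = 1 → p ∣ i ∧ p ∣ j ∧ p ∣ l := fun i j l h =>
    hind i j l (by rw [← hπ1, map_mul, map_mul, map_pow, map_pow, map_pow, h])
  have huc : π (u c) = π c := ((hπeq _ _).1 hfix).symm
  have hshift : ∀ (e : E) (i j l : ℕ), π e = π d ^ i * π L ^ j * π c ^ l →
      π (u e) = π e * (π L ^ i * π c ^ j) := by
    intro e i j l h
    have h' : (d ^ i * L ^ j * c ^ l)⁻¹ * e ∈ Φ := by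
      rw [hπeq, map_mul, map_mul, map_pow, map_pow, map_pow, h]
    have h2 : u ((d ^ i * L ^ j * c ^ l)⁻¹ * e) ∈ Φ := by
      have := Subgroup.characteristic_iff_comap_eq.1 (inferInstance : Φ.Characteristic) u
      exact (this.ge h' :)
    rw [map_mul, map_inv, hπeq] at h2
    rw [← h2, h]
    simp only [map_mul, map_pow, hL, hc, huc, mul_pow]
    ac_rfl
  have hfixed : ∀ e : E, π (u e) = π e → ∃ l : ℕ, π e = π c ^ l := by
    intro e he
    obtain ⟨i, j, l, h⟩ := hco e
    rw [hshift e i j l h, mul_eq_left] at he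
    obtain ⟨-, hi, hj⟩ := hind' 0 i j (by rw [pow_zero, one_mul]; exact he)
    obtain ⟨i', rfl⟩ := hi
    obtain ⟨j', rfl⟩ := hj
    exact ⟨l, by rw [h, pow_mul, pow_mul, hπp, hπp, one_pow, one_pow, one_mul, one_mul]⟩
  -- the plane and the line
  let J : Subgroup E := (Subgroup.zpowers (π L) ⊔ Subgroup.zpowers (π c)).comap π
  let D : Subgroup E := (Subgroup.zpowers (π c)).comap π
  have hJm : ∀ v : E, v ∈ J ↔ ∃ j l : ℕ, π v = π L ^ j * π c ^ l := by
    intro v
    constructor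
    · intro h
      obtain ⟨a, ha, b, hb, e⟩ := Subgroup.mem_sup_of_normal_left.1 (h : π v ∈ _)
      obtain ⟨j, rfl⟩ := (mem_powers_iff_mem_zpowers).2 ha
      obtain ⟨l, rfl⟩ := (mem_powers_iff_mem_zpowers).2 hb
      exact ⟨j, l, e.symm⟩
    · rintro ⟨j, l, h⟩
      refine Subgroup.mem_comap.2 ?_
      rw [h]
      exact mul_mem (Subgroup.mem_sup_left (pow_mem (Subgroup.mem_zpowers _) _))
        (Subgroup.mem_sup_right (pow_mem (Subgroup.mem_zpowers _) _))
  have hDm : ∀ v : E, v ∈ D ↔ ∃ l : ℕ, π v = π c ^ l := by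
    intro v
    constructor
    · intro h
      obtain ⟨l, hl⟩ := (mem_powers_iff_mem_zpowers).2 (h : π v ∈ _)
      exact ⟨l, hl.symm⟩
    · rintro ⟨l, h⟩
      refine Subgroup.mem_comap.2 ?_
      rw [h]
      exact pow_mem (Subgroup.mem_zpowers _) _
  have hΦD : Φ ≤ D := fun v hv => (hDm v).2 ⟨0, by rw [(hπ1 v).2 hv, pow_zero]⟩
  have hDJ : D ≤ J := fun v hv => by
    obtain ⟨l, h⟩ := (hDm v).1 hv
    exact (hJm v).2 ⟨0, l, by rw [h, pow_zero, one_mul]⟩
  have hLJ : L ∈ J := (hJm L).2 ⟨1, 0, by simp⟩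
  have hcD : c ∈ D := (hDm c).2 ⟨1, by simp⟩
  set Φn := Φ.map E.subtype with hΦn
  set Dn := D.map E.subtype with hDn
  set Jn := J.map E.subtype with hJn
  have hnormal : ∀ U : Subgroup E, Φ ≤ U → (∀ v ∈ U, u v ∈ U) → (U.map E.subtype).Normal := by
    intro U hU hUu
    refine ⟨fun m hm n => ?_⟩
    obtain ⟨v, hv, rfl⟩ := hm
    obtain ⟨i, hi⟩ := hgen n
    let e : E := ⟨_, hi⟩
    have hev : e * v * e⁻¹ ∈ U := by
      have h1 : π (v⁻¹ * (e * v * e⁻¹)) = 1 := by simp
      have := mul_mem hv (hU ((hπ1 _).1 h1))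
      rwa [mul_inv_cancel_left] at this
    have hpow : ∀ k : ℕ, ∀ w ∈ U, (u ^ k) w ∈ U := by
      intro k
      induction k with
      | zero => exact fun w hw => hw
      | succ k ih => intro w hw; rw [pow_succ', MulAut.mul_apply]; exact hUu _ (ih w hw)
    refine ⟨(u ^ i) (e * v * e⁻¹), hpow i _ hev, ?_⟩
    rw [hu, ← map_pow, Subgroup.coe_subtype, MulAut.conjNormal_apply, Subgroup.coe_mul, Subgroup.coe_mul,
      Subgroup.coe_inv]
    simp only [e]
    group
  have hDu : ∀ v ∈ D, u v ∈ D := fun v hv => by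
    obtain ⟨l, h⟩ := (hDm v).1 hv
    exact (hDm _).2 ⟨l, by rw [hshift v 0 0 l (by simpa using h), pow_zero, pow_zero, mul_one, mul_one, h]⟩
  have hJu : ∀ v ∈ J, u v ∈ J := fun v hv => by
    obtain ⟨j, l, h⟩ := (hJm v).1 hv
    exact (hJm _).2 ⟨j, l + j, by
      rw [hshift v 0 j l (by simpa using h), pow_zero, one_mul, h, mul_assoc, ← pow_add]⟩
  haveI hΦN : Φn.Normal := hnormal Φ le_rfl fun v hv =>
    ((Subgroup.characteristic_iff_comap_eq.1 (inferInstance : Φ.Characteristic) u).ge hv :)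
  haveI hDN : Dn.Normal := hnormal D hΦD hDu
  haveI hJN : Jn.Normal := hnormal J (hΦD.trans hDJ) hJu
  have hΦDn : Φn ≤ Dn := Subgroup.map_mono hΦD
  have hDJn : Dn ≤ Jn := Subgroup.map_mono hDJ
  have hxconj : ∀ v : E, x * v * x⁻¹ = ((u v : E) : N) := fun v => rfl
  have hEcomm : ∀ a b : E, ⁅(a : N), (b : N)⁆ ∈ Φn := fun a b =>
    ⟨⁅a, b⁆, PGroup.commutatorElement_mem_frattini hEp a b, map_commutatorElement E.subtype a b⟩
  -- the quotient by the plane
  let ρ : N →* N ⧸ Jn := QuotientGroup.mk' Jn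
  have hρ1 : ∀ n : N, ρ n = 1 ↔ n ∈ Jn := fun n => QuotientGroup.eq_one_iff n
  have hρc : ∀ a b : N, Commute (ρ a) (ρ b) := by
    have hxe : ∀ e : E, Commute (ρ x) (ρ e) := fun e => by
      obtain ⟨i, j, l, h⟩ := hco e
      have h1 : e⁻¹ * u e ∈ J := (hJm _).2 ⟨i, j, by
        rw [map_mul, map_inv, hshift e i j l h, inv_mul_cancel_left]⟩
      refine commutatorElement_eq_one_iff_commute.1 ?_
      rw [← map_commutatorElement, hρ1]
      refine ⟨e * (e⁻¹ * u e) * e⁻¹, ?_, ?_⟩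
      · have h2 : π ((e⁻¹ * u e)⁻¹ * (e * (e⁻¹ * u e) * e⁻¹)) = 1 := by
          simp [mul_comm, mul_left_comm, mul_assoc]
        have := mul_mem h1 ((hΦD.trans hDJ) ((hπ1 _).1 h2))
        rwa [mul_inv_cancel_left] at this
      · rw [Subgroup.coe_subtype, mul_inv_cancel_left, Subgroup.coe_mul, Subgroup.coe_inv, ← hxconj,
          commutatorElement_def]
    have hee : ∀ e e' : E, Commute (ρ e) (ρ e') := fun e e' => by
      refine commutatorElement_eq_one_iff_commute.1 ?_
      rw [← map_commutatorElement, hρ1]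
      exact (hΦDn.trans hDJn) (hEcomm e e')
    intro a b
    obtain ⟨i, hi⟩ := hgen a
    obtain ⟨j, hj⟩ := hgen b
    obtain ⟨ea, rfl⟩ : ∃ ea : E, a = x ^ i * (ea : N) := ⟨⟨_, hi⟩, by simp⟩
    obtain ⟨eb, rfl⟩ : ∃ eb : E, b = x ^ j * (eb : N) := ⟨⟨_, hj⟩, by simp⟩
    rw [map_mul, map_mul, map_pow, map_pow]
    refine Commute.mul_left ?_ ?_
    · exact ((Commute.refl _).pow_pow i j).mul_right ((hxe _).pow_left i)
    · exact (((hxe _).symm).pow_right j).mul_right (hee _ _)
  have hcommJ : ∀ a b : N, ⁅a, b⁆ ∈ Jn := fun a b => by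
    rw [← hρ1, map_commutatorElement, commutatorElement_eq_one_iff_commute]
    exact hρc a b
  have hxpD : x ^ p ∈ Dn := by
    let v : E := ⟨x ^ p, hxp⟩
    have huv : u v = v := Subtype.ext (by rw [← hxconj]; show x * x ^ p * x⁻¹ = x ^ p; group)
    obtain ⟨l, h⟩ := hfixed v (by rw [huv])
    exact ⟨v, (hDm v).2 ⟨l, h⟩, rfl⟩
  have hepD : ∀ e : E, (e : N) ^ p ∈ Φn := fun e =>
    ⟨e ^ p, PGroup.pow_mem_frattini hEp e, map_pow E.subtype e p⟩
  have hLe : ∀ (w : J) (n : N), ⁅((w : E) : N), n⁆ ∈ Dn := by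
    rintro ⟨w, hw⟩ n
    let τ : N →* N ⧸ Dn := QuotientGroup.mk' Dn
    have hτ : ∀ m : N, τ m = 1 ↔ m ∈ Dn := fun m => QuotientGroup.eq_one_iff m
    have hwx : Commute (τ w) (τ x) := by
      refine Commute.symm (commutatorElement_eq_one_iff_commute.1 ?_)
      rw [← map_commutatorElement, hτ]
      obtain ⟨j, l, h⟩ := (hJm w).1 hw
      refine ⟨u w * w⁻¹, (hDm _).2 ⟨j, ?_⟩, ?_⟩
      · rw [map_mul, map_inv, hshift w 0 j l (by simpa using h), pow_zero, one_mul, mul_inv_cancel_comm]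
      · rw [Subgroup.coe_subtype, Subgroup.coe_mul, Subgroup.coe_inv, ← hxconj, commutatorElement_def]
    obtain ⟨i, hi⟩ := hgen n
    rw [← hτ, map_commutatorElement, commutatorElement_eq_one_iff_commute,
      show n = x ^ i * ((⟨_, hi⟩ : E) : N) by simp, map_mul, map_pow]
    refine (hwx.pow_right i).mul_right (commutatorElement_eq_one_iff_commute.1 ?_)
    rw [← map_commutatorElement, hτ]
    exact hΦDn (hEcomm _ _)
  have hpowD : ∀ n : N, n ^ p ∈ Dn := by
    intro n
    let τ : N →* N ⧸ Dn := QuotientGroup.mk' Dn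
    have hτ : ∀ m : N, τ m = 1 ↔ m ∈ Dn := fun m => QuotientGroup.eq_one_iff m
    obtain ⟨i, hi⟩ := hgen n
    let e : E := ⟨_, hi⟩
    have hn : n = x ^ i * (e : N) := by simp [e]
    obtain ⟨w, hw, hwe⟩ := hcommJ (e : N) (x ^ i)
    have hcen : ∀ y : N, Commute (τ y) ⁅τ (e : N), τ (x ^ i)⁆ := fun y => by
      rw [← map_commutatorElement]
      refine Commute.symm (commutatorElement_eq_one_iff_commute.1 ?_)
      rw [← map_commutatorElement, hτ, ← hwe]
      exact hLe ⟨w, hw⟩ y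
    rw [← hτ, hn, map_pow, map_mul,
      PGroup.mul_pow_prime_eq hpp hp2 (hcen _) (hcen _) (by
        rw [← map_commutatorElement, ← map_pow, hτ, ← hwe]
        exact hΦDn (hepD w)),
      ← map_pow, ← map_pow, (hτ _).2 (hΦDn (hepD e)), mul_one, ← pow_mul, mul_comm, pow_mul, map_pow,
      (hτ _).2 hxpD, one_pow]
  -- both are characteristic
  have hfr : frattini N = Jn := by
    have hEfr : Φn ≤ frattini N := by
      rw [hΦn, hΦdef, PGroup.frattini_eq hEp, Subgroup.map_sup, MonoidHom.map_closure]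
      refine sup_le ?_ ((Subgroup.closure_le _).2 ?_)
      · rw [_root_.commutator_def, Subgroup.map_commutator]
        exact (Subgroup.commutator_mono le_top le_top).trans
          (le_of_eq_of_le (_root_.commutator_def N).symm (PGroup.commutator_le_frattini hN))
      · rintro _ ⟨_, ⟨v, rfl⟩, rfl⟩
        exact (map_pow E.subtype v p).symm ▸ PGroup.pow_mem_frattini hN _
    refine le_antisymm (PGroup.frattini_le_of_quotient_elementary ?_ fun n => hDJn (hpowD n)) ?_
    · rw [_root_.commutator_def, Subgroup.commutator_le]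
      exact fun a _ b _ => hcommJ a b
    · rintro _ ⟨v, hv, rfl⟩
      obtain ⟨j, l, h⟩ := (hJm v).1 hv
      have h1 : (L ^ j * c ^ l)⁻¹ * v ∈ Φ := by rw [hπeq, map_mul, map_pow, map_pow, h]
      have hLf : (L : N) ∈ frattini N := by
        have : (L : N) = ⁅(d : N)⁻¹, x⁆ := by
          rw [commutatorElement_def, inv_inv, mul_assoc _ x, mul_assoc _ _ x⁻¹, hxconj, hL]; simp
        rw [this]; exact PGroup.commutatorElement_mem_frattini hN _ _
      have hcf : (c : N) ∈ frattini N := by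
        have : (c : N) = ⁅(L : N)⁻¹, x⁆ := by
          rw [commutatorElement_def, inv_inv, mul_assoc _ x, mul_assoc _ _ x⁻¹, hxconj, hc]; simp
        rw [this]; exact PGroup.commutatorElement_mem_frattini hN _ _
      have := mul_mem (mul_mem (pow_mem hLf j) (pow_mem hcf l)) (hEfr ⟨_, h1, rfl⟩)
      simpa [mul_assoc] using this
  have hgenE : Subgroup.closure ({d, L, c} : Set E) = ⊤ := by
    refine frattini_nongenerating (eq_top_iff.2 fun e _ => ?_)
    obtain ⟨i, j, l, h⟩ := hspan e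
    have hm : d ^ i * L ^ j * c ^ l ∈ Subgroup.closure ({d, L, c} : Set E) :=
      mul_mem (mul_mem (pow_mem (Subgroup.subset_closure (by simp)) _)
        (pow_mem (Subgroup.subset_closure (by simp)) _)) (pow_mem (Subgroup.subset_closure (by simp)) _)
    have := mul_mem (Subgroup.mem_sup_left hm) (Subgroup.mem_sup_right (S := Subgroup.closure _) h)
    rwa [mul_inv_cancel_left] at this
  set D' := ⁅frattini N, (⊤ : Subgroup N)⁆ ⊔ Subgroup.closure (Set.range fun n : N => n ^ p) with hD'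
  have hDD' : Dn = D' := by
    refine le_antisymm ?_ (sup_le ?_ ((Subgroup.closure_le _).2 (by rintro _ ⟨n, rfl⟩; exact hpowD n)))
    · haveI : D'.Normal := by
        haveI : (Subgroup.closure (Set.range fun n : N => n ^ p)).Normal := by
          refine ⟨fun m hm g => ?_⟩
          induction hm using Subgroup.closure_induction with
          | mem y hy =>
            obtain ⟨n, rfl⟩ := hy
            exact Subgroup.subset_closure ⟨g * n * g⁻¹, conj_pow⟩
          | one => simp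
          | mul a b _ _ ha hb => simpa [mul_assoc] using mul_mem ha hb
          | inv a _ ha => simpa [mul_assoc] using inv_mem ha
        infer_instance
      let f : E →* N ⧸ D' := (QuotientGroup.mk' D').comp E.subtype
      have hf1 : ∀ {a : E}, (a : N) ∈ frattini N → ∀ b : E, Commute (f a) (f b) := fun {a} ha b =>
        commutatorElement_eq_one_iff_commute.1 (by
          rw [← map_commutatorElement]
          exact (QuotientGroup.eq_one_iff _).2 (Subgroup.mem_sup_left (by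
            rw [map_commutatorElement]
            exact Subgroup.commutator_mem_commutator ha (Subgroup.mem_top _))))
      have hLf : (L : N) ∈ frattini N := hfr.ge ⟨L, hLJ, rfl⟩
      have hcf : (c : N) ∈ frattini N := hfr.ge ⟨c, hDJ hcD, rfl⟩
      have hfc : ∀ a b : E, Commute (f a) (f b) := by
        have h1 : ∀ a ∈ ({d, L, c} : Set E), ∀ b : E, Commute (f a) (f b) := by
          rintro a (rfl | rfl | rfl) b
          · have hb : b ∈ Subgroup.closure ({a, L, c} : Set E) := hgenE ▸ Subgroup.mem_top b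
            induction hb using Subgroup.closure_induction with
            | mem y hy =>
              rcases hy with rfl | rfl | rfl
              · exact Commute.refl _
              · exact (hf1 hLf _).symm
              · exact (hf1 hcf _).symm
            | one => rw [map_one]; exact Commute.one_right _
            | mul y y' _ _ hy hy' => rw [map_mul]; exact hy.mul_right hy'
            | inv y _ hy => rw [map_inv]; exact hy.inv_right
          · exact hf1 hLf b
          · exact hf1 hcf b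
        intro a b
        have ha : a ∈ Subgroup.closure ({d, L, c} : Set E) := hgenE ▸ Subgroup.mem_top a
        induction ha using Subgroup.closure_induction with
        | mem y hy => exact h1 y hy b
        | one => rw [map_one]; exact Commute.one_left _
        | mul y y' _ _ hy hy' => rw [map_mul]; exact hy.mul_left hy'
        | inv y _ hy => rw [map_inv]; exact hy.inv_left
      have hΦf : Φ ≤ f.ker := by
        rw [hΦdef, PGroup.frattini_eq hEp]
        refine sup_le ?_ ((Subgroup.closure_le _).2 ?_)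
        · rw [_root_.commutator_def, Subgroup.commutator_le]
          intro a _ b _
          rw [MonoidHom.mem_ker, map_commutatorElement, commutatorElement_eq_one_iff_commute]
          exact hfc a b
        · rintro _ ⟨v, rfl⟩
          exact (QuotientGroup.eq_one_iff _).2 (Subgroup.mem_sup_right (Subgroup.subset_closure ⟨(v : N), rfl⟩))
      have hcD' : (c : N) ∈ D' := by
        have : (c : N) = ⁅(L : N)⁻¹, x⁆ := by
          rw [commutatorElement_def, inv_inv, mul_assoc _ x, mul_assoc _ _ x⁻¹, hxconj, hc]; simp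
        rw [this]
        exact Subgroup.mem_sup_left (Subgroup.commutator_mem_commutator (inv_mem hLf) (Subgroup.mem_top _))
      rintro _ ⟨v, hv, rfl⟩
      obtain ⟨l, h⟩ := (hDm v).1 hv
      have h1 : (c ^ l)⁻¹ * v ∈ Φ := by rw [hπeq, map_pow, h]
      have h2 := mul_mem (pow_mem hcD' l) ((QuotientGroup.eq_one_iff _).1 (hΦf h1))
      simpa using h2
    · rw [hfr, Subgroup.commutator_le]
      rintro _ ⟨w, hw, rfl⟩ n _
      exact hLe ⟨w, hw⟩ n
  have hmapJ : Jn.map γ.toMonoidHom = Jn := by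
    rw [← hfr]; exact Subgroup.characteristic_iff_map_eq.1 inferInstance γ
  have hmapD : Dn.map γ.toMonoidHom = Dn := by
    rw [hDD', hD', Subgroup.map_sup, Subgroup.map_commutator, hfr, hmapJ,
      Subgroup.map_top_of_surjective _ γ.surjective, MonoidHom.map_closure]
    congr 2
    ext m
    constructor
    · rintro ⟨_, ⟨n, rfl⟩, rfl⟩; exact ⟨γ n, (map_pow γ n p).symm⟩
    · rintro ⟨n, rfl⟩; exact ⟨(γ.symm n) ^ p, ⟨_, rfl⟩, by simp⟩
  have hγJ : ∀ m ∈ Jn, γ m ∈ Jn := fun m hm => hmapJ.le ⟨m, hm, rfl⟩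
  have hγD : ∀ m ∈ Dn, γ m ∈ Dn := fun m hm => hmapD.le ⟨m, hm, rfl⟩
  -- the images of the generators
  obtain ⟨δ, hδ, hγL⟩ : ∃ δ ∈ Dn, γ (L : N) = L * δ := by
    obtain ⟨k, hk⟩ := hγp
    have hcard : Nat.card Jn ≤ p * Nat.card Dn := by
      have hs : Function.Surjective (fun q : Fin p × Dn =>
          (⟨(L : N) ^ (q.1 : ℕ) * q.2, mul_mem (pow_mem (show (L : N) ∈ Jn from ⟨L, hLJ, rfl⟩) _) (hDJn q.2.2)⟩ : Jn)) := by
        rintro ⟨m, v, hv, rfl⟩
        obtain ⟨j, l, h⟩ := (hJm v).1 hv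
        have hw : (L ^ (j % p))⁻¹ * v ∈ D := by
          refine (hDm _).2 ⟨l, ?_⟩
          rw [map_mul, map_inv, map_pow, h, ← pow_eq_pow_mod j (hπp L), inv_mul_cancel_left]
        exact ⟨(⟨j % p, Nat.mod_lt _ hpp.pos⟩, ⟨_, ⟨_, hw, rfl⟩⟩), Subtype.ext (by simp)⟩
      have := Nat.card_le_card_of_surjective _ hs
      rwa [Nat.card_prod, Nat.card_fin] at this
    exact ⟨_, EssentialSmall.mul_apply_mem_of_card_le hN hDJn hcard hk hγD hγJ ⟨L, hLJ, rfl⟩,
      (mul_inv_cancel_left _ _).symm⟩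
  obtain ⟨j, e, hj, hγd⟩ : ∃ (j : ℕ) (e : E), ¬ p ∣ j ∧ γ (d : N) = x ^ j * e := by
    obtain ⟨j, hj⟩ := hgen (γ (d : N))
    refine ⟨j, ⟨_, hj⟩, fun hdvd => ?_, by simp⟩
    have hd : γ (d : N) ∈ E := by
      have := mul_mem (show x ^ j ∈ E by obtain ⟨j', rfl⟩ := hdvd; rw [pow_mul]; exact pow_mem hxp _) hj
      rwa [mul_inv_cancel_left] at this
    obtain ⟨e, he, heE⟩ := hγ
    obtain ⟨i, a, b, h⟩ := hspan ⟨e, he⟩
    have hJe : (d ^ i)⁻¹ * ⟨e, he⟩ ∈ J := (hJm _).2 ⟨a, b, by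
      rw [map_mul, map_inv, map_pow, ← (hπeq _ _).1 h, map_mul, map_mul, map_pow, map_pow, map_pow,
        mul_assoc, inv_mul_cancel_left]⟩
    refine heE ?_
    have h2 := hγJ _ ⟨_, hJe, rfl⟩
    have h3 : γ e = γ (d : N) ^ i * γ (((d ^ i)⁻¹ * ⟨e, he⟩ : E) : N) := by
      rw [← map_pow, ← map_mul]; simp
    rw [h3]
    exact mul_mem (pow_mem hd i) (Subgroup.map_subtype_le J h2)
  -- computations modulo `Φ`
  let σ : N →* N ⧸ Φn := QuotientGroup.mk' Φn
  have hσ1 : ∀ n : N, σ n = 1 ↔ n ∈ Φn := fun n => QuotientGroup.eq_one_iff n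
  have hσeq : ∀ a b : E, π a = π b → σ (a : N) = σ (b : N) := fun a b h =>
    QuotientGroup.eq.2 ⟨a⁻¹ * b, (hπeq a b).2 h, rfl⟩
  have hσinj : ∀ a : E, σ (a : N) = 1 → π a = 1 := fun a h => by
    obtain ⟨v, hv, hva⟩ := (hσ1 _).1 h
    rw [show a = v from Subtype.ext hva.symm]
    exact (hπ1 v).2 hv
  have hσc : ∀ a b : E, Commute (σ (a : N)) (σ (b : N)) := fun a b =>
    commutatorElement_eq_one_iff_commute.1 (by rw [← map_commutatorElement, hσ1]; exact hEcomm a b)
  have hσp : ∀ a : E, σ (a : N) ^ p = 1 := fun a => by rw [← map_pow, hσ1]; exact hepD a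
  have hxj : ∀ (n : ℕ) (v : E) (i l : ℕ), π v = π L ^ i * π c ^ l →
      σ (x ^ n) * σ (v : N) * (σ (x ^ n))⁻¹ = σ (v : N) * σ (c : N) ^ (n * i) := by
    intro n
    induction n with
    | zero => intro v i l _; simp
    | succ n ih =>
      intro v i l h
      have hstep : σ x * σ (v : N) * (σ x)⁻¹ = σ ((v * c ^ i : E) : N) := by
        rw [← map_inv, ← map_mul, ← map_mul, hxconj]
        exact hσeq _ _ (by rw [map_mul, map_pow, hshift v 0 i l (by simpa using h), pow_zero, one_mul])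
      rw [pow_succ, map_mul, mul_inv_rev,
        show σ (x ^ n) * σ x * σ (v : N) * ((σ x)⁻¹ * (σ (x ^ n))⁻¹) =
          σ (x ^ n) * (σ x * σ (v : N) * (σ x)⁻¹) * (σ (x ^ n))⁻¹ by group,
        hstep, ih (v * c ^ i) i (l + i) (by rw [map_mul, map_pow, h, mul_assoc, ← pow_add]),
        Subgroup.coe_mul, Subgroup.coe_pow, map_mul, map_pow, mul_assoc, ← pow_add]
      ring_nf
  have hpowσ : σ (γ (d : N)) ^ p = σ (x ^ (p * j)) := by
    obtain ⟨a, b, f, hab⟩ := hco e
    set y := σ (x ^ j)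
    -- displacements of `e` under conjugation by `y`
    have hv₁ : ∃ w : E, y * σ (e : N) * y⁻¹ = σ (e : N) * σ (w : N) ∧ ∃ i l : ℕ, π w = π L ^ i * π c ^ l := by
      refine ⟨e⁻¹ * (u ^ j) e, ?_, ?_⟩
      · rw [Subgroup.coe_mul, Subgroup.coe_inv, map_mul, map_inv, mul_inv_cancel_left, hu, ← map_pow,
          MulAut.conjNormal_apply, map_mul, map_mul, map_inv]
      · refine (hJm _).1 ?_
        have hstep : ∀ v : E, v⁻¹ * u v ∈ J := fun v => by
          obtain ⟨i, i', l, h⟩ := hco v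
          exact (hJm _).2 ⟨i, i', by rw [map_mul, map_inv, hshift v i i' l h, inv_mul_cancel_left]⟩
        have : ∀ n : ℕ, e⁻¹ * (u ^ n) e ∈ J := by
          intro n
          induction n with
          | zero => simp
          | succ n ih =>
            rw [pow_succ' u, MulAut.mul_apply]
            have := mul_mem ih (hstep ((u ^ n) e))
            rwa [mul_assoc, mul_inv_cancel_left] at this
        exact this j
    obtain ⟨w, hw, i, l, hwil⟩ := hv₁
    have h2 := hxj j w i l hwil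
    rw [← map_pow σ, ← Subgroup.coe_pow] at h2
    have h3 := hxj j (c ^ (j * i)) 0 (j * i) (by rw [map_pow, pow_zero, one_mul])
    rw [Nat.mul_zero, pow_zero, mul_one] at h3
    have hey : σ (γ (d : N)) = y * σ (e : N) := by rw [hγd, map_mul]
    have hconj : (σ (γ (d : N))) ^ p = y * (σ (e : N) * y) ^ p * y⁻¹ := by
      rw [hey, ← conj_pow]; congr 1; group
    rw [hconj, mul_pow_chain hw h2 h3 (hσc _ _) (hσc _ _) (hσc _ _) p]
    obtain ⟨k2, hk2⟩ := hpp.dvd_choose_self (k := 2) (by norm_num) (by omega)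
    obtain ⟨k3, hk3⟩ := hpp.dvd_choose_self (k := 3) (by norm_num) (by omega)
    rw [hk2, hk3, pow_mul (σ (w : N)), pow_mul (σ ((c ^ (j * i) : E) : N)), hσp, hσp, hσp, one_pow,
      one_pow, one_mul, one_mul, one_mul, ← map_pow, ← pow_mul, mul_comm j p,
      mul_inv_eq_iff_eq_mul, ← map_mul, ← map_mul, ← pow_add, ← pow_add, add_comm]
  have hcommσ : σ ⁅γ (d : N), γ (L : N)⁆ = σ (c : N) ^ j := by
    obtain ⟨v, hv, hvδ⟩ := hδ
    obtain ⟨l, hl⟩ := (hDm v).1 hv
    have hLv : π (L * v) = π L ^ 1 * π c ^ l := by rw [map_mul, pow_one, hl]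
    have h1 := hxj j (L * v) 1 l hLv
    rw [mul_one] at h1
    rw [map_commutatorElement, hγd, hγL, ← hvδ, map_mul σ (x ^ j), show (L : N) * E.subtype v = ((L * v : E) : N) from rfl]
    set y := σ (x ^ j)
    set ee := σ (e : N)
    set w := σ ((L * v : E) : N)
    have he : ee * w * ee⁻¹ = w := by rw [(hσc e (L * v)).eq, mul_inv_cancel_right]
    rw [commutatorElement_def, show y * ee * w * (y * ee)⁻¹ * w⁻¹ = y * (ee * w * ee⁻¹) * y⁻¹ * w⁻¹ by group,
      he, h1, ← map_pow, ← Subgroup.coe_pow, (hσc (L * v) (c ^ j)).eq, mul_inv_cancel_right]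
  -- a congruence for `c`
  set R₀ := ⁅Dn, (⊤ : Subgroup N)⁆ ⊔ Subgroup.closure ((fun n : N => n ^ p) '' (Jn : Set N)) with hR₀
  have hR₀le : R₀ ≤ Φn := by
    refine sup_le ?_ ((Subgroup.closure_le _).2 ?_)
    · rw [Subgroup.commutator_le]
      rintro _ ⟨v, hv, rfl⟩ n _
      obtain ⟨l, hl⟩ := (hDm v).1 hv
      obtain ⟨i, hi⟩ := hgen n
      rw [← hσ1, map_commutatorElement, commutatorElement_eq_one_iff_commute,
        show n = x ^ i * ((⟨_, hi⟩ : E) : N) by simp, map_mul]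
      refine Commute.mul_right (Commute.symm ?_) (hσc v _)
      have h := hxj i v 0 l (by simpa using hl)
      rw [Nat.mul_zero, pow_zero, mul_one, mul_inv_eq_iff_eq_mul] at h
      exact h
    · rintro _ ⟨_, ⟨v, -, rfl⟩, rfl⟩
      exact hepD v
  have hγR : ∀ m ∈ R₀, γ m ∈ R₀ := by
    intro m hm
    have : R₀.map γ.toMonoidHom ≤ R₀ := by
      rw [hR₀, Subgroup.map_sup, Subgroup.map_commutator, hmapD, MonoidHom.map_closure,
        Subgroup.map_top_of_surjective _ γ.surjective]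
      refine sup_le_sup le_rfl (Subgroup.closure_mono ?_)
      rintro _ ⟨_, ⟨n, hn, rfl⟩, rfl⟩
      exact ⟨γ n, hγJ n hn, (map_pow γ n p).symm⟩
    exact this ⟨m, hm, rfl⟩
  have hkey : ∀ k : ℕ, ((⁅d, L⁆ * (d ^ (p * k))⁻¹ : E) : N) ∈ R₀ →
      σ (c : N) = σ (x ^ (p * k)) := by
    intro k hk
    have h1 := (hσ1 _).2 (hR₀le (hγR _ hk))
    rw [Subgroup.coe_mul, Subgroup.coe_inv, Subgroup.coe_pow, map_mul γ, map_inv γ, map_pow γ,
      show ((⁅d, L⁆ : E) : N) = ⁅(d : N), (L : N)⁆ from map_commutatorElement E.subtype d L,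
      map_commutatorElement, map_mul σ, map_inv, map_pow, mul_inv_eq_one, hcommσ, pow_mul _ p k,
      hpowσ] at h1
    obtain ⟨m, hm⟩ : ∃ m : ℕ, j * m ≡ 1 [MOD p] := by
      obtain ⟨m, -, hm⟩ := Nat.exists_mul_mod_eq_one_of_coprime
        (Nat.Coprime.symm ((hpp.coprime_iff_not_dvd).2 hj)) hpp.one_lt
      exact ⟨m, by rw [Nat.ModEq, hm, Nat.one_mod_eq_one.2 hpp.ne_one]⟩
    have hcp := hσp c
    have hxpp : σ (x ^ (p * k)) ^ p = 1 := by
      rw [pow_mul, ← map_pow]
      exact (hσ1 _).2 (hepD ⟨(x ^ p) ^ k, pow_mem hxp k⟩)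
    have h2 := congrArg (· ^ m) h1
    simp only [← pow_mul] at h2
    rw [pow_eq_pow_mod (j * m) hcp, show j * m % p = 1 % p from hm, ← pow_eq_pow_mod 1 hcp, pow_one] at h2
    rw [h2, ← map_pow, ← pow_mul, show p * j * (k * m) = p * k * (j * m) by ring,
      pow_mul _ (p * k), map_pow, pow_eq_pow_mod (j * m) hxpp, show j * m % p = 1 % p from hm,
      ← pow_eq_pow_mod 1 hxpp, pow_one]
  have hcne : σ (c : N) ≠ 1 := fun h => by
    obtain ⟨-, -, hl⟩ := hind' 0 0 1 (by simpa using hσinj c h)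
    exact absurd (Nat.le_of_dvd one_pos hl) (by omega)
  by_cases hbot : Φ = ⊥
  · refine hcne ((hkey 0 ?_).trans (by simp))
    have h : ⁅d, L⁆ ∈ Φ := PGroup.commutatorElement_mem_frattini hEp d L
    rw [hbot, Subgroup.mem_bot] at h
    rw [h]; simp
  -- the next layer
  set Ψ := psi p E with hΨ
  have hΨne : Ψ ≠ Φ := psi_ne_frattini hEp hbot
  have hΨR : ∀ v ∈ Ψ, (v : N) ∈ R₀ := by
    intro v hv
    have : Ψ.map E.subtype ≤ R₀ := by
      rw [hΨ, psi, Subgroup.map_sup, Subgroup.map_commutator, MonoidHom.map_closure]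
      refine sup_le_sup (Subgroup.commutator_mono hΦDn le_top) (Subgroup.closure_mono ?_)
      rintro _ ⟨_, ⟨w, hw, rfl⟩, rfl⟩
      exact ⟨w, hDJn (hΦDn ⟨w, hw, rfl⟩), (map_pow E.subtype w p).symm⟩
    exact this ⟨v, hv, rfl⟩
  let q : E →* E ⧸ Ψ := QuotientGroup.mk' Ψ
  have hq1 : ∀ v : E, q v = 1 ↔ v ∈ Ψ := fun v => QuotientGroup.eq_one_iff v
  have hΦcen : ∀ v ∈ Φ, ∀ w : E, Commute (q v) (q w) := fun v hv w =>
    commutatorElement_eq_one_iff_commute.1 (by
      rw [← map_commutatorElement, hq1]; exact commutator_mem_psi hv w)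
  have hΦp : ∀ v ∈ Φ, q v ^ p = 1 := fun v hv => by rw [← map_pow, hq1]; exact pow_mem_psi hv
  have hcc : ∀ a b w : E, Commute (q w) ⁅q a, q b⁆ := fun a b w => by
    rw [← map_commutatorElement]
    exact (hΦcen _ (PGroup.commutatorElement_mem_frattini hEp a b) w).symm
  have hbl : ∀ a a' b : E, ⁅q (a * a'), q b⁆ = ⁅q a, q b⁆ * ⁅q a', q b⁆ := fun a a' b => by
    rw [map_mul, PGroup.commutator_mul_left (hcc a' b a)]
    conv_rhs => rw [← map_commutatorElement]
    rw [← map_commutatorElement q a b, ← map_commutatorElement q a' b]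
    exact (hΦcen _ (PGroup.commutatorElement_mem_frattini hEp a' b) _).eq
  have hbr : ∀ a b b' : E, ⁅q a, q (b * b')⁆ = ⁅q a, q b⁆ * ⁅q a, q b'⁆ := fun a b b' => by
    rw [map_mul, PGroup.commutator_mul_right (hcc a b' b)]
  let Pw : E →* E ⧸ Ψ := MonoidHom.mk' (fun v => q (v ^ p)) fun a b => by
    rw [map_pow, map_mul, PGroup.mul_pow_prime_eq hpp hp2 (hcc b a a) (hcc b a b) (by
      rw [← map_commutatorElement]
      exact hΦp _ (PGroup.commutatorElement_mem_frattini hEp b a)), map_pow, map_pow]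
  have hPw : ∀ v : E, Pw v = q (v ^ p) := fun _ => rfl
  have hΦPw : Φ ≤ Pw.ker := fun v hv => by rw [MonoidHom.mem_ker, hPw, map_pow]; exact hΦp v hv
  have hΨinv : ∀ (α : MulAut E) (v : E), v ∈ Ψ → α v ∈ Ψ := fun α v hv =>
    (Subgroup.characteristic_iff_comap_eq.1 (inferInstance : (psi p E).Characteristic) α).ge hv
  let ut : (E ⧸ Ψ) ≃* (E ⧸ Ψ) :=
    QuotientGroup.congr Ψ Ψ u (Subgroup.characteristic_iff_map_eq.1 inferInstance u)
  have hut : ∀ v : E, ut (q v) = q (u v) := fun v => rfl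
  have hutP : ∀ v : E, ut (Pw v) = Pw (u v) := fun v => by rw [hPw, hut, map_pow, hPw]
  have hPwπ : ∀ a b : E, π a = π b → Pw a = Pw b := fun a b h =>
    inv_mul_eq_one.1 ((map_inv Pw a) ▸ (map_mul Pw a⁻¹ b).symm.trans (hΦPw ((hπeq a b).2 h)))
  set e₁ := ⁅q d, q L⁆ with he₁
  set e₂ := ⁅q d, q c⁆ with he₂
  set e₃ := ⁅q L, q c⁆ with he₃
  obtain ⟨φ, hφ, hucφ⟩ : ∃ φ ∈ Φ, u c = c * φ := ⟨_, hfix, (mul_inv_cancel_left _ _).symm⟩
  have hcφ : ∀ w : E, ⁅q w, q φ⁆ = 1 := fun w =>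
    commutatorElement_eq_one_iff_commute.2 (hΦcen φ hφ w).symm
  have hu3 : ut e₃ = e₃ := by
    rw [he₃, map_commutatorElement, hut, hut, hc, hucφ, hbl, hbr, hbr, hcφ, hcφ, commutatorElement_self,
      mul_one, mul_one, mul_one]
  have hu2 : ut e₂ = e₂ * e₃ := by
    rw [he₂, he₃, map_commutatorElement, hut, hut, hL, hucφ, hbl, hbr, hbr, hcφ, hcφ, mul_one, mul_one]
  have hu1 : ut e₁ = e₁ * e₂ * e₃ := by
    rw [he₁, he₂, he₃, map_commutatorElement, hut, hut, hL, hc, hbl, hbr, hbr, commutatorElement_self,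
      one_mul]
  have hΦle : Nat.card (Φ.map q) ≤ p ^ 3 := by
    have := card_range_le hsr (U := Φn) (Q := E ⧸ Ψ)
      (q.comp ((Φ.subtype).comp (Φ.equivMapOfInjective E.subtype E.subtype_injective).symm.toMonoidHom))
      (fun a b => (hΦcen _ (Subtype.coe_prop _) _).eq) (fun a => hΦp _ (Subtype.coe_prop _))
    rwa [MonoidHom.range_comp, MonoidHom.range_comp,
      MonoidHom.range_eq_top.2 (Φ.equivMapOfInjective E.subtype E.subtype_injective).symm.surjective,
      ← MonoidHom.range_eq_map, Subgroup.range_subtype] at this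
  rcases hchar Pw.ker (Subgroup.characteristic_iff_le_comap.2 fun α v hv => by
      rw [MonoidHom.mem_ker, hPw, hq1] at hv
      rw [Subgroup.mem_comap, MonoidHom.mem_ker, hPw, hq1, MulEquiv.coe_toMonoidHom, ← map_pow]
      exact hΨinv α _ hv) hΦPw with hker | hker
  swap
  · -- no `p`-th powers: the layer would be too large
    have hPw1 : ∀ v : E, q (v ^ p) = 1 := fun v => (hker ▸ Subgroup.mem_top v : v ∈ Pw.ker)
    have he₃1 : e₃ = 1 := by
      by_contra h3
      have hcomm3 : ∀ w, Commute (q w) e₃ := hcc L c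
      have h32 : Subgroup.zpowers e₃ < Subgroup.zpowers e₃ ⊔ Subgroup.zpowers e₂ := by
        refine lt_of_le_of_ne le_sup_left fun h => h3 ?_
        obtain ⟨i, hi⟩ := Subgroup.mem_zpowers_iff.1 (h.ge (Subgroup.mem_sup_right (Subgroup.mem_zpowers e₂)))
        have := hu2
        rw [← hi, map_zpow, hu3] at this
        exact left_eq_mul.1 this
      set V₂ := Subgroup.zpowers e₃ ⊔ Subgroup.zpowers e₂ with hV₂
      have h21 : V₂ < V₂ ⊔ Subgroup.zpowers e₁ := by
        refine lt_of_le_of_ne le_sup_left fun h => ?_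
        have hm := h.ge (Subgroup.mem_sup_right (Subgroup.mem_zpowers e₁))
        have key : ∀ y ∈ V₂, y⁻¹ * ut y ∈ Subgroup.zpowers e₃ ∧ ∀ w, Commute (q w) y := by
          intro y hy
          rw [hV₂, Subgroup.zpowers_eq_closure, Subgroup.zpowers_eq_closure, ← Subgroup.closure_union] at hy
          induction hy using Subgroup.closure_induction with
          | mem y hy =>
            rcases hy with rfl | rfl
            · exact ⟨by rw [hu3, inv_mul_cancel]; exact one_mem _, hcomm3⟩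
            · exact ⟨by rw [hu2, inv_mul_cancel_left]; exact Subgroup.mem_zpowers _, hcc d c⟩
          | one => exact ⟨by simp, fun w => Commute.one_right _⟩
          | mul a b _ _ ha hb =>
            refine ⟨?_, fun w => (ha.2 w).mul_right (hb.2 w)⟩
            obtain ⟨bb, rfl⟩ := QuotientGroup.mk'_surjective Ψ b
            obtain ⟨i, hi⟩ := Subgroup.mem_zpowers_iff.1 ha.1
            rw [map_mul, show (a * q bb)⁻¹ * (ut a * ut (q bb)) = (q bb)⁻¹ * (a⁻¹ * ut a) * q bb *
              ((q bb)⁻¹ * ut (q bb)) by group, ← hi, mul_assoc ((q bb)⁻¹),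
              ← ((hcomm3 bb).zpow_right i).eq, inv_mul_cancel_left]
            exact mul_mem (zpow_mem (Subgroup.mem_zpowers _) i) hb.1
          | inv a _ ha =>
            refine ⟨?_, fun w => (ha.2 w).inv_right⟩
            obtain ⟨aa, rfl⟩ := QuotientGroup.mk'_surjective Ψ a
            obtain ⟨i, hi⟩ := Subgroup.mem_zpowers_iff.1 ha.1
            rw [map_inv, inv_inv, show q aa * (ut (q aa))⁻¹ = q aa * ((q aa)⁻¹ * ut (q aa))⁻¹ * (q aa)⁻¹ by group,
              ← hi, ← zpow_neg, ((hcomm3 aa).zpow_right (-i)).eq, mul_inv_cancel_right]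
            exact zpow_mem (Subgroup.mem_zpowers _) _
        have h1 := (key e₁ hm).1
        rw [hu1, mul_assoc, inv_mul_cancel_left] at h1
        have h2 : e₂ ∈ Subgroup.zpowers e₃ := by
          have := mul_mem h1 (inv_mem (Subgroup.mem_zpowers e₃))
          rwa [mul_inv_cancel_right] at this
        exact h32.ne (le_antisymm le_sup_left (sup_le le_rfl (Subgroup.zpowers_le.2 h2)))
      have hqp : IsPGroup p (E ⧸ Ψ) := hEp.to_quotient Ψ
      have c1 : p ≤ Nat.card (Subgroup.zpowers e₃) := by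
        rw [Nat.card_zpowers, orderOf_eq_prime (by
          rw [he₃, ← map_commutatorElement]
          exact hΦp _ (PGroup.commutatorElement_mem_frattini hEp L c)) h3]
      have c2 := PGroup.mul_card_le_of_lt hqp h32
      have c3 := PGroup.mul_card_le_of_lt hqp h21
      have hmemΦ : ∀ a b : E, ⁅q a, q b⁆ ∈ Φ.map q := fun a b =>
        ⟨⁅a, b⁆, PGroup.commutatorElement_mem_frattini hEp a b, map_commutatorElement q a b⟩
      have hle : V₂ ⊔ Subgroup.zpowers e₁ ≤ Φ.map q :=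
        sup_le (sup_le (Subgroup.zpowers_le.2 (hmemΦ L c)) (Subgroup.zpowers_le.2 (hmemΦ d c)))
          (Subgroup.zpowers_le.2 (hmemΦ d L))
      have c4 := Subgroup.card_le_of_le hle
      -- the element `d` with the layer
      let U : Subgroup E := Φ ⊔ Subgroup.zpowers d
      have hlt : Φ.map q < U.map q := by
        refine lt_of_le_of_ne (Subgroup.map_mono le_sup_left) fun h => ?_
        obtain ⟨v, hv, hvd⟩ := h.ge (Subgroup.mem_map_of_mem q
          (Subgroup.mem_sup_right (Subgroup.mem_zpowers d) : d ∈ U))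
        have hdΦ : d ∈ Φ := by
          have := mul_mem hv (psi_le_frattini ((hq1 _).1 (show q (v⁻¹ * d) = 1 by
            rw [map_mul, map_inv, hvd, inv_mul_cancel])))
          rwa [mul_inv_cancel_left] at this
        obtain ⟨h', -, -⟩ := hind 1 0 0 (by simpa using hdΦ)
        exact absurd (Nat.le_of_dvd one_pos h') (by omega)
      have c5 := PGroup.mul_card_le_of_lt hqp hlt
      have c6 : Nat.card (U.map q) ≤ p ^ 3 := by
        have hUc : ∀ a ∈ U, ∀ b ∈ U, Commute (q a) (q b) := by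
          intro a ha b hb
          obtain ⟨a₁, ha₁, a₂, ha₂, rfl⟩ := Subgroup.mem_sup_of_normal_left.1 ha
          obtain ⟨b₁, hb₁, b₂, hb₂, rfl⟩ := Subgroup.mem_sup_of_normal_left.1 hb
          obtain ⟨i, rfl⟩ := Subgroup.mem_zpowers_iff.1 ha₂
          obtain ⟨i', rfl⟩ := Subgroup.mem_zpowers_iff.1 hb₂
          rw [map_mul, map_mul, map_zpow, map_zpow]
          exact ((hΦcen _ ha₁ _).mul_right ((hΦcen _ ha₁ _).zpow_right _)).mul_left
            (((hΦcen _ hb₁ d).symm.zpow_left _).mul_right ((Commute.refl _).zpow_zpow _ _))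
        have := card_range_le hsr (U := U.map E.subtype) (Q := E ⧸ Ψ)
          (q.comp ((U.subtype).comp (U.equivMapOfInjective E.subtype E.subtype_injective).symm.toMonoidHom))
          (fun a b => (hUc _ (Subtype.coe_prop _) _ (Subtype.coe_prop _)).eq)
          (fun a => by rw [MonoidHom.comp_apply, ← map_pow]; exact hPw1 _)
        rwa [MonoidHom.range_comp, MonoidHom.range_comp,
          MonoidHom.range_eq_top.2 (U.equivMapOfInjective E.subtype E.subtype_injective).symm.surjective,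
          ← MonoidHom.range_eq_map, Subgroup.range_subtype] at this
      have := hpp.two_le
      nlinarith [Nat.mul_le_mul_left p c1, Nat.mul_le_mul_left p (Nat.mul_le_mul_left p c1)]
    have hJc : ∀ a ∈ J, ∀ b ∈ J, Commute (q a) (q b) := by
      intro a ha b hb
      obtain ⟨i, l, h⟩ := (hJm a).1 ha
      obtain ⟨i', l', h'⟩ := (hJm b).1 hb
      have hLc : Commute (q L) (q c) := commutatorElement_eq_one_iff_commute.1 he₃1
      obtain ⟨φa, hφa, rfl⟩ : ∃ f ∈ Φ, a = L ^ i * c ^ l * f :=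
        ⟨_, (hπeq _ a).2 (by rw [map_mul, map_pow, map_pow, h]), (mul_inv_cancel_left _ _).symm⟩
      obtain ⟨φb, hφb, rfl⟩ : ∃ f ∈ Φ, b = L ^ i' * c ^ l' * f :=
        ⟨_, (hπeq _ b).2 (by rw [map_mul, map_pow, map_pow, h']), (mul_inv_cancel_left _ _).symm⟩
      rw [map_mul, map_mul q _ φb]
      refine Commute.mul_left (Commute.mul_right ?_ (hΦcen φb hφb _).symm) (Commute.mul_right
        (hΦcen φa hφa _) (hΦcen φa hφa _))
      rw [map_mul, map_mul, map_pow, map_pow, map_pow, map_pow]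
      exact Commute.mul_left (((Commute.refl _).pow_pow _ _).mul_right (hLc.pow_pow _ _))
        ((hLc.symm.pow_pow _ _).mul_right ((Commute.refl _).pow_pow _ _))
    obtain ⟨α, jm, lm, hα⟩ := hmove
    have hαc : ∀ a ∈ J, ∀ b ∈ J, Commute (q (α a)) (q (α b)) := fun a ha b hb => by
      refine commutatorElement_eq_one_iff_commute.1 ?_
      rw [← map_commutatorElement, ← map_commutatorElement, hq1]
      refine hΨinv α _ ((hq1 _).1 ?_)
      rw [map_commutatorElement, commutatorElement_eq_one_iff_commute]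
      exact hJc a ha b hb
    obtain ⟨i₁, a₁, b₁, hαL⟩ := hco (α L)
    obtain ⟨i₂, a₂, b₂, hαC⟩ := hco (α c)
    set v := α (L ^ jm * c ^ lm) with hv
    have hvJ : v ∉ J := fun h => by
      obtain ⟨j', l', h'⟩ := (hJm v).1 h
      exact hα j' l' (by rw [hπeq, map_mul, map_pow, map_pow, h'])
    obtain ⟨iv, av, bv, hαv⟩ := hco v
    have hiv : ¬ p ∣ iv := fun ⟨t, ht⟩ => hvJ ((hJm v).2 ⟨av, bv, by
      rw [hαv, ht, pow_mul, hπp, one_pow, one_mul]⟩)
    set w₀ := L ^ i₂ * c ^ ((p - 1) * i₁) with hw₀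
    have hw₀J : w₀ ∈ J := mul_mem (pow_mem hLJ _) (pow_mem (hDJ hcD) _)
    have hvmem : L ^ jm * c ^ lm ∈ J := mul_mem (pow_mem hLJ _) (pow_mem (hDJ hcD) _)
    have hwJ : α w₀ ∈ J := (hJm _).2 ⟨a₁ * i₂ + a₂ * ((p - 1) * i₁), b₁ * i₂ + b₂ * ((p - 1) * i₁), by
      have e1 : i₁ * i₂ + i₂ * ((p - 1) * i₁) = p * (i₁ * i₂) := by
        obtain ⟨p', rfl⟩ : ∃ p', p = p' + 1 := ⟨p - 1, by omega⟩
        rw [Nat.add_sub_cancel]
        ring
      rw [hw₀, map_mul, map_pow, map_pow, map_mul, map_pow, map_pow, hαL, hαC, mul_pow, mul_pow, mul_pow,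
        mul_pow, ← pow_mul, ← pow_mul, ← pow_mul, ← pow_mul, ← pow_mul, ← pow_mul,
        show π d ^ (i₁ * i₂) * π L ^ (a₁ * i₂) * π c ^ (b₁ * i₂) *
          (π d ^ (i₂ * ((p - 1) * i₁)) * π L ^ (a₂ * ((p - 1) * i₁)) * π c ^ (b₂ * ((p - 1) * i₁))) =
          π d ^ (i₁ * i₂) * π d ^ (i₂ * ((p - 1) * i₁)) * (π L ^ (a₁ * i₂) * π L ^ (a₂ * ((p - 1) * i₁))) *
            (π c ^ (b₁ * i₂) * π c ^ (b₂ * ((p - 1) * i₁))) by ac_rfl,
        ← pow_add, ← pow_add, ← pow_add, e1, pow_mul, hπp, one_pow, one_mul]⟩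
    rcases hchar ((Subgroup.center (E ⧸ Ψ)).comap q) (Subgroup.characteristic_iff_le_comap.2 fun β z hz => by
        simp only [Subgroup.mem_comap, Subgroup.mem_center_iff] at hz ⊢
        intro g
        obtain ⟨g, rfl⟩ := QuotientGroup.mk'_surjective Ψ g
        obtain ⟨g, rfl⟩ := β.surjective g
        show q (β g) * q (β z) = q (β z) * q (β g)
        rw [← commutatorElement_eq_one_iff_mul_comm, ← map_commutatorElement, ← map_commutatorElement,
          hq1]
        refine hΨinv β _ ((hq1 _).1 ?_)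
        rw [map_commutatorElement, commutatorElement_eq_one_iff_mul_comm]
        exact hz (q g)) (fun z hz => Subgroup.mem_center_iff.2 fun g => by
        obtain ⟨g, rfl⟩ := QuotientGroup.mk'_surjective Ψ g
        exact (hΦcen z hz g).eq.symm) with hcen | hcen
    · -- the intersection of two abelian planes is central
      have hwcen : q (α w₀) ∈ Subgroup.center (E ⧸ Ψ) := by
        refine Subgroup.mem_center_iff.2 fun g => ?_
        obtain ⟨g, rfl⟩ := QuotientGroup.mk'_surjective Ψ g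
        let C := (Subgroup.centralizer {q (α w₀)}).comap q
        have hC : ∀ z : E, z ∈ C ↔ Commute (q z) (q (α w₀)) := fun z =>
          Subgroup.mem_centralizer_singleton_iff
        have hJC : J ≤ C := fun z hz => (hC z).2 (hJc z hz _ hwJ)
        have hvC : v ∈ C := (hC v).2 (hαc _ hvmem _ hw₀J)
        have hdC : d ∈ C := by
          obtain ⟨m, -, hm⟩ := Nat.exists_mul_mod_eq_one_of_coprime
            (Nat.Coprime.symm ((hpp.coprime_iff_not_dvd).2 hiv)) hpp.one_lt
          have hm' : (v ^ m)⁻¹ * d ∈ J := inv_inv ((v ^ m)⁻¹ * d) ▸ inv_mem ((hJm _).2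
            ⟨av * m, bv * m, by
              rw [mul_inv_rev, inv_inv, map_mul, map_inv, map_pow, hαv, mul_pow, mul_pow, ← pow_mul,
                ← pow_mul, ← pow_mul, pow_eq_pow_mod (iv * m) (hπp d), hm, pow_one,
                mul_assoc (π d), inv_mul_cancel_left]⟩)
          have := mul_mem (pow_mem hvC m) (hJC hm')
          rwa [mul_inv_cancel_left] at this
        have : Subgroup.closure ({d, L, c} : Set E) ≤ C := (Subgroup.closure_le _).2 (by
          rintro _ (rfl | rfl | rfl)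
          · exact hdC
          · exact hJC hLJ
          · exact hJC (hDJ hcD))
        exact ((hC g).1 (this (hgenE ▸ Subgroup.mem_top g))).eq
      have hwΦ : α w₀ ∈ Φ := hcen.le hwcen
      have hw₀Φ : w₀ ∈ Φ := by
        have := (Subgroup.characteristic_iff_comap_eq.1 (inferInstance : Φ.Characteristic) α).le
        exact this hwΦ
      obtain ⟨-, h2, h1⟩ := hind 0 i₂ ((p - 1) * i₁) (by simpa [hw₀] using hw₀Φ)
      have h1' : p ∣ i₁ := (hpp.dvd_mul.1 h1).resolve_left fun h =>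
        absurd (Nat.le_of_dvd (by omega) h) (by omega)
      obtain ⟨t₁, rfl⟩ := h1'
      obtain ⟨t₂, rfl⟩ := h2
      refine hvJ ((hJm v).2 ⟨a₁ * jm + a₂ * lm, b₁ * jm + b₂ * lm, ?_⟩)
      rw [hv, map_mul, map_pow, map_pow, map_mul, map_pow, map_pow, hαL, hαC, pow_mul (π d), pow_mul (π d),
        hπp, one_pow, one_pow, one_mul, one_mul, mul_pow, mul_pow, ← pow_mul, ← pow_mul, ← pow_mul,
        ← pow_mul, pow_add, pow_add]
      ac_rfl
    · -- abelian with trivial powers
      apply hΨne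
      refine le_antisymm psi_le_frattini ?_
      rw [hΦdef, PGroup.frattini_eq hEp]
      refine sup_le ?_ ((Subgroup.closure_le _).2 ?_)
      · rw [_root_.commutator_def, Subgroup.commutator_le]
        intro a _ b _
        rw [← hq1, map_commutatorElement, commutatorElement_eq_one_iff_mul_comm]
        exact Subgroup.mem_center_iff.1 (hcen.ge (Subgroup.mem_top b) : q b ∈ Subgroup.center _) (q a)
      · rintro _ ⟨z, rfl⟩
        exact (hq1 _).1 (hPw1 z)
  -- `p`-th powers identify the layer with the Frattini quotient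
  have hrange : Pw.range = Φ.map q := by
    have hle : Pw.range ≤ Φ.map q := by
      rintro _ ⟨v, rfl⟩
      exact ⟨v ^ p, PGroup.pow_mem_frattini hEp v, rfl⟩
    refine Subgroup.eq_of_le_of_card_ge hle (hΦle.trans ?_)
    rw [← Subgroup.index_ker, hker, hidx]
  have hPinj : ∀ v : E, Pw v = 1 → π v = 1 := fun v hv => (hπ1 v).2 (hker.le hv)
  have hPm : ∀ a b : E, ∃ v : E, ⁅q a, q b⁆ = Pw v := fun a b => by
    obtain ⟨v, hv⟩ := hrange.ge ⟨⁅a, b⁆, PGroup.commutatorElement_mem_frattini hEp a b, rfl⟩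
    exact ⟨v, (hv.trans (map_commutatorElement q a b)).symm⟩
  have hPco : ∀ v : E, ∃ i j l : ℕ, Pw v = Pw d ^ i * Pw L ^ j * Pw c ^ l ∧
      ut (Pw v) = Pw v * (Pw L ^ i * Pw c ^ j) ∧ π v = π d ^ i * π L ^ j * π c ^ l := fun v => by
    obtain ⟨i, j, l, h⟩ := hco v
    refine ⟨i, j, l, ?_, ?_, h⟩
    · rw [← map_pow, ← map_pow, ← map_pow, ← map_mul, ← map_mul]
      exact hPwπ _ _ (by rw [h, map_mul, map_mul, map_pow, map_pow, map_pow])
    · rw [hutP, ← map_pow, ← map_pow, ← map_mul, ← map_mul]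
      exact hPwπ _ _ (by rw [hshift v i j l h, map_mul, map_mul, map_pow, map_pow])
  have hlift : ∀ i j i' j' : ℕ, Pw L ^ i * Pw c ^ j = Pw L ^ i' * Pw c ^ j' →
      π L ^ i * π c ^ j = π L ^ i' * π c ^ j' := fun i j i' j' h => by
    have := hPinj ((L ^ i * c ^ j)⁻¹ * (L ^ i' * c ^ j')) (by
      rw [map_mul, map_inv, map_mul, map_mul, map_pow, map_pow, map_pow, map_pow, h, inv_mul_cancel])
    rw [map_mul, map_inv, map_mul, map_mul, map_pow, map_pow, map_pow, map_pow, inv_mul_eq_one] at this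
    exact this
  have hcoef : ∀ i j i' j' : ℕ, π L ^ i * π c ^ j = π L ^ i' * π c ^ j' →
      π d ^ i = π d ^ i' ∧ π L ^ j = π L ^ j' := by
    intro i j i' j' h
    obtain ⟨-, h1, h2⟩ := hind' 0 (i + (p - 1) * i') (j + (p - 1) * j') (by
      rw [pow_zero, one_mul, pow_add, pow_add, mul_mul_mul_comm, h, mul_mul_mul_comm, ← pow_add, ← pow_add,
        show i' + (p - 1) * i' = p * i' by rw [Nat.sub_mul, one_mul, Nat.add_sub_cancel' (Nat.le_mul_of_pos_left _ hpp.pos)],
        show j' + (p - 1) * j' = p * j' by rw [Nat.sub_mul, one_mul, Nat.add_sub_cancel' (Nat.le_mul_of_pos_left _ hpp.pos)],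
        pow_mul, pow_mul, hπp, hπp, one_pow, one_pow, one_mul])
    have key : ∀ (z : E) (r r' : ℕ), p ∣ r + (p - 1) * r' → π z ^ r = π z ^ r' := by
      intro z r r' ⟨t, ht⟩
      have h3 : π z ^ r * π z ^ ((p - 1) * r') = π z ^ r' * π z ^ ((p - 1) * r') := by
        rw [← pow_add, ← pow_add, ht,
          show r' + (p - 1) * r' = p * r' by rw [Nat.sub_mul, one_mul, Nat.add_sub_cancel' (Nat.le_mul_of_pos_left _ hpp.pos)],
          pow_mul, pow_mul, hπp, one_pow, one_pow]
      exact mul_right_cancel h3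
    exact ⟨key d i i' h1, key L j j' h2⟩
  obtain ⟨v₃, hv₃⟩ := hPm L c
  obtain ⟨v₂, hv₂⟩ := hPm d c
  obtain ⟨v₁, hv₁⟩ := hPm d L
  rw [← he₃] at hv₃
  rw [← he₂] at hv₂
  rw [← he₁] at hv₁
  obtain ⟨i₃, j₃, k, hk, hk', hkπ⟩ := hPco v₃
  have h₃ : Pw v₃ = Pw c ^ k := by
    rw [← hv₃, hu3, hv₃, left_eq_mul] at hk'
    have := hlift i₃ j₃ 0 0 (by rw [hk', pow_zero, pow_zero, one_mul])
    obtain ⟨e1, e2⟩ := hcoef _ _ _ _ this
    rw [← map_pow]
    exact hPwπ _ _ (by rw [hkπ, e1, e2, map_pow, pow_zero, pow_zero, one_mul, one_mul])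
  obtain ⟨i₂, j₂, l₂, hl₂, hl₂', hl₂π⟩ := hPco v₂
  obtain ⟨-, hj₂⟩ : π d ^ i₂ = π d ^ 0 ∧ π L ^ j₂ = π L ^ k := hcoef _ _ _ _ (hlift _ _ _ _ (by
    rw [← hv₂, hu2, hv₃, h₃] at hl₂'
    rw [← mul_left_cancel hl₂', pow_zero, one_mul]))
  have h₂ : Pw v₂ = Pw L ^ k * Pw c ^ l₂ := by
    have hi₂ : π d ^ i₂ = π d ^ 0 := (hcoef _ _ _ _ (hlift _ _ 0 k (by
      rw [← hv₂, hu2, hv₃, h₃] at hl₂'
      rw [← mul_left_cancel hl₂', pow_zero, one_mul]))).1
    rw [← map_pow, ← map_pow, ← map_mul]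
    exact hPwπ _ _ (by rw [hl₂π, hi₂, hj₂, pow_zero, one_mul, map_mul, map_pow, map_pow])
  obtain ⟨i₁, j₁, l₁, hl₁, hl₁', hl₁π⟩ := hPco v₁
  have hi₁ : π d ^ i₁ = π d ^ k := (hcoef _ _ _ _ (hlift i₁ j₁ k (l₂ + k) (by
    rw [← hv₁, hu1, hv₂, hv₃, h₂, h₃, mul_assoc] at hl₁'
    rw [← mul_left_cancel hl₁', pow_add, mul_assoc]))).1
  have hc' := hkey k (by
    have hmem : (d ^ k * (L ^ j₁ * c ^ l₁))⁻¹ * v₁ ∈ Φ := by
      rw [hπeq, map_mul, map_mul, map_pow, map_pow, map_pow, hl₁π, hi₁, mul_assoc]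
    have hψ : (d ^ (p * k) * (L ^ j₁ * c ^ l₁) ^ p)⁻¹ * ⁅d, L⁆ ∈ Ψ := by
      rw [← hq1, map_mul, map_inv, inv_mul_eq_one, map_commutatorElement, ← he₁, hv₁,
        ← hPwπ _ _ ((hπeq _ _).1 hmem), map_mul Pw, map_pow Pw, hPw, map_mul q, mul_comm p k, pow_mul d,
        hPw, ← map_pow]
      rw [← pow_mul, ← pow_mul, mul_comm]
    have hy : L ^ j₁ * c ^ l₁ ∈ J := mul_mem (pow_mem hLJ _) (pow_mem (hDJ hcD) _)
    have e : ⁅d, L⁆ * (d ^ (p * k))⁻¹ = d ^ (p * k) * ((L ^ j₁ * c ^ l₁) ^ p *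
        ((d ^ (p * k) * (L ^ j₁ * c ^ l₁) ^ p)⁻¹ * ⁅d, L⁆)) * (d ^ (p * k))⁻¹ := by group
    rw [e, Subgroup.coe_mul, Subgroup.coe_mul, Subgroup.coe_inv]
    refine Subgroup.Normal.conj_mem ?_ _ ?_ _
    · haveI : (Subgroup.closure ((fun n : N => n ^ p) '' (Jn : Set N))).Normal := by
        refine ⟨fun m hm g => ?_⟩
        induction hm using Subgroup.closure_induction with
        | mem y hy =>
          obtain ⟨n, hn, rfl⟩ := hy
          exact Subgroup.subset_closure ⟨g * n * g⁻¹, hJN.conj_mem n hn g, conj_pow⟩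
        | one => simp
        | mul a b _ _ ha hb => simpa [mul_assoc] using mul_mem ha hb
        | inv a _ ha => simpa [mul_assoc] using inv_mem ha
      rw [hR₀]; infer_instance
    · rw [Subgroup.coe_mul, Subgroup.coe_pow]
      exact mul_mem (Subgroup.mem_sup_right (Subgroup.subset_closure ⟨_, ⟨_, hy, rfl⟩, rfl⟩)) (hΨR _ hψ))
  -- comparing the two computations of the action of `x ^ (p * k)`
  let z : E := ⟨x ^ (p * k), by rw [pow_mul]; exact pow_mem hxp k⟩
  have hzc : c⁻¹ * z ∈ Φ := by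
    refine (hπ1 _).1 (hσinj _ ?_)
    rw [Subgroup.coe_mul, Subgroup.coe_inv, map_mul, map_inv, hc']
    exact inv_mul_cancel _
  obtain ⟨φz, hφz, hzφ⟩ : ∃ f ∈ Φ, z = c * f := ⟨_, hzc, (mul_inv_cancel_left _ _).symm⟩
  have hzL : q ((u ^ (p * k)) L) = e₃⁻¹ * q L := by
    rw [show (u ^ (p * k)) L = z * L * z⁻¹ from Subtype.ext (by
      rw [hu, ← map_pow, MulAut.conjNormal_apply]; rfl), hzφ, map_mul, map_inv, map_mul, map_mul,
      show q c * q φz * q L * (q c * q φz)⁻¹ = q c * (q φz * q L * (q φz)⁻¹) * (q c)⁻¹ by group,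
      (hΦcen φz hφz L).eq, mul_inv_cancel_right, he₃, commutatorElement_inv, commutatorElement_def,
      inv_mul_cancel_right]
  obtain ⟨vφ, hvφ⟩ := hrange.ge ⟨φ, hφ, rfl⟩
  obtain ⟨iφ, jφ, lφ, hφ1, hφ2, -⟩ := hPco vφ
  have hPcen : ∀ v : E, Pw v ∈ Subgroup.center (E ⧸ Ψ) := fun v => Subgroup.mem_center_iff.2 fun g => by
    obtain ⟨g, rfl⟩ := QuotientGroup.mk'_surjective Ψ g
    rw [hPw]
    exact (hΦcen _ (PGroup.pow_mem_frattini hEp v) g).eq.symm
  have hPp : ∀ v : E, Pw v ^ p = 1 := fun v => by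
    rw [hPw]; exact hΦp _ (PGroup.pow_mem_frattini hEp v)
  have hiter := conj_iter (A := E ⧸ Ψ) ut (L := q L) (c := q c) (φ₁ := Pw vφ)
    (φ₂ := Pw (L ^ iφ * c ^ jφ)) (φ₃ := Pw (c ^ iφ))
    (by rw [hut, hc, map_mul]) (by rw [hut, hucφ, map_mul, hvφ])
    (by rw [hφ2, map_mul, map_pow, map_pow])
    (by
      rw [hutP, ← map_mul]
      exact hPwπ _ _ (by
        rw [hshift (L ^ iφ * c ^ jφ) 0 iφ jφ (by rw [map_mul, map_pow, map_pow, pow_zero, one_mul]),
          pow_zero, one_mul]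
        simp only [map_mul, map_pow, mul_assoc]))
    (by
      rw [hutP]
      exact hPwπ _ _ (by
        rw [hshift (c ^ iφ) 0 0 iφ (by rw [map_pow, pow_zero, pow_zero, one_mul, one_mul]),
          pow_zero, pow_zero, one_mul, mul_one]))
    (hPcen _) (hPcen _) (hPcen _) (p * k)
  have hupow : ∀ n : ℕ, (ut ^ n : MulAut (E ⧸ Ψ)) (q L) = q ((u ^ n) L) := by
    intro n
    induction n with
    | zero => rfl
    | succ n ih => rw [pow_succ' (ut : MulAut (E ⧸ Ψ)), MulAut.mul_apply, ih, pow_succ' u, MulAut.mul_apply, hut]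
  have hch : ∀ r : ℕ, 2 ≤ r → r ≤ 4 → p ∣ (p * k).choose r := by
    intro r h2 h4
    rcases Nat.eq_zero_or_pos k with rfl | hk0
    · rw [Nat.mul_zero, Nat.choose_eq_zero_of_lt (by omega)]; exact dvd_zero p
    · have hh : (p * k).choose r * r.factorial = (p * k).descFactorial r := by
        rw [Nat.descFactorial_eq_factorial_mul_choose, mul_comm]
      have hd : p ∣ (p * k).descFactorial r := by
        obtain ⟨r', rfl⟩ : ∃ r', r = r' + 1 := ⟨r - 1, by omega⟩
        obtain ⟨m, hm⟩ : ∃ m, p * k = m + 1 := ⟨p * k - 1, by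
          have := Nat.mul_pos hpp.pos hk0; omega⟩
        rw [hm, Nat.succ_descFactorial_succ, ← hm]
        exact Dvd.dvd.mul_right (dvd_mul_right p k) _
      rw [← hh] at hd
      refine (hpp.dvd_mul.1 hd).resolve_right fun h => ?_
      rw [hpp.dvd_factorial] at h
      omega
  obtain ⟨a2, ha2⟩ := hch 2 le_rfl (by norm_num)
  obtain ⟨a3, ha3⟩ := hch 3 (by norm_num) (by norm_num)
  obtain ⟨a4, ha4⟩ := hch 4 (by norm_num) le_rfl
  rw [hupow, hzL, ha2, ha3, ha4, pow_mul (Pw vφ), pow_mul (Pw (L ^ iφ * c ^ jφ)), pow_mul (Pw (c ^ iφ)),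
    hPp, hPp, hPp, one_pow, one_pow, one_pow, mul_one, mul_one, mul_one, pow_mul, ← map_pow q c, ← hPw,
    hv₃, h₃] at hiter
  have hkk : Pw c ^ (2 * k) = 1 := by
    rw [Subgroup.mem_center_iff.1 (pow_mem (hPcen c) k) (q L)] at hiter
    have := mul_right_cancel hiter
    rw [two_mul, pow_add]
    conv_lhs => arg 1; rw [← this]
    rw [inv_mul_cancel]
  have hPc1 : Pw c ≠ 1 := fun h => hcne ((hσeq c 1 (by rw [hPinj c h, map_one])).trans (by simp))
  have hord : orderOf (Pw c) = p := orderOf_eq_prime (hPp c) hPc1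
  have hdk : p ∣ k := by
    have := orderOf_dvd_of_pow_eq_one hkk
    rw [hord] at this
    exact (hpp.dvd_mul.1 this).resolve_left fun h => absurd (Nat.le_of_dvd two_pos h) (by omega)
  refine hcne (hc'.trans ((hσ1 _).2 ?_))
  obtain ⟨t, rfl⟩ := hdk
  rw [show p * (p * t) = p * t * p by ring, pow_mul]
  exact hepD ⟨x ^ (p * t), by rw [pow_mul]; exact pow_mem hxp t⟩

end Cfsg.Agent.RankThreeEss
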