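import Cfsg.Agent.Lib.RankThreeEss.Linear
import Cfsg.Agent.Lib.RankThreeEss.Regular
import Cfsg.Agent.Lib.RankThreeEss.Frame

/-!
# The action of `N` on the Frattini quotient of `E`

`Model`: `E` normal in `N`, with its Frattini quotient seen as a space `W` on which a group `G` acts as in
`Rep`, compatibly with conjugation by `N`.
-/

set_option autoImplicit false
set_option linter.style.haveILetI false
set_option linter.unusedSectionVars false

namespace Cfsg.Agent.RankThreeEss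

open scoped commutatorElement

variable {p : ℕ} [hp : Fact p.Prime] {N : Type*} [Group N] [Finite N] {G : Type*} [Group G] [Finite G]
  {W : Type*} [AddCommGroup W] [Module (ZMod p) W]

namespace Rep

variable (R : Rep p G W)
include R

theorem smul_mem' {U : AddSubgroup W} {v : W} (hv : v ∈ U) (y : ZMod p) : y • v ∈ U := by
  rw [← ZMod.natCast_zmod_val y, Nat.cast_smul_eq_nsmul]
  exact AddSubgroup.nsmul_mem _ hv _

/-- A regular unipotent element, its fixed line and its plane. -/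
theorem chain_indep {u : G} (hu : ∃ k : ℕ, u ^ p ^ k = 1) {d : W} (hd : R.nil u (R.nil u d) ≠ 0) :
    ∀ i j l : ZMod p, i • d + j • R.nil u d + l • R.nil u (R.nil u d) = 0 → i = 0 ∧ j = 0 ∧ l = 0 := by
  intro i j l h
  have h3 := R.nil_cube_apply hu
  have h2 := congrArg (fun v => R.nil u (R.nil u v)) h
  simp only [map_add, map_smul, map_zero, h3, smul_zero, add_zero] at h2
  obtain rfl : i = 0 := (smul_eq_zero.1 h2).resolve_right hd
  have h1 := congrArg (fun v => R.nil u v) h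
  simp only [map_add, map_smul, map_zero, h3, smul_zero, add_zero, zero_smul, zero_add] at h1
  obtain rfl : j = 0 := (smul_eq_zero.1 h1).resolve_right hd
  simp only [zero_smul, zero_add] at h
  exact ⟨rfl, rfl, (smul_eq_zero.1 h).resolve_right hd⟩

theorem chain_coords {u : G} (hu : ∃ k : ℕ, u ^ p ^ k = 1) {d : W} (hd : R.nil u (R.nil u d) ≠ 0) (v : W) :
    ∃ i j l : ZMod p, v = i • d + j • R.nil u d + l • R.nil u (R.nil u d) :=
  exists_coords R.card _ _ _ (R.chain_indep hu hd) v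

/-- An invariant nonzero subgroup is everything. -/
theorem eq_top_of_invariant {u : G} (hu : ∃ k : ℕ, u ^ p ^ k = 1) {d : W} (hd : R.nil u (R.nil u d) ≠ 0)
    (U : AddSubgroup W) (hU : ∀ g : G, ∀ v ∈ U, R.ρ g v ∈ U) {w : W} (hw : w ∈ U) (hw0 : w ≠ 0) (v : W) :
    v ∈ U := by
  have hA : ∀ y ∈ U, R.nil u y ∈ U := fun y hy => by
    have := U.sub_mem (hU u y hy) hy
    rwa [R.apply_eq, add_sub_cancel_left] at this
  have hfull : ∀ y ∈ U, R.nil u (R.nil u y) ≠ 0 → ∀ v, v ∈ U := fun y hy hy2 v => by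
    obtain ⟨i, j, l, rfl⟩ := R.chain_coords hu hy2 v
    exact U.add_mem (U.add_mem (R.smul_mem' hy i) (R.smul_mem' (hA _ hy) j)) (R.smul_mem' (hA _ (hA _ hy)) l)
  set L := R.nil u d with hL
  set c := R.nil u L with hc
  have h3 : R.nil u c = 0 := R.nil_cube_apply hu d
  by_contra hne
  have hno : ∀ y ∈ U, R.nil u (R.nil u y) = 0 := fun y hy => by_contra fun h => hne (hfull y hy h v)
  have hker : ∀ y, R.nil u (R.nil u y) = 0 → ∃ j l : ZMod p, y = j • L + l • c := fun y hy => by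
    obtain ⟨i, j, l, rfl⟩ := R.chain_coords hu hd y
    simp only [map_add, map_smul, ← hL, ← hc, h3, map_zero, smul_zero, add_zero] at hy
    obtain rfl : i = 0 := (smul_eq_zero.1 hy).resolve_right hd
    exact ⟨j, l, by rw [zero_smul, zero_add]⟩
  have hcU : c ∈ U := by
    obtain ⟨j, l, rfl⟩ := hker w (hno w hw)
    by_cases hj : j = 0
    · subst hj
      rw [zero_smul, zero_add] at hw hw0
      have := R.smul_mem' hw l⁻¹
      rwa [smul_smul, inv_mul_cancel₀ (fun h => hw0 (by rw [h, zero_smul])), one_smul] at this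
    · have := R.smul_mem' (hA _ hw) j⁻¹
      rwa [map_add, map_smul, map_smul, ← hc, h3, smul_zero, add_zero, smul_smul, inv_mul_cancel₀ hj,
        one_smul] at this
  obtain ⟨g, hg⟩ := R.moves_line hu hd
  obtain ⟨j, l, hjl⟩ := hker _ (hno _ (hU g c hcU))
  have hj : j ≠ 0 := fun h => hg (by
    rw [← hL, ← hc, hjl, h, zero_smul, zero_add]
    exact Submodule.smul_mem _ _ (Submodule.mem_span_singleton_self _))
  have hLU : L ∈ U := by
    have := R.smul_mem' (U.sub_mem (hU g c hcU) (R.smul_mem' hcU l)) j⁻¹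
    rwa [hjl, add_sub_cancel_right, smul_smul, inv_mul_cancel₀ hj, one_smul] at this
  obtain ⟨g', y, hy, hy'⟩ := R.moves_plane hu hd
  obtain ⟨j', l', rfl⟩ := hker y hy
  exact hy' (hno _ (hU g' _ (U.add_mem (R.smul_mem' hLU j') (R.smul_mem' hcU l'))))

end Rep

/-- `E` normal in `N` with its Frattini quotient as a space on which `G` acts, compatibly with conjugation. -/
structure Model (p : ℕ) (N : Type*) [Group N] (E : Subgroup N) [E.Normal] (G : Type*) [Group G] (W : Type*)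
    [AddCommGroup W] [Module (ZMod p) W] where
  R : Rep p G W
  proj : E → W
  proj_mul : ∀ a b, proj (a * b) = proj a + proj b
  proj_eq_zero : ∀ e, proj e = 0 ↔ e ∈ frattini E
  proj_surj : Function.Surjective proj
  χ : N →* G
  χ_eq_one : ∀ n, χ n = 1 ↔ n ∈ E
  act : ∀ n e, R.ρ (χ n) (proj e) = proj (MulAut.conjNormal n e)
  lift : ∀ g : G, ∃ α : MulAut E, ∀ e, R.ρ g (proj e) = proj (α e)

namespace Model

variable {E : Subgroup N} [E.Normal] (D : Model p N E G W)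
include D

theorem proj_one : D.proj 1 = 0 := (D.proj_eq_zero 1).2 (one_mem _)

theorem proj_inv (a : E) : D.proj a⁻¹ = -D.proj a :=
  eq_neg_of_add_eq_zero_left (by rw [← D.proj_mul, inv_mul_cancel, D.proj_one])

theorem proj_pow (a : E) (n : ℕ) : D.proj (a ^ n) = (n : ZMod p) • D.proj a := by
  induction n with
  | zero => rw [pow_zero, D.proj_one, Nat.cast_zero, zero_smul]
  | succ n ih => rw [pow_succ, D.proj_mul, ih, Nat.cast_succ, add_smul, one_smul]

theorem proj_eq_iff (a b : E) : D.proj a = D.proj b ↔ a⁻¹ * b ∈ frattini E := by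
  rw [← D.proj_eq_zero, D.proj_mul, D.proj_inv, neg_add_eq_zero]

theorem proj_coord (a b c : E) (i j l : ℕ) :
    D.proj (a ^ i * b ^ j * c ^ l) =
      (i : ZMod p) • D.proj a + (j : ZMod p) • D.proj b + (l : ZMod p) • D.proj c := by
  rw [D.proj_mul, D.proj_mul, D.proj_pow, D.proj_pow, D.proj_pow]

theorem span_of_indep {a b c : E}
    (h : ∀ i j l : ZMod p, i • D.proj a + j • D.proj b + l • D.proj c = 0 → i = 0 ∧ j = 0 ∧ l = 0) (e : E) :
    ∃ i j l : ℕ, (a ^ i * b ^ j * c ^ l)⁻¹ * e ∈ frattini E := by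
  obtain ⟨i, j, l, hv⟩ := exists_coords D.R.card _ _ _ h (D.proj e)
  exact ⟨i.val, j.val, l.val, (D.proj_eq_iff _ _).1 (by
    rw [D.proj_coord, ZMod.natCast_zmod_val, ZMod.natCast_zmod_val, ZMod.natCast_zmod_val, hv])⟩

theorem ind_of_indep {a b c : E}
    (h : ∀ i j l : ZMod p, i • D.proj a + j • D.proj b + l • D.proj c = 0 → i = 0 ∧ j = 0 ∧ l = 0) (i j l : ℕ)
    (hm : a ^ i * b ^ j * c ^ l ∈ frattini E) : p ∣ i ∧ p ∣ j ∧ p ∣ l := by
  obtain ⟨h1, h2, h3⟩ := h i j l (by rw [← D.proj_coord, D.proj_eq_zero]; exact hm)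
  exact ⟨(ZMod.natCast_eq_zero_iff _ _).1 h1, (ZMod.natCast_eq_zero_iff _ _).1 h2,
    (ZMod.natCast_eq_zero_iff _ _).1 h3⟩

theorem index_frattini : (frattini E).index = p ^ 3 := by
  rw [← D.R.card, Subgroup.index_eq_card]
  refine Nat.card_congr (Equiv.ofBijective (fun q => Quotient.liftOn' q D.proj fun a b h =>
    (D.proj_eq_iff a b).2 (QuotientGroup.leftRel_apply.1 h)) ⟨fun q q' h => ?_, fun w => ?_⟩)
  · induction q using QuotientGroup.induction_on with | _ a => ?_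
    induction q' using QuotientGroup.induction_on with | _ b => ?_
    exact QuotientGroup.eq.2 ((D.proj_eq_iff a b).1 h)
  · obtain ⟨e, he⟩ := D.proj_surj w
    exact ⟨(e : E ⧸ frattini E), he⟩

variable {x : N} (hgen : ∀ n : N, ∃ i : ℕ, (x ^ i)⁻¹ * n ∈ E) (hxp : x ^ p ∈ E)
include hgen hxp

/-- The regular case. -/
theorem false_of_sq_ne (five : 5 ≤ p) (hN : IsPGroup p N) (hsr : Cfsg.SectionalPRankLE p 3 N)
    (hsq : D.R.nil (D.χ x) * D.R.nil (D.χ x) ≠ 0) (γ : MulAut N) (hγp : ∃ k : ℕ, γ ^ p ^ k = 1)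
    (hγ : ∃ e ∈ E, γ e ∉ E) : False := by
  obtain ⟨k, hk⟩ := hN x
  have hu : ∃ k : ℕ, D.χ x ^ p ^ k = 1 := ⟨k, by rw [← map_pow, hk, map_one]⟩
  obtain ⟨dW, hd⟩ : ∃ d, D.R.nil (D.χ x) (D.R.nil (D.χ x) d) ≠ 0 := by
    by_contra h
    push Not at h
    exact hsq (LinearMap.ext fun v => by rw [Module.End.mul_apply, h, LinearMap.zero_apply])
  obtain ⟨d, rfl⟩ := D.proj_surj dW
  have hAd : ∀ e : E, D.proj (e⁻¹ * MulAut.conjNormal x e) = D.R.nil (D.χ x) (D.proj e) := fun e => by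
    rw [D.proj_mul, D.proj_inv, ← D.act, D.R.apply_eq, neg_add_cancel_left]
  set L := d⁻¹ * MulAut.conjNormal x d with hL
  set c := L⁻¹ * MulAut.conjNormal x L with hc
  have hLp : D.proj L = D.R.nil (D.χ x) (D.proj d) := hAd d
  have hcp : D.proj c = D.R.nil (D.χ x) (D.R.nil (D.χ x) (D.proj d)) := by rw [hc, hAd, hLp]
  have hind : ∀ i j l : ZMod p, i • D.proj d + j • D.proj L + l • D.proj c = 0 → i = 0 ∧ j = 0 ∧ l = 0 := by
    rw [hLp, hcp]; exact D.R.chain_indep hu hd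
  refine false_of_regular five hN hsr E x d L c (by rw [hL, mul_inv_cancel_left])
    (by rw [hc, mul_inv_cancel_left]) ?_ (D.span_of_indep hind) (D.ind_of_indep hind) D.index_frattini hgen hxp
    ?_ ?_ γ hγp hγ
  · rw [← D.proj_eq_zero, hAd, hcp, D.R.nil_cube_apply hu]
  · intro U hU hΦU
    by_cases hle : U ≤ frattini E
    · exact Or.inl (le_antisymm hle hΦU)
    refine Or.inr ((Subgroup.eq_top_iff' U).2 fun e => ?_)
    obtain ⟨e₀, he₀, he₀'⟩ := SetLike.not_le_iff_exists.1 hle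
    let V : AddSubgroup W :=
      { carrier := D.proj '' (U : Set E)
        add_mem' := by
          rintro _ _ ⟨a, ha, rfl⟩ ⟨b, hb, rfl⟩
          exact ⟨a * b, mul_mem ha hb, D.proj_mul a b⟩
        zero_mem' := ⟨1, one_mem _, D.proj_one⟩
        neg_mem' := by
          rintro _ ⟨a, ha, rfl⟩
          exact ⟨a⁻¹, inv_mem ha, D.proj_inv a⟩ }
    obtain ⟨e', he', he'p⟩ := D.R.eq_top_of_invariant hu hd V (fun g v hv => by
      obtain ⟨a, ha, rfl⟩ := hv
      obtain ⟨α, hα⟩ := D.lift g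
      exact ⟨α a, (Subgroup.characteristic_iff_comap_eq.1 hU α).ge ha, (hα a).symm⟩)
      ⟨e₀, he₀, rfl⟩ (fun h => he₀' ((D.proj_eq_zero _).1 h)) (D.proj e)
    have := mul_mem he' (hΦU ((D.proj_eq_iff e' e).1 he'p))
    rwa [mul_inv_cancel_left] at this
  · obtain ⟨g, v, hv, hv'⟩ := D.R.moves_plane hu hd
    obtain ⟨i, j, l, rfl⟩ := D.R.chain_coords hu hd v
    have h3 := D.R.nil_cube_apply hu (D.proj d)
    simp only [map_add, map_smul, h3, map_zero, smul_zero, add_zero] at hv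
    obtain rfl : i = 0 := (smul_eq_zero.1 hv).resolve_right hd
    obtain ⟨α, hα⟩ := D.lift g
    refine ⟨α, j.val, l.val, fun j' l' hm => hv' ?_⟩
    have h1 := (D.proj_eq_iff _ _).2 hm
    rw [← hα, D.proj_mul (L ^ j'), D.proj_mul (L ^ j.val), D.proj_pow L, D.proj_pow L, D.proj_pow c, D.proj_pow c, ZMod.natCast_zmod_val,
      ZMod.natCast_zmod_val, hLp, hcp] at h1
    rw [zero_smul, zero_add, ← h1]
    simp only [map_add, map_smul, h3, map_zero, smul_zero, add_zero]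

/-- The frame of the transvection case. -/
theorem exists_frame_of_torus (five : 5 ≤ p) (hN : IsPGroup p N) (hsr : Cfsg.SectionalPRankLE p 3 N) (hxE : x ∉ E)
    {a z c : W} (hind : ∀ i j l : ZMod p, i • a + j • z + l • c = 0 → i = 0 ∧ j = 0 ∧ l = 0)
    (ha : D.R.ρ (D.χ x) a = a + z) (hz : D.R.ρ (D.χ x) z = z) (hc : D.R.ρ (D.χ x) c = c)
    (τ : MulAut N) (hτE : ∀ e ∈ E, τ e ∈ E) (t : G)
    (hτt : ∀ (e : E) (h : τ e ∈ E), D.proj ⟨τ e, h⟩ = D.R.ρ t (D.proj e)) {l m : ℕ}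
    (hta : D.R.ρ t a = (m : ZMod p) • a) (htz : D.R.ρ t z = (l : ZMod p) • z) (htc : D.R.ρ t c = c)
    (htx : (x ^ (l * l))⁻¹ * τ x ∈ E)
    (lm : ((m * l : ℕ) : ZMod p) = 1) (l2 : ((l : ℕ) : ZMod p) ^ 2 ≠ 1)
    (l3 : ((l : ℕ) : ZMod p) ^ 3 ≠ 1) (l5 : ((l : ℕ) : ZMod p) ^ 5 ≠ 1) :
    ∃ (K : Subgroup N) (hK : K.Characteristic), K ≤ frattini N ∧ K ≤ E ∧
      ∃ x₁ a₁ z₁ c₁ : N ⧸ K, Frame p x₁ a₁ z₁ c₁ (RankTwo.quotientAut K (hN := hK) τ) l m ∧
        ∀ v : N, v ∈ E ↔ ∃ j k r : ℕ, (v : N ⧸ K) = a₁ ^ j * z₁ ^ k * c₁ ^ r := by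
  obtain ⟨a, rfl⟩ := D.proj_surj a
  obtain ⟨z, rfl⟩ := D.proj_surj z
  obtain ⟨c, rfl⟩ := D.proj_surj c
  have hcong : ∀ e e' : E, D.proj e = D.proj e' → ((e : N))⁻¹ * (e' : N) ∈ (frattini E).map E.subtype :=
    fun e e' h => ⟨e⁻¹ * e', (D.proj_eq_iff e e').1 h, by simp⟩
  have hcomm : ∀ e : E, D.R.ρ (D.χ x) (D.proj e) = D.proj e → ⁅x, (e : N)⁆ ∈ (frattini E).map E.subtype := by
    intro e he
    refine ⟨MulAut.conjNormal x e * e⁻¹, (D.proj_eq_zero _).1 ?_, by simp [commutatorElement_def]⟩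
    rw [D.proj_mul, ← D.act, he, D.proj_inv, add_neg_cancel]
  refine exists_frame five hN hsr E x (a : N) (z : N) (c : N) a.2 z.2 c.2 ?_ (hcomm z hz) (hcomm c hc)
    (fun e he => ?_) (fun i j l h => ?_) hgen hxE hxp τ hτE ?_ ?_ ?_ htx lm l2 l3 l5
  · have := hcong (a * z) (MulAut.conjNormal x a) (by rw [D.proj_mul, ← D.act, ha])
    simpa using this
  · obtain ⟨i, j, l, h⟩ := D.span_of_indep hind ⟨e, he⟩
    exact ⟨i, j, l, ⟨_, h, by simp⟩⟩
  · obtain ⟨e, he, he'⟩ := h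
    refine D.ind_of_indep hind i j l ?_
    rwa [← show e = a ^ i * z ^ j * c ^ l from Subtype.ext (by simpa using he')]
  · have := hcong (a ^ m) ⟨τ a, hτE a a.2⟩ (by rw [hτt, hta, D.proj_pow])
    simpa using this
  · have := hcong (z ^ l) ⟨τ z, hτE z z.2⟩ (by rw [hτt, htz, D.proj_pow])
    simpa using this
  · have := hcong c ⟨τ c, hτE c c.2⟩ (by rw [hτt, htc])
    simpa using this

end Model

end Cfsg.Agent.RankThreeEss
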