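import Cfsg.Agent.Lib.RankThreeEss.Final
import Cfsg.Agent.Lib.RankThreeEss.Model
import Cfsg.Agent.Lib.Resist.Fusion
import Cfsg.Agent.Lib.FusionChain.Alperin
import Cfsg.Agent.Lib.FusionCrit.Residual
import Cfsg.Agent.Lib.HallHigman.FrattiniModule

/-!
# Essential subgroups with three generators in sectional rank three

`normal_of_essential` : in a saturated system over a `p`-group of sectional rank at most three, `p ≥ 5`, an
essential subgroup whose Frattini quotient has order `p ^ 3` is normal.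
-/

set_option autoImplicit false
set_option linter.style.haveILetI false
set_option linter.unusedSectionVars false

namespace Cfsg.Agent.RankThreeEss

open Cfsg Cfsg.FusionSystem Cfsg.Agent.Fusion

universe u

variable {p : ℕ} [hp : Fact p.Prime] {Ω : Type u} [Group Ω] {S : Subgroup Ω} [Finite S] {F : FusionSystem S}

/-- A centric subgroup is fully centralized. -/
theorem fullyCentralized_of_centric {P : Subgroup Ω} (hP : F.IsCentric P) : F.IsFullyCentralized P := by
  refine ⟨hP.1, fun Q hQ => ?_⟩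
  obtain ⟨f, hf⟩ := isConj_iff.1 hQ
  have hC : centralizerIn S P ≤ P := FusionChain.centralizerIn_le_of_centric hP
  have := finite_of_le (hf.1.img_le hC fun v hv => hf.1.mem (hC hv))
  rw [← hf.1.card_img hC]
  refine Subgroup.card_le_of_le fun d hd => ?_
  obtain ⟨v, hv, rfl⟩ := (hf.1.mem_img_iff le_rfl).1 (hf.2.symm ▸ hP.2 Q hQ hd)
  refine hf.1.mem_img (mem_centralizerIn_of_conj (hP.1 hv) fun y hy => ?_)
  refine hf.1.inj (mul_mem (mul_mem hv hy) (inv_mem hv)) hy ?_
  rw [hf.1.map_conj hv hy]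
  exact centralizerIn_conj hd (hf.mem hy)

/-- Sectional rank passes to embedded groups. -/
theorem sectional_of_le {k : ℕ} (hr : Cfsg.SectionalPRankLE p k S) {M : Subgroup Ω} (hM : M ≤ S) :
    Cfsg.SectionalPRankLE p k M := by
  intro L K hK A hA hAp
  haveI := hK
  let j : M →* S := Subgroup.inclusion hM
  let e : L ≃* L.map j := L.equivMapOfInjective j (Subgroup.inclusion_injective hM)
  haveI : (K.map e.toMonoidHom).Normal := hK.map e.toMonoidHom e.surjective
  let q : L ⧸ K ≃* (L.map j) ⧸ K.map e.toMonoidHom := QuotientGroup.congr K _ e rfl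
  have h := hr (L.map j) (K.map e.toMonoidHom) (A.map q.toMonoidHom)
    ⟨⟨fun u v => by
      obtain ⟨⟨_, a, ha, rfl⟩, ⟨_, b, hb, rfl⟩⟩ := u, v
      apply Subtype.ext
      show q a * q b = q b * q a
      rw [← map_mul, ← map_mul]
      exact congrArg q (congrArg Subtype.val (hA.1.1 ⟨a, ha⟩ ⟨b, hb⟩))⟩⟩
    (by rintro _ ⟨a, ha, rfl⟩; rw [← map_pow, hAp a ha, map_one])
  exact (Nat.card_congr (A.equivMapOfInjective q.toMonoidHom q.injective).toEquiv).trans_le h

/-- A `p`-group outside a subgroup contains an element outside it with `p`-th power inside. -/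
theorem exists_pow_prime_mem {M : Type*} [Group M] (hM : IsPGroup p M) {H : Subgroup M} {g : M} (hg : g ∉ H) :
    ∃ y : M, y ∉ H ∧ y ^ p ∈ H := by
  obtain ⟨k, hk⟩ := hM g
  have hk' : g ^ p ^ k ∈ H := hk ▸ one_mem H
  clear hk
  induction k with
  | zero => exact absurd (by simpa using hk') hg
  | succ k ih =>
    by_cases h : g ^ p ^ k ∈ H
    · exact ih h
    · exact ⟨_, h, by rwa [← pow_mul, ← pow_succ]⟩

/-- A generator of the units of `ZMod p`, as two naturals. -/
theorem exists_eigen (five : 5 ≤ p) : ∃ l m : ℕ, ((m * l : ℕ) : ZMod p) = 1 ∧ ((l : ℕ) : ZMod p) ^ 2 ≠ 1 ∧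
    ((l : ℕ) : ZMod p) ^ 3 ≠ 1 ∧ ((l : ℕ) : ZMod p) ^ 5 ≠ 1 := by
  obtain ⟨g, hg⟩ := IsCyclic.exists_generator (α := (ZMod p)ˣ)
  have ho : orderOf g = p - 1 := by
    rw [orderOf_eq_card_of_forall_mem_zpowers hg, Nat.card_eq_fintype_card, ZMod.card_units]
  have key : ∀ n, (g : ZMod p) ^ n = 1 → p - 1 ∣ n := fun n h => by
    rw [← ho]; exact orderOf_dvd_of_pow_eq_one (Units.ext (by rwa [Units.val_pow_eq_pow_val, Units.val_one]))
  refine ⟨(g : ZMod p).val, ((g⁻¹ : (ZMod p)ˣ) : ZMod p).val, ?_, ?_, ?_, ?_⟩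
  · rw [Nat.cast_mul, ZMod.natCast_zmod_val, ZMod.natCast_zmod_val, Units.inv_mul]
  all_goals rw [ZMod.natCast_zmod_val]; intro h
  · have := Nat.le_of_dvd two_pos (key 2 h); omega
  · have := Nat.le_of_dvd three_pos (key 3 h); omega
  · rcases (Nat.dvd_prime (by norm_num : Nat.Prime 5)).1 (key 5 h) with h' | h'
    · omega
    · obtain rfl : p = 6 := by omega
      exact absurd hp.out (by decide)

theorem mem_normalizer_iff_of_finite {M : Type*} [Group M] {H : Subgroup M} [Finite H] {g : M} :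
    g ∈ Subgroup.normalizer (H : Set M) ↔ ∀ v ∈ H, g * v * g⁻¹ ∈ H := by
  refine ⟨fun h v hv => (Subgroup.mem_normalizer_iff.1 h v).1 hv,
    fun h => Subgroup.mem_normalizer_iff.2 fun v => ⟨h v, fun hv => ?_⟩⟩
  obtain ⟨⟨y, hy⟩, e⟩ := (Finite.surjective_of_injective (f := fun y : H => (⟨g * y * g⁻¹, h y y.2⟩ : H))
    fun a b e => by simpa using congrArg Subtype.val e) ⟨_, hv⟩
  rwa [← mul_left_cancel (mul_right_cancel (congrArg Subtype.val e : g * y * g⁻¹ = g * v * g⁻¹))]

theorem normal_of_essential (five : 5 ≤ p) (hS : IsPGroup p S) (hsr : Cfsg.SectionalPRankLE p 3 S)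
    (hF : F.IsSaturated p) {E : Subgroup Ω} (hE : F.IsEssential p E) (hrk : (frattini E).index = p ^ 3) :
    S ≤ Subgroup.normalizer (E : Set Ω) := by
  by_contra hnot
  have hES : E ≤ S := hE.1.1
  haveI := finite_mulAut (S := S) hES
  haveI := finite_of_le (S := S) hES
  have hEp : IsPGroup p E := hS.to_le hES
  -- the action on the Frattini quotient
  letI : CommGroup (E ⧸ frattini E) :=
    { (inferInstance : Group (E ⧸ frattini E)) with
      mul_comm := fun a b => QuotientGroup.induction_on a fun a => QuotientGroup.induction_on b fun b => by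
        rw [← commutatorElement_eq_one_iff_mul_comm]
        exact (QuotientGroup.eq_one_iff _).2 (PGroup.commutatorElement_mem_frattini hEp a b) }
  have hVp : ∀ v : E ⧸ frattini E, v ^ p = 1 := fun v => QuotientGroup.induction_on v fun v =>
    (QuotientGroup.eq_one_iff _).2 (PGroup.pow_mem_frattini hEp v)
  let res : MulAut E →* MulAut (E ⧸ frattini E) := RankTwo.quotientAut (frattini E)
  let Act : Resist.Act p F E (E ⧸ frattini E) :=
    { res := res
      faithful := fun α _ hcop hα => by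
        by_contra hne
        obtain ⟨q, hq, hqd⟩ := Nat.exists_prime_and_dvd (fun h => hne (orderOf_eq_one_iff.1 h))
        haveI := Fact.mk hq
        have hqp : q ≠ p := by
          rintro rfl
          exact hq.ne_one (Nat.eq_one_of_dvd_coprimes hcop hqd dvd_rfl)
        have h1 : α ^ (orderOf α / q) = 1 := by
          refine RankTwo.aut_eq_one_of_frattini hEp hqp (by rw [← pow_mul, Nat.div_mul_cancel hqd, pow_orderOf_eq_one])
            fun v => QuotientGroup.eq.1 ?_
          show _ = res (α ^ (orderOf α / q)) (v : E ⧸ frattini E)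
          rw [map_pow, hα, one_pow]
          rfl
        have h2 := orderOf_dvd_of_pow_eq_one h1
        have h3 : orderOf α / q < orderOf α := Nat.div_lt_self (orderOf_pos α) hq.one_lt
        have h4 : 0 < orderOf α / q := Nat.div_pos (Nat.le_of_dvd (orderOf_pos α) hqd) hq.pos
        exact absurd (Nat.le_of_dvd h4 h2) (not_le.2 h3) }
  obtain ⟨-, hfn, hIn, M₀, hM₀⟩ := id hE
  haveI := hIn
  let A := F.autGroup E
  let I := (Cfsg.Inn E).subgroupOf A
  obtain ⟨instM, σ, hσ⟩ := HallHigman.exists_linear_rep hVp (res.comp A.subtype)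
  letI := instM
  have hIσ : ∀ α : A, α ∈ I → σ α = 1 := by
    rintro ⟨α, hα⟩ ⟨e, rfl⟩
    refine LinearMap.ext fun v => ?_
    obtain ⟨w, rfl⟩ := QuotientGroup.mk_surjective (Additive.toMul v)
    show σ _ (Additive.ofMul (w : E ⧸ frattini E)) = _
    rw [hσ]
    show Additive.ofMul (((MulAut.conj e w : E)) : E ⧸ frattini E) = _
    rw [MulAut.conj_apply, QuotientGroup.mk_mul, QuotientGroup.mk_mul, QuotientGroup.mk_inv, mul_comm,
      inv_mul_cancel_left]
    rfl
  let ρ : A ⧸ I →* Module.End (ZMod p) (Additive (E ⧸ frattini E)) := QuotientGroup.lift I σ hIσ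
  have hρi : Function.Injective ρ := by
    refine (injective_iff_map_eq_one ρ).2 fun q hq => ?_
    obtain ⟨α, rfl⟩ := QuotientGroup.mk_surjective q
    refine (QuotientGroup.eq_one_iff _).2 (Act.ker_le_inn hS hE α.2 (MulEquiv.ext fun v => ?_))
    have h := hσ α v
    rw [show σ α = 1 from hq] at h
    exact (Additive.ofMul.injective h).symm
  let R : Rep p (A ⧸ I) (Additive (E ⧸ frattini E)) :=
    { three := by omega
      card := by rw [← hrk, Subgroup.index_eq_card]; exact Nat.card_congr Additive.ofMul.symm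
      ρ := ρ
      inj := hρi
      M := M₀
      emb := hM₀ }
  -- the normalizer
  set N := normalizerIn S E with hN
  have hNS : N ≤ S := inf_le_left
  haveI := finite_of_le (S := S) hNS
  have hNp : IsPGroup p N := hS.to_le hNS
  have hEN : E ≤ N := le_normalizerIn hES
  set En := E.subgroupOf N with hEn
  haveI hEnn : En.Normal := ⟨fun e he g =>
    show (g : Ω) * e * (g : Ω)⁻¹ ∈ E from normalizerIn_conj g.2 he⟩
  let φ : En ≃* E := Subgroup.subgroupOfEquivOfLe hEN
  let nc : N →* A := (normConj S E).codRestrict A fun g => (Resist.normConj_mem F hES g).2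
  let χ : N →* A ⧸ I := (QuotientGroup.mk' I).comp nc
  have hχ1 : ∀ n : N, χ n = 1 ↔ n ∈ En := fun n => by
    refine (QuotientGroup.eq_one_iff (nc n)).trans ?_
    refine ⟨fun h => Resist.mem_of_inn hE h, fun h => ?_⟩
    show normConj S E n ∈ Cfsg.Inn E
    exact ⟨⟨n, h⟩, MulEquiv.ext fun _ => Subtype.ext rfl⟩
  have hfr : ∀ e : En, φ e ∈ frattini E ↔ e ∈ frattini En := fun e => by
    rw [← PGroup.frattini_map (f := φ.toMonoidHom) (hNp.to_subgroup En) φ.surjective]
    exact Subgroup.mem_map_iff_mem φ.injective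
  let D : Model p N En (A ⧸ I) (Additive (E ⧸ frattini E)) :=
    { R := R
      proj := fun e => Additive.ofMul ((φ e : E) : E ⧸ frattini E)
      proj_mul := fun a b => by rw [map_mul, QuotientGroup.mk_mul]; rfl
      proj_eq_zero := fun e => by
        rw [← hfr, ← QuotientGroup.eq_one_iff]
        exact Additive.ofMul.injective.eq_iff' rfl
      proj_surj := fun w => by
        obtain ⟨e, he⟩ := QuotientGroup.mk_surjective (Additive.toMul w)
        refine ⟨φ.symm e, ?_⟩
        show Additive.ofMul ((φ (φ.symm e) : E) : E ⧸ frattini E) = w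
        rw [φ.apply_symm_apply, he]; rfl
      χ := χ
      χ_eq_one := hχ1
      act := fun n e => by
        show σ (nc n) (Additive.ofMul _) = _
        rw [hσ]
        rfl
      lift := fun q => by
        obtain ⟨α, rfl⟩ := QuotientGroup.mk_surjective q
        refine ⟨(φ.trans (α : MulAut E)).trans φ.symm, fun e => ?_⟩
        show σ α (Additive.ofMul _) = _
        rw [hσ]
        show _ = Additive.ofMul ((φ (φ.symm ((α : MulAut E) (φ e))) : E) : E ⧸ frattini E)
        rw [φ.apply_symm_apply]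
        rfl }
  -- the quotient has order `p`
  have hrange : IsPGroup p χ.range := hNp.of_surjective χ.rangeRestrict χ.rangeRestrict_surjective
  obtain ⟨x, hxE⟩ : ∃ x : N, x ∉ En := by
    obtain ⟨x, hx, hxE⟩ := SetLike.exists_of_lt (lt_normalizerIn hS le_rfl (Resist.lt_of_essential hS hF hE))
    exact ⟨⟨x, hx⟩, hxE⟩
  have hcard : Nat.card χ.range = p := by
    refine le_antisymm (D.R.card_pgroup_le hrange) ?_
    haveI : Nontrivial χ.range := (Subgroup.nontrivial_iff_ne_bot _).2 fun h =>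
      hxE ((hχ1 x).1 (Subgroup.mem_bot.1 (h ▸ ⟨x, rfl⟩ : χ x ∈ (⊥ : Subgroup _))))
    obtain ⟨n, hn, hc⟩ := hrange.nontrivial_iff_card.1 ‹_›
    exact hc ▸ Nat.le_self_pow hn.ne' p
  have hgen : ∀ n : N, ∃ i : ℕ, (x ^ i)⁻¹ * n ∈ En := by
    intro n
    have htop : Subgroup.zpowers (⟨χ x, x, rfl⟩ : χ.range) = ⊤ :=
      zpowers_eq_top_of_prime_card hcard fun h => hxE ((hχ1 x).1 (congrArg Subtype.val h))
    obtain ⟨i, hi⟩ := mem_powers_iff_mem_zpowers.2 (htop ▸ Subgroup.mem_top (⟨χ n, n, rfl⟩ : χ.range))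
    refine ⟨i, (hχ1 _).1 ?_⟩
    rw [map_mul, map_inv, map_pow, inv_mul_eq_one]
    exact congrArg Subtype.val hi
  have hxp : x ^ p ∈ En := (hχ1 _).1 (by
    have h := orderOf_dvd_natCard (⟨χ x, x, rfl⟩ : χ.range)
    rw [hcard, orderOf_dvd_iff_pow_eq_one] at h
    rw [map_pow]
    exact congrArg Subtype.val h)
  -- an element normalizing `N` and not `E`
  set NN := normalizerIn S N with hNN
  haveI : Finite NN := finite_of_le (S := S) inf_le_left
  have hNNp : IsPGroup p NN := hS.to_le inf_le_left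
  have hNlt : N < S := lt_of_le_of_ne hNS fun h => hnot fun s hs => by
    have : s ∈ N := h.symm ▸ hs
    exact this.2
  obtain ⟨g₀, hg₀, hg₀N⟩ := SetLike.exists_of_lt (lt_normalizerIn hS le_rfl hNlt)
  let ι : N →* NN := Subgroup.inclusion (le_normalizerIn hNS)
  obtain ⟨g, hgN, hgp⟩ := exists_pow_prime_mem hNNp (H := ι.range) (g := ⟨g₀, hg₀⟩) (by
    rintro ⟨n, hn⟩
    have h : (n : Ω) = g₀ := congrArg Subtype.val hn
    exact hg₀N (h ▸ n.2))
  have hgE : ∃ e ∈ En, normConj S N g e ∉ En := by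
    by_contra h
    push Not at h
    refine hgN ⟨⟨g, g.2.1, mem_normalizer_iff_of_finite.2 fun e he => h ⟨e, hEN he⟩ he⟩, Subtype.ext rfl⟩
  by_cases hsq : D.R.nil (χ x) * D.R.nil (χ x) = 0
  swap
  · obtain ⟨k, hk⟩ := hNNp g
    exact D.false_of_sq_ne hgen hxp five hNp (sectional_of_le hsr hNS) hsq (normConj S N g)
      ⟨k, by rw [← map_pow, hk, map_one]⟩ hgE
  -- the transvection case
  obtain ⟨l, m, lm, l2, l3, l5⟩ := exists_eigen five
  obtain ⟨ku, hku⟩ := hNp x
  have hu : ∃ k : ℕ, χ x ^ p ^ k = 1 := ⟨ku, by rw [← map_pow, hku, map_one]⟩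
  have hu1 : χ x ≠ 1 := fun h => hxE ((hχ1 x).1 h)
  have hlm : (m : ZMod p) * (l : ZMod p) = 1 := by rw [← Nat.cast_mul]; exact lm
  have lz : (l : ZMod p) ≠ 0 := fun h => by rw [h, mul_zero] at hlm; exact zero_ne_one hlm
  obtain ⟨a, z, c, t, hind, hua, huz, huc, hta, htz, htc⟩ := D.R.exists_torus hu hu1 hsq (l : ZMod p) lz
  rw [show ((l : ZMod p))⁻¹ = (m : ZMod p) from inv_eq_of_mul_eq_one_left hlm] at hta
  -- the torus normalizes `⟨χ x⟩`
  have hupow : ∀ n : ℕ, D.R.ρ (χ x ^ n) a = a + (n : ZMod p) • z ∧ D.R.ρ (χ x ^ n) z = z ∧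
      D.R.ρ (χ x ^ n) c = c := by
    intro n
    induction n with
    | zero => simp
    | succ n ih =>
      obtain ⟨h1, h2, h3⟩ := ih
      refine ⟨?_, ?_, ?_⟩ <;> rw [pow_succ, map_mul, Module.End.mul_apply]
      · rw [hua, map_add, h1, h2, Nat.cast_succ, add_smul, one_smul, add_assoc]
      · rw [huz, h2]
      · rw [huc, h3]
  have htu : t * χ x * t⁻¹ = χ x ^ (l * l) := by
    have hi : ∀ v w : Additive (E ⧸ frattini E), D.R.ρ t v = w → D.R.ρ t⁻¹ w = v := fun v w h => by
      rw [← h, Rep.inv_apply_self]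
    have ta' : D.R.ρ t⁻¹ a = (l : ZMod p) • a := hi _ _ (by
      rw [map_smul, hta, smul_smul, mul_comm, hlm, one_smul])
    have tz' : D.R.ρ t⁻¹ z = (m : ZMod p) • z := hi _ _ (by
      rw [map_smul, htz, smul_smul, hlm, one_smul])
    refine D.R.inj (LinearMap.ext fun v => ?_)
    obtain ⟨i, j, k, rfl⟩ := exists_coords D.R.card a z c hind v
    simp only [map_mul, Module.End.mul_apply, map_add, map_smul, ta', tz', hi _ _ htc, hua, huz, huc, hta, htz,
      htc, (hupow (l * l)).1, (hupow (l * l)).2.1, (hupow (l * l)).2.2, smul_add, smul_smul, Nat.cast_mul]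
    rw [mul_comm (l : ZMod p) m, hlm, mul_one, mul_one]
  obtain ⟨α, hα⟩ := QuotientGroup.mk_surjective t
  -- and so extends to `N`
  have hlow : ∀ n : N, ∃ n' : N, χ n' = t * χ n * t⁻¹ := fun n => by
    obtain ⟨i, hi⟩ := hgen n
    refine ⟨(x ^ (l * l)) ^ i, ?_⟩
    have h := (hχ1 _).2 hi
    rw [map_mul, map_inv, map_pow, inv_mul_eq_one] at h
    rw [map_pow, map_pow, ← htu, conj_pow, h]
  have hext : ∀ n : Ω, ∀ hn : n ∈ N, (α : MulAut E) * normConj S E ⟨n, hn⟩ * (α : MulAut E)⁻¹ ∈ autInducedBy S E := by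
    intro n hn
    obtain ⟨n', hn'⟩ := hlow ⟨n, hn⟩
    rw [← hα] at hn'
    have h1 : ((nc n' : A))⁻¹ * (α * nc ⟨n, hn⟩ * α⁻¹) ∈ I := QuotientGroup.eq.1 hn'
    have h2 := mul_mem (Resist.normConj_mem F hES n').1
      (inn_le_autInducedBy hES (Subgroup.mem_subgroupOf.1 h1))
    convert h2 using 1
    exact (mul_inv_cancel_left _ _).symm
  obtain ⟨f, hf, hfα⟩ := FusionChain.exists_extension (receptive_of_fullyNormalized hS hF hfn) α.2
    (le_refl N) hext
  have hfN : IsMap F N f := hf.mono le_sup_right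
  have hconjf := fun n : N => Resist.map_conj_eq hfN hEN hfα (g := n) n.2
  let τ : MulAut N := MulEquiv.ofBijective
    (MonoidHom.mk' (fun n : N => (⟨f n, (hconjf n).1⟩ : N)) fun a b => Subtype.ext (hfN.map_mul a.2 b.2))
    (Finite.injective_iff_bijective.1 fun a b h => Subtype.ext (hfN.inj a.2 b.2 (congrArg Subtype.val h)))
  have hτf : ∀ n : N, ((τ n : N) : Ω) = f n := fun n => rfl
  have hτG : τ ∈ F.autGroup N := (mem_autGroup_iff hNS).2 (hfN.congr fun y hy => by
    rw [autFn_apply τ hy, hτf])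
  have hτE : ∀ e ∈ En, τ e ∈ En := fun e he => by
    show f (e : Ω) ∈ E
    rw [hfα (e : Ω) he]
    exact autFn_mem _ he
  have hτt : ∀ (e : En) (h : τ e ∈ En), D.proj ⟨τ e, h⟩ = D.R.ρ t (D.proj e) := by
    intro e h
    rw [← hα]
    show Additive.ofMul ((φ ⟨τ e, h⟩ : E) : E ⧸ frattini E) = σ α (Additive.ofMul _)
    rw [hσ]
    refine congrArg Additive.ofMul (congrArg QuotientGroup.mk (Subtype.ext ?_))
    show f ((e : N) : Ω) = ((α : MulAut E) (φ e) : Ω)
    rw [hfα ((e : N) : Ω) e.2]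
    exact autFn_apply (α : MulAut E) (show ((e : N) : Ω) ∈ E from e.2)
  have hχτ : ∀ n : N, χ (τ n) = t * χ n * t⁻¹ := fun n => by
    obtain ⟨h1, h2⟩ := hconjf n
    rw [← hα]
    show ((nc (τ n) : A) : A ⧸ I) = ((α * nc n * α⁻¹ : A) : A ⧸ I)
    exact congrArg _ (Subtype.ext h2)
  obtain ⟨K, hK, hKfr, -, x₁, a₁, z₁, c₁, fr, hEiff⟩ := D.exists_frame_of_torus hgen hxp five hNp
    (sectional_of_le hsr hNS) hxE hind hua huz huc τ hτE t hτt hta htz htc
    ((hχ1 _).1 (by rw [map_mul, map_inv, map_pow, hχτ, htu, inv_mul_cancel])) lm l2 l3 l5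
  haveI := hK
  have hNc : F.IsCentric N := FusionCrit.isCentric_of_le hE.1 hEN hNS
  have hrN : F.IsReceptive N := receptive_of_fullyCentralized hS hF (fullyCentralized_of_centric hNc)
  refine false_of_frame hNp hNNp (sectional_of_le hsr inf_le_left) ι (Subgroup.inclusion_injective _)
    (normConj S N) (fun _ _ => Subtype.ext rfl) (fun y hy => ?_) En K hKfr fr hEiff (F.autGroup N) hτG
    (fun y => (Resist.normConj_mem F hNS y).2) ?_ ?_ g hgp hgE
  · have h := FusionChain.centralizerIn_le_of_centric hNc ((normConj_eq_one_iff y).1 hy)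
    exact ⟨⟨y, h⟩, Subtype.ext rfl⟩
  · -- automorphisms of `p`-power order stabilizing `E` are inner
    rintro q hq ⟨k, hk⟩ hqE
    have hqm : IsMap F N (autFn q) := (mem_autGroup_iff hNS).1 hq
    have hqE' : ∀ e : Ω, e ∈ E → autFn q e ∈ E := fun e he => by
      rw [autFn_apply q (hEN he)]; exact hqE ⟨e, hEN he⟩ he
    let β : MulAut E := MulEquiv.ofBijective
      (MonoidHom.mk' (fun e : E => (⟨autFn q e, hqE' e e.2⟩ : E))
        fun a b => Subtype.ext (hqm.map_mul (hEN a.2) (hEN b.2)))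
      (Finite.injective_iff_bijective.1 fun a b h =>
        Subtype.ext (hqm.inj (hEN a.2) (hEN b.2) (congrArg Subtype.val h)))
    have hβq : ∀ e : Ω, e ∈ E → autFn q e = autFn β e := fun e he => by rw [autFn_apply β he]; rfl
    have hβA : β ∈ A := (mem_autGroup_iff hES).2 ((hqm.mono hEN).congr hβq)
    set b : A ⧸ I := ((⟨β, hβA⟩ : A) : A ⧸ I) with hb
    have hβpow : ∀ (i : ℕ) (e : E), (((β ^ i) e : E) : Ω) = ((q ^ i) ⟨e, hEN e.2⟩ : N) := by
      intro i
      induction i with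
      | zero => intro e; rfl
      | succ i ih =>
        intro e
        rw [pow_succ' β, pow_succ' q, MulAut.mul_apply, MulAut.mul_apply]
        show autFn q _ = _
        rw [autFn_apply q (hEN ((β ^ i) e).2)]
        exact congrArg (fun w => ((q w : N) : Ω)) (Subtype.ext (ih e))
    have hbp : IsPGroup p (Subgroup.zpowers b) := by
      rintro ⟨y, hy⟩
      obtain ⟨i, rfl⟩ := Subgroup.mem_zpowers_iff.1 hy
      refine ⟨k, Subtype.ext ?_⟩
      show (b ^ i) ^ p ^ k = 1
      rw [← zpow_natCast, ← zpow_mul, mul_comm, zpow_mul, zpow_natCast, hb, ← QuotientGroup.mk_pow,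
        show (⟨β, hβA⟩ : A) ^ p ^ k = 1 from Subtype.ext (MulEquiv.ext fun e => Subtype.ext (by
          rw [Subgroup.coe_pow, hβpow, hk]; rfl)), QuotientGroup.mk_one, one_zpow]
    have hbn : ∀ n : N, b * χ n * b⁻¹ = χ (q n) := fun n => by
      obtain ⟨h1, h2⟩ := Resist.map_conj_eq hqm hEN (α := β) hβq (g := n) n.2
      have : (⟨autFn q n, h1⟩ : N) = q n := Subtype.ext (autFn_apply q n.2)
      rw [hb]
      show ((⟨β, hβA⟩ * nc n * ⟨β, hβA⟩⁻¹ : A) : A ⧸ I) = ((nc (q n) : A) : A ⧸ I)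
      refine congrArg _ (Subtype.ext ?_)
      rw [← this]
      exact h2.symm
    have hnorm : Subgroup.zpowers b ≤ Subgroup.normalizer (χ.range : Set (A ⧸ I)) := by
      refine Subgroup.zpowers_le.2 (mem_normalizer_iff_of_finite.2 ?_)
      rintro _ ⟨n, rfl⟩
      exact ⟨q n, (hbn n).symm⟩
    have hsup := hrange.to_sup_of_normal_left' hbp hnorm
    have heq : χ.range = χ.range ⊔ Subgroup.zpowers b :=
      Subgroup.eq_of_le_of_card_ge le_sup_left (hcard ▸ D.R.card_pgroup_le hsup)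
    obtain ⟨n₀, hn₀⟩ := heq.ge (Subgroup.mem_sup_right (Subgroup.mem_zpowers b))
    obtain ⟨w, hw⟩ : ((nc n₀ : A) : MulAut E)⁻¹ * β ∈ Cfsg.Inn E :=
      Subgroup.mem_subgroupOf.1 (QuotientGroup.eq.1 hn₀)
    set n₁ : N := n₀ * ⟨w, hEN w.2⟩ with hn₁
    have hβn : β = normConj S E n₁ := by
      rw [hn₁, map_mul, show normConj S E (⟨w, hEN w.2⟩ : N) = MulAut.conj w from
        MulEquiv.ext fun _ => Subtype.ext rfl]
      show β = _ * _
      rw [eq_comm, ← eq_inv_mul_iff_mul_eq]
      exact hw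
    obtain ⟨q₀, hq₀, hq₀e⟩ := FusionCrit.exists_eq_conj_of_eqOn_centric hS hF hE.1 hEN le_rfl hqm
      (Fusion.IsMap.conj hNS n₁.2.1) fun e he => by
        rw [hβq e he, autFn_apply β he, hβn]; rfl
    refine ⟨n₁ * ⟨q₀, hEN hq₀⟩, MulEquiv.ext fun n => Subtype.ext ?_⟩
    rw [← autFn_apply q n.2, hq₀e _ n.2, MulAut.conj_apply]
    simp [mul_assoc]
  · -- extensions
    intro t' ht' g' h₀ hth
    have hMle : Subgroup.zpowers (g' : Ω) ≤ NN := Subgroup.zpowers_le.2 g'.2
    obtain ⟨f', hf', hft⟩ := FusionChain.exists_extension hrN ht' hMle fun y hy => by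
      obtain ⟨i, rfl⟩ := Subgroup.mem_zpowers_iff.1 hy
      rw [show (⟨(g' : Ω) ^ i, hMle hy⟩ : NN) = g' ^ i from Subtype.ext (by simp), map_zpow,
        ← conj_zpow, hth, ← map_zpow]
      exact (Resist.normConj_mem F hNS _).1
    have hgmem : (g' : Ω) ∈ N ⊔ Subgroup.zpowers (g' : Ω) := Subgroup.mem_sup_right (Subgroup.mem_zpowers _)
    obtain ⟨h1, h2⟩ := Resist.map_conj_eq hf' le_sup_left hft (g := g') hgmem
    refine ⟨⟨f' g', h1⟩, h2.trans hth, fun w hw => Subtype.ext ?_⟩
    show ((t' w : N) : Ω) = (⟨f' g', h1⟩ ^ p : NN)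
    rw [Subgroup.coe_pow, ← autFn_apply t' w.2, ← hft _ w.2]
    show f' (w : Ω) = f' g' ^ p
    rw [show (w : Ω) = (g' : Ω) ^ p from (congrArg Subtype.val hw).trans (Subgroup.coe_pow _ _ _)]
    have : ∀ i : ℕ, f' ((g' : Ω) ^ i) = f' g' ^ i := fun i => by
      induction i with
      | zero => rw [pow_zero, pow_zero, hf'.map_one]
      | succ i ih => rw [pow_succ, pow_succ, hf'.map_mul (pow_mem hgmem i) hgmem, ih]
    exact this p

end Cfsg.Agent.RankThreeEss
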