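import Cfsg.Agent.Lib.PGroup.Basic
import Cfsg.Agent.Lib.PGroup.Power
import Cfsg.Prelude.Def_CaseTheorems

/-!
# Basics for sectional rank three

* `card_range_le` : elementary abelian sections have order at most `p ^ 3`;
* `psi E` : the layer below the Frattini subgroup, `[Φ, E]Φ^p`;
* `conj_iter` : iterated unipotent automorphism.
-/

set_option autoImplicit false
set_option linter.unusedSectionVars false

namespace Cfsg.Agent.RankThreeEss

open scoped commutatorElement

variable {p : ℕ} [hp : Fact p.Prime]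

/-- An elementary abelian section has order at most `p ^ 3`. -/
theorem card_range_le {G : Type*} [Group G] (hsr : Cfsg.SectionalPRankLE p 3 G) {U : Subgroup G}
    {Q : Type*} [Group Q] (f : U →* Q) (hc : ∀ a b : U, f a * f b = f b * f a)
    (he : ∀ a : U, f a ^ p = 1) : Nat.card f.range ≤ p ^ 3 := by
  have hQ : ∀ a : U ⧸ f.ker, ∀ b, a * b = b * a := by
    intro a b
    induction a using QuotientGroup.induction_on with | _ a => ?_
    induction b using QuotientGroup.induction_on with | _ b => ?_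
    refine (QuotientGroup.kerLift_injective f) ?_
    rw [map_mul, map_mul]
    exact hc a b
  have he' : ∀ a ∈ (⊤ : Subgroup (U ⧸ f.ker)), a ^ p = 1 := by
    intro a _
    induction a using QuotientGroup.induction_on with | _ a => ?_
    refine (QuotientGroup.kerLift_injective f) ?_
    rw [map_pow, map_one]
    exact he a
  have h := hsr U f.ker ⊤ ⟨⟨fun a b => Subtype.ext (hQ a b)⟩⟩ he'
  rwa [Subgroup.card_top, Nat.card_congr (QuotientGroup.quotientKerEquivRange f).toEquiv] at h

variable {E : Type*} [Group E]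

/-- `[Φ(E), E] Φ(E)^p`. -/
def psi (p : ℕ) (E : Type*) [Group E] : Subgroup E :=
  ⁅frattini E, (⊤ : Subgroup E)⁆ ⊔ Subgroup.closure ((fun v : E => v ^ p) '' (frattini E : Set E))

theorem pow_mem_psi {v : E} (h : v ∈ frattini E) : v ^ p ∈ psi p E :=
  Subgroup.mem_sup_right (Subgroup.subset_closure ⟨v, h, rfl⟩)

theorem commutator_mem_psi {v : E} (h : v ∈ frattini E) (w : E) : ⁅v, w⁆ ∈ psi p E :=
  Subgroup.mem_sup_left (Subgroup.commutator_mem_commutator h (Subgroup.mem_top w))

theorem commutator_mem_psi' {v : E} (h : v ∈ frattini E) (w : E) : ⁅w, v⁆ ∈ psi p E := by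
  rw [← commutatorElement_inv]; exact inv_mem (commutator_mem_psi h w)

theorem psi_le_frattini : psi p E ≤ frattini E :=
  sup_le (Subgroup.commutator_le_left _ _) ((Subgroup.closure_le _).2 (by
    rintro _ ⟨v, hv, rfl⟩; exact pow_mem hv p))

instance psi_characteristic : (psi p E).Characteristic := by
  refine Subgroup.characteristic_iff_map_le.2 fun α => ?_
  have hF : (frattini E).map α.toMonoidHom = frattini E :=
    Subgroup.characteristic_iff_map_eq.1 inferInstance α
  rw [psi, Subgroup.map_sup, Subgroup.map_commutator, hF, Subgroup.map_top_of_surjective _ α.surjective,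
    MonoidHom.map_closure]
  refine sup_le le_sup_left (le_sup_of_le_right (Subgroup.closure_mono ?_))
  rintro _ ⟨_, ⟨v, hv, rfl⟩, rfl⟩
  refine ⟨α v, ?_, (map_pow α.toMonoidHom v p).symm⟩
  rw [← hF]
  exact ⟨v, hv, rfl⟩

theorem psi_ne_frattini [Finite E] (hE : IsPGroup p E) (h : frattini E ≠ ⊥) : psi p E ≠ frattini E := by
  intro e
  have hle : ⁅frattini E, (⊤ : Subgroup E)⁆ ≤ frattini E := Subgroup.commutator_le_left _ _
  have htop : (⁅frattini E, (⊤ : Subgroup E)⁆).subgroupOf (frattini E) = ⊤ := by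
    refine frattini_nongenerating ?_
    refine eq_top_iff.2 fun v _ => ?_
    have hv : (v : E) ∈ psi p E := e.symm ▸ v.2
    have h1 : psi p E ≤ ((⁅frattini E, (⊤ : Subgroup E)⁆).subgroupOf (frattini E) ⊔
        frattini (frattini E : Subgroup E)).map (frattini E).subtype := by
      refine sup_le ?_ ((Subgroup.closure_le _).2 ?_)
      · intro w hw
        exact ⟨⟨w, hle hw⟩, Subgroup.mem_sup_left (Subgroup.mem_subgroupOf.2 hw), rfl⟩
      · rintro _ ⟨w, hw, rfl⟩
        exact ⟨⟨w, hw⟩ ^ p, Subgroup.mem_sup_right (PGroup.pow_mem_frattini (hE.to_subgroup _) _), rfl⟩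
    obtain ⟨w, hw, hwe⟩ := h1 hv
    exact Subtype.ext hwe ▸ hw
  rw [Subgroup.subgroupOf_eq_top] at htop
  exact (PGroup.commutator_lt_of_ne_bot hE h).ne (le_antisymm hle htop)

/-- Iterating an automorphism along a short chain of displacements. -/
theorem conj_iter {A : Type*} [Group A] (α : MulAut A) {L c φ₁ φ₂ φ₃ : A}
    (h₀ : α L = L * c) (h₁ : α c = c * φ₁) (h₂ : α φ₁ = φ₁ * φ₂) (h₃ : α φ₂ = φ₂ * φ₃)
    (h₄ : α φ₃ = φ₃) (z₁ : φ₁ ∈ Subgroup.center A) (z₂ : φ₂ ∈ Subgroup.center A)
    (z₃ : φ₃ ∈ Subgroup.center A) (n : ℕ) :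
    (α ^ n) L = L * c ^ n * φ₁ ^ n.choose 2 * φ₂ ^ n.choose 3 * φ₃ ^ n.choose 4 := by
  induction n with
  | zero => simp
  | succ n ih =>
    have hc : ∀ {z : A}, z ∈ Subgroup.center A → ∀ g : A, Commute z g :=
      fun hz g => (Subgroup.mem_center_iff.1 hz g).symm
    rw [pow_succ' α, MulAut.mul_apply, ih, map_mul, map_mul, map_mul, map_mul, map_pow, map_pow,
      map_pow, map_pow, h₀, h₁, h₂, h₃, h₄, (hc z₁ c).symm.mul_pow, (hc z₂ φ₁).symm.mul_pow,
      (hc z₃ φ₂).symm.mul_pow, Nat.choose_succ_succ' n 1, Nat.choose_succ_succ' n 2,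
      Nat.choose_succ_succ' n 3, Nat.choose_one_right, pow_succ' c, pow_add, pow_add, pow_add]
    simp only [mul_assoc]

/-- The power of a product when the conjugation has a short chain of displacements. -/
theorem mul_pow_chain {A : Type*} [Group A] {e y v₁ v₂ : A} (h₀ : y * e * y⁻¹ = e * v₁)
    (h₁ : y * v₁ * y⁻¹ = v₁ * v₂) (h₂ : y * v₂ * y⁻¹ = v₂) (c₀ : Commute e v₁) (c₁ : Commute e v₂)
    (c₂ : Commute v₁ v₂) (n : ℕ) :
    (e * y) ^ n = e ^ n * v₁ ^ n.choose 2 * v₂ ^ n.choose 3 * y ^ n := by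
  induction n with
  | zero => simp
  | succ n ih =>
    have hX : e * y * (e ^ n * v₁ ^ n.choose 2 * v₂ ^ n.choose 3 * y ^ n) =
        e * (y * e * y⁻¹) ^ n * (y * v₁ * y⁻¹) ^ n.choose 2 * (y * v₂ * y⁻¹) ^ n.choose 3 *
          (y * y ^ n) := by
      rw [conj_pow, conj_pow, conj_pow]; group
    rw [pow_succ' (e * y), ih, hX, h₀, h₁, h₂, c₀.mul_pow, c₂.mul_pow, Nat.choose_succ_succ' n 1,
      Nat.choose_succ_succ' n 2, Nat.choose_one_right, ← pow_succ' y, pow_succ' e, pow_add, pow_add]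
    simp only [Nat.reduceAdd, pow_add, pow_one, mul_assoc]

end Cfsg.Agent.RankThreeEss
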