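import Cfsg.Agent.Lib.RankThreeEss.Frame
import Cfsg.Agent.Lib.FusionChain.Stabilizer
import Cfsg.Agent.Lib.EssentialSmall.Basic
import Cfsg.Agent.Lib.Resist.Basic

/-!
# The transvection case: conclusion

`false_of_frame` : with the frame, automorphisms of `N` stabilizing `E` of `p`-power order being inner and
the extension property, a `p`-element normalizing `N` but not `E` yields an elementary section of order `p ^ 4`.
-/

set_option autoImplicit false
set_option linter.style.haveILetI false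
set_option linter.unusedSectionVars false

namespace Cfsg.Agent.RankThreeEss

open scoped commutatorElement

variable {p : ℕ} [hp : Fact p.Prime]

namespace Frame

variable {Q : Type*} [Group Q] {x a z c : Q} {τ : MulAut Q} {l m : ℕ}

theorem map (fr : Frame p x a z c τ l m) (h : MulAut Q) :
    Frame p (h x) (h a) (h z) (h c) (h * τ * h⁻¹) l m where
  xa := by rw [← map_mul, ← map_inv, ← map_mul, fr.xa, map_mul]
  xz := fr.xz.map h.toMonoidHom
  xc := fr.xc.map h.toMonoidHom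
  az := fr.az.map h.toMonoidHom
  ac := fr.ac.map h.toMonoidHom
  zc := fr.zc.map h.toMonoidHom
  px := by rw [← map_pow, fr.px, map_one]
  pa := by rw [← map_pow, fr.pa, map_one]
  pz := by rw [← map_pow, fr.pz, map_one]
  pc := by rw [← map_pow, fr.pc, map_one]
  span := fun v => by
    obtain ⟨i, j, k, r, e⟩ := fr.span (h⁻¹ v)
    refine ⟨i, j, k, r, ?_⟩
    rw [← map_pow, ← map_pow, ← map_pow, ← map_pow, ← map_mul, ← map_mul, ← map_mul, ← e,
      MulAut.apply_inv_self]
  ind := fun i j k r e => fr.ind i j k r (h.injective (by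
    rw [map_mul, map_mul, map_mul, map_pow, map_pow, map_pow, map_pow, e, map_one]))
  tx := by rw [MulAut.mul_apply, MulAut.mul_apply, MulAut.inv_apply_self, fr.tx, map_pow]
  ta := by rw [MulAut.mul_apply, MulAut.mul_apply, MulAut.inv_apply_self, fr.ta, map_pow]
  tz := by rw [MulAut.mul_apply, MulAut.mul_apply, MulAut.inv_apply_self, fr.tz, map_pow]
  tc := by rw [MulAut.mul_apply, MulAut.mul_apply, MulAut.inv_apply_self, fr.tc]
  lm := fr.lm
  l2 := fr.l2
  l3 := fr.l3
  l5 := fr.l5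

theorem x_pow_conj (fr : Frame p x a z c τ l m) (i j : ℕ) :
    x ^ i * a ^ j * (x ^ i)⁻¹ = a ^ j * z ^ (i * j) := by
  induction i with
  | zero => simp
  | succ i ih =>
    rw [pow_succ' x, mul_inv_rev, show x * x ^ i * a ^ j * ((x ^ i)⁻¹ * x⁻¹) =
      x * (x ^ i * a ^ j * (x ^ i)⁻¹) * x⁻¹ by group, ih,
      show x * (a ^ j * z ^ (i * j)) * x⁻¹ = (x * a * x⁻¹) ^ j * (x * z * x⁻¹) ^ (i * j) by
        rw [conj_pow, conj_pow]; group,
      fr.xa, fr.xz.eq, mul_inv_cancel_right, fr.az.mul_pow, mul_assoc, ← pow_add, add_mul, one_mul,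
      add_comm (i * j)]

theorem z_central (fr : Frame p x a z c τ l m) (v : Q) : Commute z v := by
  obtain ⟨i, j, k, r, rfl⟩ := fr.span v
  exact (((fr.xz.symm.pow_right i).mul_right (fr.az.symm.pow_right j)).mul_right
    ((Commute.refl z).pow_right k)).mul_right (fr.zc.pow_right r)

theorem c_central (fr : Frame p x a z c τ l m) (v : Q) : Commute c v := by
  obtain ⟨i, j, k, r, rfl⟩ := fr.span v
  exact (((fr.xc.symm.pow_right i).mul_right (fr.ac.symm.pow_right j)).mul_right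
    (fr.zc.symm.pow_right k)).mul_right ((Commute.refl c).pow_right r)

theorem a_exp (fr : Frame p x a z c τ l m) {i j k r : ℕ}
    (h : Commute (x ^ i * a ^ j * z ^ k * c ^ r) x) : p ∣ j := by
  have h1 : Commute (a ^ j) x := by
    have h2 : Commute (x ^ i * a ^ j) x := by
      have := (h.mul_left ((fr.c_central x).pow_left r).inv_left).mul_left ((fr.z_central x).pow_left k).inv_left
      rwa [mul_inv_cancel_right, mul_inv_cancel_right] at this
    have := (((Commute.refl x).pow_left i).inv_left).mul_left h2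
    rwa [inv_mul_cancel_left] at this
  have h3 := fr.x_pow_conj 1 j
  rw [pow_one, one_mul, mul_inv_eq_iff_eq_mul.2 h1.eq.symm] at h3
  exact (fr.ind 0 0 j 0 (by simpa using left_eq_mul.1 h3)).2.2.1

theorem x_exp (fr : Frame p x a z c τ l m) {i j k r : ℕ}
    (h : Commute (x ^ i * a ^ j * z ^ k * c ^ r) a) : p ∣ i := by
  have h1 : Commute (x ^ i) a := by
    have := ((h.mul_left ((fr.c_central a).pow_left r).inv_left).mul_left
      ((fr.z_central a).pow_left k).inv_left).mul_left ((Commute.refl a).pow_left j).inv_left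
    rwa [mul_inv_cancel_right, mul_inv_cancel_right, mul_inv_cancel_right] at this
  have h3 := fr.x_pow_conj i 1
  rw [pow_one, mul_one, mul_inv_eq_iff_eq_mul.2 h1.eq] at h3
  exact (fr.ind 0 0 i 0 (by simpa using left_eq_mul.1 h3)).2.2.1

theorem mem_center_iff' (fr : Frame p x a z c τ l m) (v : Q) :
    v ∈ Subgroup.center Q ↔ ∃ k r : ℕ, v = z ^ k * c ^ r := by
  refine ⟨fun hv => ?_, ?_⟩
  · obtain ⟨i, j, k, r, rfl⟩ := fr.span v
    obtain ⟨i', rfl⟩ := fr.x_exp (Subgroup.mem_center_iff.1 hv a).symm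
    obtain ⟨j', rfl⟩ := fr.a_exp (Subgroup.mem_center_iff.1 hv x).symm
    exact ⟨k, r, by rw [pow_mul, pow_mul, fr.px, fr.pa, one_pow, one_pow, one_mul, one_mul]⟩
  · rintro ⟨k, r, rfl⟩
    exact mul_mem (pow_mem (Subgroup.mem_center_iff.2 fun w => (fr.z_central w).eq.symm) k)
      (pow_mem (Subgroup.mem_center_iff.2 fun w => (fr.c_central w).eq.symm) r)

theorem z_mem (fr : Frame p x a z c τ l m) : z ∈ Subgroup.center Q :=
  Subgroup.mem_center_iff.2 fun w => (fr.z_central w).eq.symm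

theorem c_mem (fr : Frame p x a z c τ l m) : c ∈ Subgroup.center Q :=
  Subgroup.mem_center_iff.2 fun w => (fr.c_central w).eq.symm

theorem center_exps (fr : Frame p x a z c τ l m) {k r k' r' : ℕ}
    (h : z ^ k * c ^ r = z ^ k' * c ^ r') : (k : ZMod p) = k' ∧ (r : ZMod p) = r' := by
  have hpp : p.Prime := hp.out
  have e : ∀ q : ℕ, q + (p - 1) * q = p * q := fun q => by
    rw [Nat.sub_mul, one_mul, Nat.add_sub_cancel' (Nat.le_mul_of_pos_left _ hpp.pos)]
  obtain ⟨-, -, h1, h2⟩ := fr.ind 0 0 (k + (p - 1) * k') (r + (p - 1) * r') (by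
    rw [pow_zero, pow_zero, one_mul, one_mul, pow_add, pow_add, (fr.zc.pow_pow _ r).mul_mul_mul_comm, h,
      ← (fr.zc.pow_pow _ r').mul_mul_mul_comm, ← pow_add, ← pow_add, e, e, pow_mul, pow_mul, fr.pz, fr.pc,
      one_pow, one_pow, one_mul])
  rw [← ZMod.natCast_eq_zero_iff] at h1 h2
  have neg1 : ((p - 1 : ℕ) : ZMod p) = -1 := by
    rw [Nat.cast_sub hpp.one_le, ZMod.natCast_self, Nat.cast_one, zero_sub]
  push_cast [neg1] at h1 h2
  exact ⟨by linear_combination h1, by linear_combination h2⟩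

theorem mk_exps (fr : Frame p x a z c τ l m) {i j : ℕ}
    (h : ((x : Q) : Q ⧸ Subgroup.center Q) ^ i * (a : Q ⧸ Subgroup.center Q) ^ j = 1) :
    p ∣ i ∧ p ∣ j := by
  rw [← QuotientGroup.mk_pow, ← QuotientGroup.mk_pow, ← QuotientGroup.mk_mul, QuotientGroup.eq_one_iff,
    fr.mem_center_iff'] at h
  obtain ⟨k, r, h⟩ := h
  obtain ⟨h1, h2, -, -⟩ := fr.ind i j ((p - 1) * k) ((p - 1) * r) (by
    rw [h, mul_assoc, (fr.zc.symm.pow_pow r ((p - 1) * k)).mul_mul_mul_comm, ← pow_add, ← pow_add]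
    have e : ∀ q : ℕ, q + (p - 1) * q = p * q := fun q => by
      rw [Nat.sub_mul, one_mul, Nat.add_sub_cancel' (Nat.le_mul_of_pos_left _ hp.out.pos)]
    rw [e, e, pow_mul, pow_mul, fr.pz, fr.pc, one_pow, one_pow, one_mul])
  exact ⟨h1, h2⟩

theorem mk_span (fr : Frame p x a z c τ l m) (v : Q ⧸ Subgroup.center Q) :
    ∃ i j : ℕ, v = (x : Q ⧸ Subgroup.center Q) ^ i * (a : Q ⧸ Subgroup.center Q) ^ j := by
  obtain ⟨v, rfl⟩ := QuotientGroup.mk_surjective v
  obtain ⟨i, j, k, r, rfl⟩ := fr.span v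
  refine ⟨i, j, ?_⟩
  rw [← QuotientGroup.mk_pow, ← QuotientGroup.mk_pow, ← QuotientGroup.mk_mul, mul_assoc (x ^ i * a ^ j),
    QuotientGroup.mk_mul _ (x ^ i * a ^ j),
    (QuotientGroup.eq_one_iff _).2 ((fr.mem_center_iff' _).2 ⟨k, r, rfl⟩), mul_one]

theorem mk_comm (fr : Frame p x a z c τ l m) (v w : Q ⧸ Subgroup.center Q) : v * w = w * v := by
  have hxa : Commute (x : Q ⧸ Subgroup.center Q) (a : Q ⧸ Subgroup.center Q) := by
    show _ = _
    rw [← QuotientGroup.mk_mul, ← QuotientGroup.mk_mul, mul_inv_eq_iff_eq_mul.1 fr.xa, mul_assoc,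
      (fr.z_central x).eq, ← mul_assoc, QuotientGroup.mk_mul _ (a * x),
      (QuotientGroup.eq_one_iff z).2 fr.z_mem, mul_one]
  obtain ⟨i, j, rfl⟩ := fr.mk_span v
  obtain ⟨i', j', rfl⟩ := fr.mk_span w
  exact (Commute.mul_left (((Commute.refl _).pow_pow i i').mul_right (hxa.pow_pow i j'))
    ((hxa.symm.pow_pow j i').mul_right ((Commute.refl _).pow_pow j j'))).eq

theorem mk_pow_p (fr : Frame p x a z c τ l m) (v : Q ⧸ Subgroup.center Q) : v ^ p = 1 := by
  obtain ⟨i, j, rfl⟩ := fr.mk_span v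
  rw [(show Commute _ _ from fr.mk_comm _ _).mul_pow, ← pow_mul, ← pow_mul, mul_comm i, mul_comm j,
    pow_mul, pow_mul, ← QuotientGroup.mk_pow _ x, ← QuotientGroup.mk_pow _ a, fr.px, fr.pa, QuotientGroup.mk_one,
    one_pow, one_pow, one_mul]

end Frame

section Order

variable {N : Type*} [Group N] [Finite N]

/-- An automorphism stabilizing a chain modulo a characteristic subgroup inside `Φ(N)` has `p`-power order. -/
theorem exists_pk_of_chain (hN : IsPGroup p N) (K : Subgroup N) [K.Characteristic] (hK : K ≤ frattini N)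
    (t : MulAut N) (n : ℕ) (U : ℕ → Subgroup (N ⧸ K)) (h0 : U 0 = ⊥) (hn : U n = ⊤)
    (hmono : ∀ i < n, U i ≤ U (i + 1))
    (hst : ∀ i < n, ∀ v ∈ U (i + 1), v⁻¹ * RankTwo.quotientAut K t v ∈ U i) :
    ∃ k : ℕ, t ^ p ^ k = 1 := by
  haveI : Finite (MulAut N) := Finite.of_injective (fun α : MulAut N => (α : N → N)) DFunLike.coe_injective
  set β := RankTwo.quotientAut K t with hβ
  have hpow : ∀ q : ℕ, ∀ i < n, ∀ v ∈ U (i + 1), v⁻¹ * (β ^ q) v ∈ U i := by
    intro q
    induction q with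
    | zero => intro i _ v _; simp
    | succ q ih =>
      intro i hi v hv
      rw [pow_succ' β, MulAut.mul_apply]
      have h1 := ih i hi v hv
      have h2 : (β ^ q) v ∈ U (i + 1) := by
        have := mul_mem hv (hmono i hi h1)
        rwa [mul_inv_cancel_left] at this
      have := mul_mem h1 (hst i hi _ h2)
      rwa [mul_assoc, mul_inv_cancel_left] at this
  obtain ⟨k, hk⟩ := FusionChain.exists_pow_coprime p t
  refine ⟨k, ?_⟩
  set b := t ^ p ^ k with hb
  have hqb : RankTwo.quotientAut K b = 1 := by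
    refine FusionChain.eq_one_of_stabilizes_chain (hN.to_quotient K) _
      (Nat.Coprime.coprime_dvd_left (orderOf_map_dvd _ b) hk) n U h0 hn ?_
    rw [hb, map_pow, ← hβ]
    exact hpow _
  by_contra hb1
  have hord : orderOf b ≠ 1 := fun h => hb1 (orderOf_eq_one_iff.1 h)
  obtain ⟨r, hr, hrd⟩ := Nat.exists_prime_and_dvd hord
  haveI := Fact.mk hr
  have hrp : r ≠ p := by
    rintro rfl
    exact hp.out.ne_one (Nat.eq_one_of_dvd_coprimes hk hrd dvd_rfl)
  have h1 : b ^ (orderOf b / r) = 1 := by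
    refine RankTwo.aut_eq_one_of_frattini hN hrp ?_ fun v => hK ?_
    · rw [← pow_mul, Nat.div_mul_cancel hrd, pow_orderOf_eq_one]
    · refine QuotientGroup.eq.1 ?_
      show _ = RankTwo.quotientAut K (b ^ (orderOf b / r)) (v : N ⧸ K)
      rw [map_pow, hqb, one_pow]
      rfl
  have h2 := orderOf_dvd_of_pow_eq_one h1
  have h3 : orderOf b / r < orderOf b := Nat.div_lt_self (orderOf_pos b) hr.one_lt
  have h4 : 0 < orderOf b / r := Nat.div_pos (Nat.le_of_dvd (orderOf_pos b) hrd) hr.pos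
  exact absurd (Nat.le_of_dvd h4 h2) (not_le.2 h3)

end Order

variable {N M : Type*} [Group N] [Finite N] [Group M] [Finite M]

/-- The conclusion when the fixed line is the `x`-line. -/
theorem false_of_fixed (hN : IsPGroup p N) (hM : IsPGroup p M) (hsr : Cfsg.SectionalPRankLE p 3 M)
    (ι : N →* M) (hι : Function.Injective ι) (act : M →* MulAut N)
    (hact : ∀ (g : M) (v : N), ι (act g v) = g * ι v * g⁻¹) (cent : ∀ g, act g = 1 → g ∈ ι.range)
    (E : Subgroup N) (K : Subgroup N) [K.Characteristic] (hK : K ≤ frattini N)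
    (hEc : ∀ v w : N, v ∈ E → ((v⁻¹ * w : N) : N ⧸ K) ∈ Subgroup.center (N ⧸ K) → w ∈ E)
    {x a z c : N ⧸ K} {τ : MulAut N} {l m : ℕ} (fr : Frame p x a z c (RankTwo.quotientAut K τ) l m)
    (G : Subgroup (MulAut N)) (hτ : τ ∈ G) (hactG : ∀ g, act g ∈ G)
    (stab : ∀ q ∈ G, (∃ k : ℕ, q ^ p ^ k = 1) → (∀ e ∈ E, q e ∈ E) → ∃ v : N, q = MulAut.conj v)
    (ext : ∀ t ∈ G, ∀ g h₀ : M, t * act g * t⁻¹ = act h₀ →
      ∃ h : M, act h = act h₀ ∧ ∀ w : N, ι w = g ^ p → ι (t w) = h ^ p)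
    (g : M) (hgp : g ^ p ∈ ι.range) {r : ℕ} (hr : ¬ p ∣ r)
    (hgx : x⁻¹ * RankTwo.quotientAut K (act g) x ∈ Subgroup.center (N ⧸ K))
    (hga : (a * x ^ r)⁻¹ * RankTwo.quotientAut K (act g) a ∈ Subgroup.center (N ⧸ K)) : False := by
  have hpp : p.Prime := hp.out
  set qa := RankTwo.quotientAut K
  set Z := Subgroup.center (N ⧸ K)
  let π : (N ⧸ K) →* (N ⧸ K) ⧸ Z := QuotientGroup.mk' Z
  have hπ1 : ∀ v : (N ⧸ K), π v = 1 ↔ v ∈ Z := fun v => QuotientGroup.eq_one_iff v
  have hπeq : ∀ u v : (N ⧸ K), u⁻¹ * v ∈ Z → π u = π v := fun u v h => QuotientGroup.eq.2 h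
  have hπc : ∀ u v : (N ⧸ K), π u * π v = π v * π u := fun u v => fr.mk_comm _ _
  have hcenaut : ∀ (β : MulAut (N ⧸ K)), ∀ v ∈ Z, β v ∈ Z := fun β v hv =>
    (Subgroup.characteristic_iff_comap_eq.1 (inferInstance : Z.Characteristic) β).ge hv
  have hautπ : ∀ (β : MulAut (N ⧸ K)) (u v : (N ⧸ K)), π u = π v → π (β u) = π (β v) := fun β u v h => by
    refine hπeq _ _ ?_
    rw [← map_inv, ← map_mul]
    exact hcenaut β _ (QuotientGroup.eq.1 h)
  have hlm : (m : ZMod p) * (l : ZMod p) = 1 := by rw [← Nat.cast_mul]; exact fr.lm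
  have lz : (l : ZMod p) ≠ 0 := fun h => by rw [h, mul_zero] at hlm; exact zero_ne_one hlm
  set e := l * l * l with he
  have hml : qa τ (a ^ l) = a := by
    rw [map_pow, fr.ta, ← pow_mul]
    exact (pow_congr fr.pa (j := 1) (by rw [fr.lm, Nat.cast_one])).trans (pow_one a)
  have hmmx : qa τ (x ^ (m * m)) = x := by
    rw [map_pow, fr.tx, ← pow_mul]
    exact (pow_congr fr.px (j := 1) (by push_cast; linear_combination ((m : ZMod p) * l + 1) * hlm)).trans (pow_one x)
  have htinv : ∀ u v : (N ⧸ K), qa τ u = v → qa τ⁻¹ v = u := fun u v h => by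
    rw [← h, map_inv, MulAut.inv_apply_self]
  have hpow1 : ∀ (β : MulAut (N ⧸ K)) (v : (N ⧸ K)) (q : ℕ), β v = v → (β ^ q) v = v := fun β v q h => by
    induction q with
    | zero => rfl
    | succ q ih => rw [pow_succ, MulAut.mul_apply, h, ih]
  -- the conjugate of a transvection by `τ` is its power up to an inner automorphism
  have inner : ∀ γ ∈ G, ∀ k : ℕ, qa γ z = z → qa γ c = c * z ^ k → π (qa γ x) = π x →
      π (qa γ a) = π (a * x ^ r) → ∃ v : N, τ * γ * τ⁻¹ = MulAut.conj v * γ ^ e := by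
    intro γ hγ k γz γc γx γa
    set q := τ * γ * τ⁻¹ * (γ ^ e)⁻¹ with hq
    have hqG : q ∈ G := mul_mem (mul_mem (mul_mem hτ hγ) (inv_mem hτ)) (inv_mem (pow_mem hγ e))
    have hqm : qa q = qa τ * qa γ * qa τ⁻¹ * ((qa γ) ^ e)⁻¹ := by
      rw [hq, map_mul, map_mul, map_mul, map_inv qa (γ ^ e), map_pow]
    have hge_z : (qa γ ^ e) z = z := hpow1 _ _ _ γz
    have hge_c : ∀ q' : ℕ, (qa γ ^ q') c = c * z ^ (q' * k) := by
      intro q'
      induction q' with
      | zero => simp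
      | succ q' ih =>
        rw [pow_succ' (qa γ), MulAut.mul_apply, ih, map_mul, map_pow, γc, γz, mul_assoc, ← pow_add,
          add_mul, one_mul, add_comm k]
    have hge_x : ∀ q' : ℕ, π ((qa γ ^ q') x) = π x := by
      intro q'
      induction q' with
      | zero => rfl
      | succ q' ih => rw [pow_succ' (qa γ), MulAut.mul_apply, hautπ _ _ _ ih, γx]
    have hge_a : ∀ q' : ℕ, π ((qa γ ^ q') a) = π a * π x ^ (q' * r) := by
      intro q'
      induction q' with
      | zero => simp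
      | succ q' ih =>
        rw [pow_succ' (qa γ), MulAut.mul_apply,
          hautπ _ _ (a * x ^ (q' * r)) (by rw [ih, map_mul, map_pow]), map_mul, map_mul, γa, map_pow,
          map_pow, γx, map_mul, map_pow, mul_assoc, ← pow_add, add_mul, one_mul, add_comm r]
    have hz' : (qa q) z = z := by
      have h1 : ((qa γ) ^ e)⁻¹ z = z := by conv_lhs => rw [← hge_z, MulAut.inv_apply_self]
      have h2 : qa τ (z ^ m) = z := by
        rw [map_pow, fr.tz, ← pow_mul]
        exact (pow_congr fr.pz (j := 1) (by push_cast; linear_combination hlm)).trans (pow_one z)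
      rw [hqm, MulAut.mul_apply, MulAut.mul_apply, MulAut.mul_apply, h1, htinv _ _ h2, map_pow, γz, h2]
    have hc' : c⁻¹ * (qa q) c ∈ Subgroup.zpowers z := by
      have h1 : ((qa γ) ^ e)⁻¹ c = c * (z ^ (e * k))⁻¹ := by
        refine ((qa γ) ^ e).injective ?_
        rw [MulAut.apply_inv_self, map_mul, map_inv, map_pow, hge_c, hge_z, mul_inv_cancel_right]
      have h2 : qa τ⁻¹ (c * (z ^ (e * k))⁻¹) = c * (z ^ (m * (e * k)))⁻¹ := htinv _ _ (by
        rw [map_mul, map_inv, map_pow, fr.tc, fr.tz, ← pow_mul]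
        congr 2
        exact pow_congr fr.pz (by push_cast; linear_combination (e : ZMod p) * k * hlm))
      rw [hqm, MulAut.mul_apply, MulAut.mul_apply, MulAut.mul_apply, h1, h2, map_mul, map_inv, map_pow,
        γc, γz, map_mul, map_mul, map_inv, map_pow, map_pow, fr.tc, fr.tz, mul_assoc, inv_mul_cancel_left]
      exact mul_mem (pow_mem (pow_mem (Subgroup.mem_zpowers z) _) _)
        (inv_mem (pow_mem (pow_mem (Subgroup.mem_zpowers z) _) _))
    have hπq : ∀ v : (N ⧸ K), π (qa q v) = π v := by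
      have hx' : π (qa q x) = π x := by
        have h1 : π (((qa γ) ^ e)⁻¹ x) = π x := by
          have := hautπ ((qa γ) ^ e)⁻¹ _ _ (hge_x e).symm
          rw [MulAut.inv_apply_self] at this
          exact this
        rw [hqm, MulAut.mul_apply, MulAut.mul_apply, MulAut.mul_apply,
          hautπ _ _ _ (hautπ _ _ _ (hautπ _ _ _ h1)), htinv _ _ hmmx,
          hautπ (qa τ) (qa γ (x ^ (m * m))) (x ^ (m * m)) (by rw [map_pow, map_pow, γx, map_pow]), hmmx]
      have ha' : π (qa q a) = π a := by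
        have h1 : π (((qa γ) ^ e)⁻¹ a) = π (a * x ^ ((p - 1) * (e * r))) := by
          have h3 : π ((qa γ ^ e) (a * x ^ ((p - 1) * (e * r)))) = π a := by
            rw [map_mul, map_pow, map_mul, map_pow, hge_a, hge_x, mul_assoc, ← pow_add,
              show e * r + (p - 1) * (e * r) = p * (e * r) by
                rw [Nat.sub_mul, one_mul, Nat.add_sub_cancel' (Nat.le_mul_of_pos_left _ hpp.pos)],
              pow_mul, fr.mk_pow_p (π x), one_pow, mul_one]
          have := hautπ ((qa γ) ^ e)⁻¹ _ _ h3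
          rw [MulAut.inv_apply_self] at this
          exact this.symm
        have h2 : qa τ⁻¹ (a * x ^ ((p - 1) * (e * r))) = a ^ l * x ^ (m * m * ((p - 1) * (e * r))) := by
          refine htinv _ _ ?_
          rw [map_mul, hml, pow_mul, map_pow, hmmx]
        have h4 : π (qa γ (a ^ l * x ^ (m * m * ((p - 1) * (e * r))))) =
            π (a ^ l * x ^ (r * l + m * m * ((p - 1) * (e * r)))) := by
          rw [map_mul, map_pow, map_pow, map_mul, map_pow, map_pow, γa, γx, map_mul, map_mul, map_pow,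
            map_pow, map_pow, (show Commute (π a) (π x ^ r) by rw [← map_pow]; exact hπc _ _).mul_pow, ← pow_mul, mul_assoc, ← pow_add]
        rw [hqm, MulAut.mul_apply, MulAut.mul_apply, MulAut.mul_apply, hautπ _ _ _ (hautπ _ _ _ (hautπ _ _ _ h1)),
          h2, hautπ _ _ _ h4, map_mul, hml, map_pow, fr.tx, ← pow_mul, map_mul, map_pow, mul_eq_left]
        refine (pow_congr (fr.mk_pow_p _) (j := 0) ?_).trans (pow_zero _)
        have neg1 : ((p - 1 : ℕ) : ZMod p) = -1 := by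
          rw [Nat.cast_sub hpp.one_le, ZMod.natCast_self, Nat.cast_one, zero_sub]
        push_cast [he, neg1]
        linear_combination (-(r : ZMod p) * l * l * l * (m * l + 1)) * hlm
      intro v
      obtain ⟨i, j, h⟩ := fr.mk_span (π v)
      have hv : π v = π (x ^ i * a ^ j) := by rw [map_mul, map_pow, map_pow]; exact h
      rw [hautπ _ _ _ hv, map_mul, map_pow, map_pow, map_mul, map_pow, map_pow, hx', ha', hv, map_mul,
        map_pow, map_pow]
    have hpk : ∃ k : ℕ, q ^ p ^ k = 1 := by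
      refine exists_pk_of_chain hN K hK q 3
        (fun i => match i with | 0 => ⊥ | 1 => Subgroup.zpowers z | 2 => Z | _ => ⊤) rfl rfl ?_ ?_
      · intro i hi
        rcases i with _ | _ | _ | i
        · exact bot_le
        · exact Subgroup.zpowers_le.2 fr.z_mem
        · exact le_top
        · omega
      · intro i hi v hv
        rcases i with _ | _ | _ | i
        · obtain ⟨j, rfl⟩ := Subgroup.mem_zpowers_iff.1 hv
          show (z ^ j)⁻¹ * qa q (z ^ j) ∈ (⊥ : Subgroup (N ⧸ K))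
          rw [map_zpow, hz', inv_mul_cancel]
          exact one_mem _
        · obtain ⟨j, s, rfl⟩ := (fr.mem_center_iff' v).1 hv
          obtain ⟨i', hi'⟩ := Subgroup.mem_zpowers_iff.1 hc'
          rw [eq_inv_mul_iff_mul_eq] at hi'
          show (z ^ j * c ^ s)⁻¹ * qa q (z ^ j * c ^ s) ∈ Subgroup.zpowers z
          rw [map_mul, map_pow, map_pow, hz', ← hi', (fr.zc.symm.zpow_right i').mul_pow, ← mul_assoc (z ^ j),
            inv_mul_cancel_left]
          exact pow_mem (zpow_mem (Subgroup.mem_zpowers z) _) _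
        · exact QuotientGroup.eq.1 (hπq v).symm
        · omega
    obtain ⟨v, hv⟩ := stab q hqG hpk fun u hu => hEc u _ hu (QuotientGroup.eq.1 (hπq (u : (N ⧸ K))).symm)
    exact ⟨v, by rw [← hv, hq, inv_mul_cancel_right]⟩
  -- consequences of inner-ness
  have hconjQ : ∀ (v : N) (w : (N ⧸ K)), qa (MulAut.conj v) w = (v : (N ⧸ K)) * w * (v : (N ⧸ K))⁻¹ := fun v w =>
    QuotientGroup.induction_on w fun _ => rfl
  set γ := act g with hγ
  have γxπ : π (qa γ x) = π x := (hπeq _ _ hgx).symm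
  have γaπ : π (qa γ a) = π (a * x ^ r) := (hπeq _ _ hga).symm
  have γz : qa γ z = z := by
    obtain ⟨u, hu, hux⟩ : ∃ u ∈ Z, qa γ x = x * u := ⟨_, hgx, (mul_inv_cancel_left _ _).symm⟩
    obtain ⟨w, hw, hwa⟩ : ∃ w ∈ Z, qa γ a = a * x ^ r * w := ⟨_, hga, (mul_inv_cancel_left _ _).symm⟩
    have h := congrArg (qa γ) fr.xa
    rw [map_mul, map_mul, map_inv, map_mul, hux, hwa] at h
    have hu' : ∀ t, u * t = t * u := fun t => (Subgroup.mem_center_iff.1 hu t).symm
    have hw' : ∀ t, w * t = t * w := fun t => (Subgroup.mem_center_iff.1 hw t).symm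
    rw [show x * u * (a * x ^ r * w) * (x * u)⁻¹ = x * (u * (a * x ^ r * w) * u⁻¹) * x⁻¹ by group,
      hu', mul_inv_cancel_right,
      show x * (a * x ^ r * w) * x⁻¹ = (x * a * x⁻¹) * (x * x ^ r * x⁻¹) * (x * w * x⁻¹) by group,
      fr.xa, ((Commute.refl x).pow_right r).eq, mul_inv_cancel_right, ← hw' x, mul_inv_cancel_right,
      mul_assoc a z, ((fr.z_central (x ^ r))).eq, mul_assoc a, mul_assoc (x ^ r) z, (fr.z_central w).eq,
      ← mul_assoc (x ^ r), ← mul_assoc a, ← mul_assoc a] at h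
    exact (mul_left_cancel h).symm
  obtain ⟨kg, hkg⟩ := (hM g).imp fun k hk => show γ ^ p ^ k = 1 by rw [hγ, ← map_pow, hk, map_one]
  haveI hzn : (Subgroup.zpowers z).Normal := ⟨fun w hw t => by
    obtain ⟨i, rfl⟩ := Subgroup.mem_zpowers_iff.1 hw
    rw [← ((fr.z_central t).zpow_left i).eq, mul_inv_cancel_right]
    exact zpow_mem (Subgroup.mem_zpowers _) i⟩
  obtain ⟨k, γc⟩ : ∃ k : ℕ, qa γ c = c * z ^ k := by
    have hcard : Nat.card Z ≤ p * Nat.card (Subgroup.zpowers z) := by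
      have hs : Function.Surjective (fun q : Fin p × Subgroup.zpowers z =>
          (⟨c ^ (q.1 : ℕ) * q.2, mul_mem (pow_mem fr.c_mem _) ((Subgroup.zpowers_le.2 fr.z_mem) q.2.2)⟩ : Z)) := by
        rintro ⟨v, hv⟩
        obtain ⟨j, s, rfl⟩ := (fr.mem_center_iff' v).1 hv
        exact ⟨(⟨s % p, Nat.mod_lt _ hpp.pos⟩, ⟨z ^ j, pow_mem (Subgroup.mem_zpowers z) j⟩), Subtype.ext (by
          show c ^ (s % p) * z ^ j = z ^ j * c ^ s
          rw [← pow_eq_pow_mod s fr.pc, (fr.zc.pow_pow j s).eq])⟩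
      have := Nat.card_le_card_of_surjective _ hs
      rwa [Nat.card_prod, Nat.card_fin] at this
    have h := EssentialSmall.mul_apply_mem_of_card_le (hN.to_quotient K)
      (Subgroup.zpowers_le.2 fr.z_mem) hcard (a := qa γ) (k := kg) (by rw [← map_pow, hkg, map_one])
      (fun v hv => by
        obtain ⟨i, rfl⟩ := Subgroup.mem_zpowers_iff.1 hv
        rw [map_zpow, γz]; exact zpow_mem (Subgroup.mem_zpowers _) i)
      (hcenaut _) fr.c_mem
    obtain ⟨k, hk⟩ := (mem_powers_iff_mem_zpowers).2 h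
    exact ⟨k, by rw [show z ^ k = c⁻¹ * qa γ c from hk, mul_inv_cancel_left]⟩
  obtain ⟨d, β, γx⟩ : ∃ d β : ℕ, qa γ x = x * (z ^ d * c ^ β) := by
    obtain ⟨d, β, h⟩ := (fr.mem_center_iff' _).1 hgx
    exact ⟨d, β, by rw [← h, mul_inv_cancel_left]⟩
  obtain ⟨v, hv⟩ := inner γ (hactG g) k γz γc γxπ γaπ
  have hτγ : ∀ w : (N ⧸ K), qa τ (qa γ w) = (v : (N ⧸ K)) * (qa γ ^ e) (qa τ w) * (v : (N ⧸ K))⁻¹ := fun w => by
    have h := congrArg (fun t => qa t (qa τ w)) hv
    simp only [map_mul, map_inv, map_pow, MulAut.mul_apply, MulAut.inv_apply_self, hconjQ] at h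
    exact h
  have hce : ∀ q' : ℕ, (qa γ ^ q') c = c * z ^ (q' * k) := by
    intro q'
    induction q' with
    | zero => simp
    | succ q' ih =>
      rw [pow_succ' (qa γ), MulAut.mul_apply, ih, map_mul, map_pow, γc, γz, mul_assoc, ← pow_add, add_mul,
        one_mul, add_comm k]
  have hk0 : (k : ZMod p) = 0 := by
    have h := hτγ c
    rw [γc, map_mul, map_pow, fr.tc, fr.tz, hce, ← pow_mul,
      (Subgroup.mem_center_iff.1 (mul_mem fr.c_mem (pow_mem fr.z_mem _)) (v : (N ⧸ K))), mul_inv_cancel_right] at h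
    obtain ⟨h1, -⟩ := fr.center_exps (k := l * k) (k' := e * k) (r := 0) (r' := 0) (by rw [mul_left_cancel h])
    push_cast [he] at h1
    have : (k : ZMod p) * ((l : ZMod p) * (1 - (l : ZMod p) ^ 2)) = 0 := by linear_combination h1
    exact (mul_eq_zero.1 this).resolve_right (mul_ne_zero lz (sub_ne_zero.2 fun h' => fr.l2 h'.symm))
  have γc' : qa γ c = c := by
    rw [γc, pow_congr fr.pz (j := 0) (by rw [hk0, Nat.cast_zero]), pow_zero, mul_one]
  have hxe : ∀ q' : ℕ, (qa γ ^ q') x = x * (z ^ (q' * d) * c ^ (q' * β)) := by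
    intro q'
    induction q' with
    | zero => simp
    | succ q' ih =>
      rw [pow_succ' (qa γ), MulAut.mul_apply, ih, map_mul, map_mul, map_pow, map_pow, γz, γc', γx, mul_assoc,
        (fr.zc.symm.pow_pow β (q' * d)).mul_mul_mul_comm, ← pow_add, ← pow_add, add_mul, one_mul, add_mul, one_mul,
        add_comm d, add_comm β]
  have hβ0 : (β : ZMod p) = 0 := by
    have h := hτγ x
    have hu : z ^ (e * d) * c ^ (e * β) ∈ Z := mul_mem (pow_mem fr.z_mem _) (pow_mem fr.c_mem _)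
    rw [γx, map_mul, map_mul, map_pow, map_pow, fr.tx, fr.tz, fr.tc, map_pow, hxe, ← pow_mul,
      (show Commute x _ from Subgroup.mem_center_iff.1 hu x).mul_pow,
      (fr.zc.pow_pow (e * d) (e * β)).mul_pow, ← pow_mul, ← pow_mul] at h
    obtain ⟨i, j, s, t, hv'⟩ := fr.span (v : (N ⧸ K))
    have hconj : (v : (N ⧸ K)) * (x ^ (l * l)) * (v : (N ⧸ K))⁻¹ = x ^ (l * l) * z ^ ((p - 1) * (l * l * j)) := by
      have hax : a ^ j * x ^ (l * l) * (a ^ j)⁻¹ = x ^ (l * l) * z ^ ((p - 1) * (l * l * j)) := by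
        have h5 := fr.x_pow_conj (l * l) j
        rw [mul_inv_eq_iff_eq_mul] at h5 ⊢
        rw [← ((fr.z_central (x ^ (l * l))).pow_left _).eq, mul_assoc, h5, ← mul_assoc, ← mul_assoc,
          ((fr.z_central (a ^ j)).pow_left _).eq, mul_assoc (a ^ j), ← pow_add, add_comm,
          show l * l * j + (p - 1) * (l * l * j) = p * (l * l * j) by
            rw [Nat.sub_mul, one_mul, Nat.add_sub_cancel' (Nat.le_mul_of_pos_left _ hpp.pos)],
          pow_mul z, fr.pz, one_pow, mul_one]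
      rw [hv', show x ^ i * a ^ j * z ^ s * c ^ t * x ^ (l * l) * (x ^ i * a ^ j * z ^ s * c ^ t)⁻¹ =
        x ^ i * (a ^ j * (z ^ s * c ^ t * x ^ (l * l) * (z ^ s * c ^ t)⁻¹) * (a ^ j)⁻¹) * (x ^ i)⁻¹ by group,
        ← Subgroup.mem_center_iff.1 (mul_mem (pow_mem fr.z_mem s) (pow_mem fr.c_mem t)), mul_inv_cancel_right,
        hax, ← mul_assoc, ← pow_add, add_comm, pow_add, mul_assoc (x ^ (l * l)), mul_assoc (x ^ (l * l)),
        ← ((fr.z_central (x ^ i)).pow_left _).eq, mul_inv_cancel_right]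
    set U := z ^ (e * d * (l * l)) * c ^ (e * β * (l * l)) with hU
    have hUZ : U ∈ Z := mul_mem (pow_mem fr.z_mem _) (pow_mem fr.c_mem _)
    rw [show (v : (N ⧸ K)) * (x ^ (l * l) * U) * (v : (N ⧸ K))⁻¹ =
      (v : (N ⧸ K)) * x ^ (l * l) * (U * (v : (N ⧸ K))⁻¹) by group, ← Subgroup.mem_center_iff.1 hUZ, ← mul_assoc ((v : (N ⧸ K)) * x ^ (l * l)),
      hconj, mul_assoc, mul_right_inj, hU, ← mul_assoc (z ^ ((p - 1) * (l * l * j))), ← pow_add] at h
    obtain ⟨-, h2⟩ := fr.center_exps h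
    push_cast [he] at h2
    have : (β : ZMod p) * (1 - (l : ZMod p) ^ 5) = 0 := by linear_combination h2
    exact (mul_eq_zero.1 this).resolve_right (sub_ne_zero.2 fun h' => fr.l5 h'.symm)
  have γx' : qa γ x = x * z ^ d := by
    rw [γx, pow_congr fr.pc (j := 0) (by rw [hβ0, Nat.cast_zero]), pow_zero, mul_one]
  -- correct `g` by an element of `N`
  obtain ⟨a₀, ha₀⟩ := QuotientGroup.mk_surjective (a ^ d)
  set g₁ := g * ι a₀ with hg₁
  have hactι : ∀ w : N, act (ι w) = MulAut.conj w := fun w => MulEquiv.ext fun u => hι (by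
    rw [hact, MulAut.conj_apply, map_mul, map_mul, map_inv])
  have hγ₁ : qa (act g₁) = qa γ * MulAut.conj (a ^ d) := by
    rw [hg₁, map_mul, map_mul, hactι]
    congr 1
    exact MulEquiv.ext fun w => by rw [hconjQ, ha₀]; rfl
  set δ := qa (act g₁) with hδ
  have δz : δ z = z := by
    rw [hγ₁, MulAut.mul_apply, MulAut.conj_apply, Subgroup.mem_center_iff.1 fr.z_mem, mul_inv_cancel_right, γz]
  have δc : δ c = c := by
    rw [hγ₁, MulAut.mul_apply, MulAut.conj_apply, Subgroup.mem_center_iff.1 fr.c_mem, mul_inv_cancel_right, γc']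
  have δx : δ x = x := by
    have h5 := fr.x_pow_conj 1 d
    rw [pow_one, one_mul, mul_inv_eq_iff_eq_mul] at h5
    have h6 : a ^ d * x * (a ^ d)⁻¹ = x * (z ^ d)⁻¹ := by
      rw [mul_inv_eq_iff_eq_mul, mul_assoc, ← ((fr.z_central (a ^ d)).pow_left d).inv_left.symm.eq, ← mul_assoc,
        h5, mul_assoc (a ^ d), ((fr.z_central x).pow_left d).eq, ← mul_assoc, mul_inv_cancel_right]
    rw [hγ₁, MulAut.mul_apply, MulAut.conj_apply, h6, map_mul, map_inv, map_pow, γz, γx', mul_inv_cancel_right]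
  have δaπ : π (δ a) = π (a * x ^ r) := by
    rw [hγ₁, MulAut.mul_apply, MulAut.conj_apply, ((Commute.refl a).pow_left d).eq, mul_inv_cancel_right, γaπ]
  obtain ⟨n, hn⟩ := inner (act g₁) (hactG g₁) 0 δz (by rw [pow_zero, mul_one]; exact δc) (by rw [← hδ, δx]) δaπ
  obtain ⟨h, hh, hhw⟩ := ext τ hτ g₁ (ι n * g₁ ^ e) (by rw [hn, map_mul act (ι n), hactι, map_pow])
  have hg₁p : ∃ w : N, ι w = g₁ ^ p := by
    haveI : ι.range.Normal := ⟨by
      rintro _ ⟨w, rfl⟩ t
      exact ⟨act t w, hact t w⟩⟩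
    have : ((g₁ ^ p : M) : M ⧸ ι.range) = 1 := by
      rw [hg₁, QuotientGroup.mk_pow, QuotientGroup.mk_mul, (QuotientGroup.eq_one_iff (N := ι.range) (ι a₀)).2 ⟨a₀, rfl⟩,
        mul_one, ← QuotientGroup.mk_pow, (QuotientGroup.eq_one_iff _).2 hgp]
    exact (QuotientGroup.eq_one_iff _).1 this
  obtain ⟨w, hw⟩ := hg₁p
  obtain ⟨ν, hν⟩ : h * (g₁ ^ e)⁻¹ ∈ ι.range := by
    have h1 : act (h * (g₁ ^ e)⁻¹ * (ι n)⁻¹) = 1 := by
      rw [map_mul, map_mul, map_inv, map_inv, hh, map_mul]; group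
    obtain ⟨u, hu⟩ := cent _ h1
    exact ⟨u * n, by rw [map_mul, hu, inv_mul_cancel_right]⟩
  have hνn : MulAut.conj ν = MulAut.conj n := by
    rw [← hactι, ← hactι, hν, map_mul, map_inv, hh, map_mul]; group
  have hνx : Commute (ν : (N ⧸ K)) x := by
    have h1 := congrArg (fun t => qa t x) hn
    simp only [map_mul, map_inv, map_pow, MulAut.mul_apply, ← hδ, ← hνn, hconjQ] at h1
    rw [hpow1 δ x e δx, ← map_inv, htinv _ _ hmmx, map_pow δ, δx, hmmx] at h1
    exact mul_inv_eq_iff_eq_mul.1 h1.symm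
  -- the quotient of `M`
  set L := K.map ι with hL
  haveI : L.Normal := ⟨by
    rintro _ ⟨u, hu, rfl⟩ t
    exact ⟨act t u, (Subgroup.characteristic_iff_comap_eq.1 (inferInstance : K.Characteristic) (act t)).ge hu,
      hact t u⟩⟩
  let ψ : (N ⧸ K) →* M ⧸ L := QuotientGroup.map K L ι fun u hu => ⟨u, hu, rfl⟩
  have hψ : ∀ u : N, ψ (u : (N ⧸ K)) = ((ι u : M) : M ⧸ L) := fun u => rfl
  have hψi : Function.Injective ψ := by
    refine (injective_iff_map_eq_one ψ).2 fun u hu => ?_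
    obtain ⟨u, rfl⟩ := QuotientGroup.mk_surjective u
    obtain ⟨u', hu', he'⟩ := (QuotientGroup.eq_one_iff _).1 (hψ u ▸ hu)
    exact (QuotientGroup.eq_one_iff _).2 (hι he' ▸ hu')
  set G₁ := ((g₁ : M) : M ⧸ L) with hG₁
  have hGψ : ∀ u : (N ⧸ K), G₁ * ψ u * G₁⁻¹ = ψ (δ u) := fun u => by
    obtain ⟨u, rfl⟩ := QuotientGroup.mk_surjective u
    rw [hψ, hG₁, ← QuotientGroup.mk_inv, ← QuotientGroup.mk_mul, ← QuotientGroup.mk_mul, ← hact]
    rfl
  have hGfix : ∀ u : (N ⧸ K), δ u = u → Commute G₁ (ψ u) := fun u hu => by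
    have := hGψ u
    rw [hu, mul_inv_eq_iff_eq_mul] at this
    exact this
  have hwG : ψ (w : (N ⧸ K)) = G₁ ^ p := by rw [hψ, hw]; rfl
  have hwc : (w : (N ⧸ K)) ∈ Z := by
    have h1 : ∀ u : (N ⧸ K), qa (MulAut.conj w) u = (δ ^ p) u := fun u => by
      rw [← hactι, hw, map_pow, map_pow]
    have hx1 : Commute (w : (N ⧸ K)) x := by
      have := h1 x
      rw [hconjQ, hpow1 δ x p δx, mul_inv_eq_iff_eq_mul] at this
      exact this
    have ha1 : Commute (w : (N ⧸ K)) a := by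
      obtain ⟨u, hu, hua⟩ : ∃ u, δ u = u ∧ δ a = a * u := by
        obtain ⟨i, j, hij⟩ := (fr.mem_center_iff' _).1 (QuotientGroup.eq.1 δaπ.symm)
        refine ⟨x ^ r * (z ^ i * c ^ j), by simp only [map_mul, map_pow, δx, δz, δc], ?_⟩
        rw [← hij, ← mul_assoc, mul_inv_cancel_left]
      have hq : ∀ q' : ℕ, (δ ^ q') a = a * u ^ q' := by
        intro q'
        induction q' with
        | zero => simp
        | succ q' ih => rw [pow_succ' δ, MulAut.mul_apply, ih, map_mul, map_pow, hu, hua, mul_assoc, ← pow_succ']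
      have hup : u ^ p = 1 := by
        obtain ⟨i, j, s, t, rfl⟩ := fr.span u
        have hj : p ∣ j := by
          by_contra hj
          have hfix : δ (a ^ j) = a ^ j := by
            simp only [map_mul, map_pow, δx, δz, δc] at hu ⊢
            exact mul_left_cancel (mul_right_cancel (mul_right_cancel hu))
          obtain ⟨j', -, hj'⟩ := Nat.exists_mul_mod_eq_one_of_coprime
            (Nat.Coprime.symm ((hpp.coprime_iff_not_dvd).2 hj)) hpp.one_lt
          have ha' : δ a = a := by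
            have h7 : (a ^ j) ^ j' = a := by rw [← pow_mul, pow_eq_pow_mod _ fr.pa, hj', pow_one]
            rw [← h7, map_pow, hfix]
          have h8 := δaπ
          rw [ha', map_mul, map_pow] at h8
          have := (fr.mk_exps (i := r) (j := 0) (by rw [pow_zero, mul_one]; exact left_eq_mul.1 h8)).1
          exact hr this
        obtain ⟨j', rfl⟩ := hj
        rw [pow_mul a, fr.pa, one_pow, mul_one,
          (((fr.c_central _).pow_left t).symm).mul_pow, (((fr.z_central _).pow_left s).symm).mul_pow,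
          ← pow_mul, ← pow_mul, ← pow_mul, mul_comm i, mul_comm s, mul_comm t, pow_mul, pow_mul, pow_mul,
          fr.px, fr.pz, fr.pc, one_pow, one_pow, one_pow, one_mul, one_mul]
      have := h1 a
      rw [hconjQ, hq, hup, mul_one, mul_inv_eq_iff_eq_mul] at this
      exact this
    obtain ⟨i, j, s, t, hij⟩ := fr.span (w : (N ⧸ K))
    rw [hij] at hx1 ha1 ⊢
    obtain ⟨i', rfl⟩ := fr.x_exp ha1
    obtain ⟨j', rfl⟩ := fr.a_exp hx1
    rw [pow_mul, pow_mul, fr.px, fr.pa, one_pow, one_pow, one_mul, one_mul]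
    exact (fr.mem_center_iff' _).2 ⟨s, t, rfl⟩
  have hνG : Commute G₁ (ψ (ν : (N ⧸ K))) := by
    refine hGfix _ ?_
    obtain ⟨i, j, s, t, hij⟩ := fr.span (ν : (N ⧸ K))
    rw [hij] at hνx
    obtain ⟨j', rfl⟩ := fr.a_exp hνx
    rw [hij, pow_mul, fr.pa, one_pow, mul_one]
    simp only [map_mul, map_pow, δx, δz, δc]
  have hτw : qa τ (w : (N ⧸ K)) = (w : (N ⧸ K)) ^ e := by
    refine hψi ?_
    have h1 : ((ι (τ w) : M) : M ⧸ L) = (ψ (ν : (N ⧸ K)) * G₁ ^ e) ^ p := by
      rw [hhw w hw, show h = ι ν * g₁ ^ e by rw [hν, inv_mul_cancel_right]]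
      rfl
    have hνp : ψ (ν : (N ⧸ K)) ^ p = 1 := by
      rw [← map_pow]
      obtain ⟨i, j, s, t, hij⟩ := fr.span (ν : (N ⧸ K))
      rw [hij] at hνx ⊢
      obtain ⟨j', rfl⟩ := fr.a_exp hνx
      rw [pow_mul a, fr.pa, one_pow, mul_one,
        (((fr.c_central _).pow_left t).symm).mul_pow, (((fr.z_central _).pow_left s).symm).mul_pow,
        ← pow_mul, ← pow_mul, ← pow_mul, mul_comm i, mul_comm s, mul_comm t, pow_mul, pow_mul, pow_mul,
        fr.px, fr.pz, fr.pc, one_pow, one_pow, one_pow, one_mul, one_mul, map_one]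
    rw [(hνG.symm.pow_right e).mul_pow, hνp, one_mul, ← pow_mul, mul_comm, pow_mul, ← hwG] at h1
    rw [map_pow, ← h1]
    rfl
  obtain ⟨i, j, hij⟩ := (fr.mem_center_iff' _).1 hwc
  rw [hij, map_mul, map_pow, map_pow, fr.tz, fr.tc, ← pow_mul, (fr.zc.pow_pow i j).mul_pow, ← pow_mul,
    ← pow_mul] at hτw
  obtain ⟨hi1, hj1⟩ := fr.center_exps hτw
  push_cast [he] at hi1 hj1
  have hi0 : (i : ZMod p) = 0 := by
    have : (i : ZMod p) * ((l : ZMod p) * (1 - (l : ZMod p) ^ 2)) = 0 := by linear_combination hi1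
    exact (mul_eq_zero.1 this).resolve_right (mul_ne_zero lz (sub_ne_zero.2 fun h' => fr.l2 h'.symm))
  have hj0 : (j : ZMod p) = 0 := by
    have : (j : ZMod p) * (1 - (l : ZMod p) ^ 3) = 0 := by linear_combination hj1
    exact (mul_eq_zero.1 this).resolve_right (sub_ne_zero.2 fun h' => fr.l3 h'.symm)
  have hGp : G₁ ^ p = 1 := by
    rw [← hwG, hij, pow_congr fr.pz (j := 0) (by rw [hi0, Nat.cast_zero]),
      pow_congr fr.pc (j := 0) (by rw [hj0, Nat.cast_zero]), pow_zero, pow_zero, one_mul, map_one]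
  -- an elementary abelian section of order `p ^ 4`
  set A := Subgroup.closure ({x, z, c} : Set (N ⧸ K)) with hA
  set U := Subgroup.closure (insert G₁ (A.map ψ : Set (M ⧸ L))) with hU
  have hgenA : ∀ u ∈ ({x, z, c} : Set (N ⧸ K)), ∀ u' ∈ ({x, z, c} : Set (N ⧸ K)), Commute u u' := by
    rintro u (rfl | rfl | rfl) u' (rfl | rfl | rfl) <;>
      first
        | exact Commute.refl _
        | exact fr.xz | exact fr.xz.symm | exact fr.xc | exact fr.xc.symm
        | exact fr.zc | exact fr.zc.symm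
  have hAc : ∀ u ∈ A, ∀ u' ∈ A, Commute u u' := by
    intro u hu u' hu'
    induction hu using Subgroup.closure_induction with
    | mem y hy =>
      induction hu' using Subgroup.closure_induction with
      | mem y' hy' => exact hgenA y hy y' hy'
      | one => exact Commute.one_right _
      | mul _ _ _ _ h h' => exact h.mul_right h'
      | inv _ _ h => exact h.inv_right
    | one => exact Commute.one_left _
    | mul _ _ _ _ h h' => exact h.mul_left h'
    | inv _ _ h => exact h.inv_left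
  have hAfix : ∀ u ∈ A, δ u = u := by
    intro u hu
    induction hu using Subgroup.closure_induction with
    | mem y hy => rcases hy with rfl | rfl | rfl <;> assumption
    | one => exact map_one δ
    | mul y y' _ _ h h' => rw [map_mul, h, h']
    | inv y _ h => rw [map_inv, h]
  have hAp : ∀ u ∈ A, u ^ p = 1 := by
    intro u hu
    induction hu using Subgroup.closure_induction with
    | mem y hy =>
      rcases hy with rfl | rfl | rfl
      exacts [fr.px, fr.pz, fr.pc]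
    | one => exact one_pow p
    | mul y y' hy hy' h h' => rw [(hAc y hy y' hy').mul_pow, h, h', one_mul]
    | inv y _ h => rw [inv_pow, h, inv_one]
  have hgenU : ∀ u ∈ insert G₁ (A.map ψ : Set (M ⧸ L)), (∀ u' ∈ insert G₁ (A.map ψ : Set (M ⧸ L)), Commute u u') ∧
      u ^ p = 1 := by
    rintro u (rfl | ⟨u, hu, rfl⟩)
    · refine ⟨?_, hGp⟩
      rintro u' (rfl | ⟨u', hu', rfl⟩)
      · exact Commute.refl _
      · exact hGfix _ (hAfix _ hu')
    · refine ⟨?_, by rw [← map_pow, hAp u hu, map_one]⟩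
      rintro u' (rfl | ⟨u', hu', rfl⟩)
      · exact (hGfix _ (hAfix _ hu)).symm
      · exact (hAc u hu u' hu').map ψ
  have hUc : ∀ u ∈ U, ∀ u' ∈ U, Commute u u' := by
    intro u hu u' hu'
    induction hu using Subgroup.closure_induction with
    | mem y hy =>
      induction hu' using Subgroup.closure_induction with
      | mem y' hy' => exact (hgenU y hy).1 y' hy'
      | one => exact Commute.one_right _
      | mul _ _ _ _ h h' => exact h.mul_right h'
      | inv _ _ h => exact h.inv_right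
    | one => exact Commute.one_left _
    | mul _ _ _ _ h h' => exact h.mul_left h'
    | inv _ _ h => exact h.inv_left
  have hUp : ∀ u ∈ U, u ^ p = 1 := by
    intro u hu
    induction hu using Subgroup.closure_induction with
    | mem y hy => exact (hgenU y hy).2
    | one => exact one_pow p
    | mul y y' hy hy' h h' => rw [(hUc y hy y' hy').mul_pow, h, h', one_mul]
    | inv y _ h => rw [inv_pow, h, inv_one]
  have hUcard : Nat.card U ≤ p ^ 3 := by
    let f : (U.comap (QuotientGroup.mk' L) : Subgroup M) →* M ⧸ L :=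
      (QuotientGroup.mk' L).comp (Subgroup.subtype _)
    have := card_range_le hsr f (fun u u' => (hUc _ u.2 _ u'.2).eq) fun u => hUp _ u.2
    rwa [MonoidHom.range_comp, Subgroup.range_subtype,
      Subgroup.map_comap_eq_self_of_surjective (QuotientGroup.mk'_surjective L)] at this
  have hAcard : p ^ 3 ≤ Nat.card (A.map ψ) := by
    rw [Subgroup.card_map_of_injective hψi]
    have hinj : Function.Injective (fun t : Fin p × Fin p × Fin p =>
        (⟨x ^ (t.1 : ℕ) * z ^ (t.2.1 : ℕ) * c ^ (t.2.2 : ℕ), mul_mem (mul_mem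
          (pow_mem (Subgroup.subset_closure (by simp)) _) (pow_mem (Subgroup.subset_closure (by simp)) _))
          (pow_mem (Subgroup.subset_closure (by simp)) _)⟩ : A)) := by
      rintro ⟨i, j, k⟩ ⟨i', j', k'⟩ h
      have h' : x ^ (i : ℕ) * z ^ (j : ℕ) * c ^ (k : ℕ) = x ^ (i' : ℕ) * z ^ (j' : ℕ) * c ^ (k' : ℕ) :=
        congrArg Subtype.val h
      have e' : ∀ q : ℕ, q + (p - 1) * q = p * q := fun q => by
        rw [Nat.sub_mul, one_mul, Nat.add_sub_cancel' (Nat.le_mul_of_pos_left _ hpp.pos)]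
      obtain ⟨h1, -, h2, h3⟩ := fr.ind (i + (p - 1) * i') 0 (j + (p - 1) * j') (k + (p - 1) * k') (by
        have hR : x ^ ((p - 1) * (i' : ℕ)) * z ^ ((p - 1) * (j' : ℕ)) * c ^ ((p - 1) * (k' : ℕ)) ∈ A :=
          mul_mem (mul_mem (pow_mem (Subgroup.subset_closure (by simp)) _)
            (pow_mem (Subgroup.subset_closure (by simp)) _)) (pow_mem (Subgroup.subset_closure (by simp)) _)
        have hcomb : ∀ a₁ a₂ b₁ b₂ c₁ c₂ : ℕ, x ^ a₁ * z ^ b₁ * c ^ c₁ * (x ^ a₂ * z ^ b₂ * c ^ c₂) =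
            x ^ (a₁ + a₂) * a ^ 0 * z ^ (b₁ + b₂) * c ^ (c₁ + c₂) := fun a₁ a₂ b₁ b₂ c₁ c₂ => by
          rw [pow_zero, mul_one, pow_add, pow_add, pow_add,
            (((fr.c_central (x ^ a₂ * z ^ b₂)).pow_left c₁)).mul_mul_mul_comm,
            ((fr.z_central (x ^ a₂)).pow_left b₁).mul_mul_mul_comm]
        rw [← hcomb, h', hcomb, e', e', e', pow_mul, pow_mul, pow_mul, fr.px, fr.pz, fr.pc, one_pow, one_pow,
          one_pow, pow_zero, one_mul, one_mul, one_mul])
      have key : ∀ u u' : Fin p, p ∣ (u : ℕ) + (p - 1) * u' → u = u' := fun u u' h => by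
        rw [← ZMod.natCast_eq_zero_iff, Nat.cast_add, Nat.cast_mul, Nat.cast_sub hpp.one_le,
          ZMod.natCast_self, Nat.cast_one, zero_sub, neg_one_mul, ← sub_eq_add_neg, sub_eq_zero,
          ZMod.natCast_eq_natCast_iff', Nat.mod_eq_of_lt u.2, Nat.mod_eq_of_lt u'.2] at h
        exact Fin.ext h
      rw [key i i' h1, key j j' h2, key k k' h3]
    have := Nat.card_le_card_of_injective _ hinj
    simpa [Nat.card_prod, Nat.card_fin, pow_succ, mul_assoc] using this
  have hlt : A.map ψ < U := by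
    refine lt_of_le_of_ne (fun u hu => Subgroup.subset_closure (Or.inr hu)) fun h => ?_
    obtain ⟨u, hu, huG⟩ := h.ge (Subgroup.subset_closure (Or.inl rfl) : G₁ ∈ U)
    obtain ⟨u, rfl⟩ := QuotientGroup.mk_surjective u
    obtain ⟨v₀, hv₀, hv₀e⟩ := QuotientGroup.eq.1 (show ((ι u : M) : M ⧸ L) = (g₁ : M) from huG)
    have hgu : δ = MulAut.conj ((u * v₀ : N) : (N ⧸ K)) := by
      rw [hδ, show g₁ = ι (u * v₀) by rw [map_mul, hv₀e, mul_inv_cancel_left], hactι]
      exact MulEquiv.ext fun t => hconjQ _ t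
    have h8 := δaπ
    rw [hgu, MulAut.conj_apply, map_mul, map_mul, map_inv, hπc, mul_inv_cancel_right, map_mul, map_pow] at h8
    exact hr (fr.mk_exps (i := r) (j := 0) (by rw [pow_zero, mul_one]; exact left_eq_mul.1 h8)).1
  have c1 := PGroup.mul_card_le_of_lt (hM.to_quotient L) hlt
  have c2 : p ^ 4 ≤ Nat.card U := by
    rw [pow_succ']; exact le_trans (Nat.mul_le_mul le_rfl hAcard) c1
  exact absurd (c2.trans hUcard) (not_le.2 (Nat.pow_lt_pow_right hpp.one_lt (by norm_num)))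

/-- The conclusion of the transvection case. -/
theorem false_of_frame (hN : IsPGroup p N) (hM : IsPGroup p M) (hsr : Cfsg.SectionalPRankLE p 3 M)
    (ι : N →* M) (hι : Function.Injective ι) (act : M →* MulAut N)
    (hact : ∀ (g : M) (v : N), ι (act g v) = g * ι v * g⁻¹) (cent : ∀ g, act g = 1 → g ∈ ι.range)
    (E : Subgroup N) (K : Subgroup N) [K.Characteristic] (hK : K ≤ frattini N)
    {x a z c : N ⧸ K} {τ : MulAut N} {l m : ℕ} (fr : Frame p x a z c (RankTwo.quotientAut K τ) l m)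
    (hE : ∀ v : N, v ∈ E ↔ ∃ j k r : ℕ, (v : N ⧸ K) = a ^ j * z ^ k * c ^ r)
    (G : Subgroup (MulAut N)) (hτ : τ ∈ G) (hactG : ∀ g, act g ∈ G)
    (stab : ∀ q ∈ G, (∃ k : ℕ, q ^ p ^ k = 1) → (∀ e ∈ E, q e ∈ E) → ∃ v : N, q = MulAut.conj v)
    (ext : ∀ t ∈ G, ∀ g h₀ : M, t * act g * t⁻¹ = act h₀ →
      ∃ h : M, act h = act h₀ ∧ ∀ w : N, ι w = g ^ p → ι (t w) = h ^ p)
    (g : M) (hgp : g ^ p ∈ ι.range) (hgE : ∃ e ∈ E, act g e ∉ E) : False := by
  have hpp : p.Prime := hp.out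
  set qa := RankTwo.quotientAut K with hqa
  let γ := qa (act g)
  let π : (N ⧸ K) →* (N ⧸ K) ⧸ Subgroup.center (N ⧸ K) := QuotientGroup.mk' (Subgroup.center (N ⧸ K))
  have hπ1 : ∀ v : N ⧸ K, π v = 1 ↔ v ∈ Subgroup.center (N ⧸ K) := fun v => QuotientGroup.eq_one_iff v
  have hπm : ∀ {u v : N ⧸ K}, π u = π v → u⁻¹ * v ∈ Subgroup.center (N ⧸ K) := fun h => QuotientGroup.eq.1 h
  have hcomm : ∀ u v, Commute (π u) (π v) := fun u v => fr.mk_comm _ _
  have hautπ : ∀ (β : MulAut (N ⧸ K)) (u v : N ⧸ K), π u = π v → π (β u) = π (β v) := fun β u v h => by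
    refine QuotientGroup.eq.2 ?_
    rw [← map_inv, ← map_mul]
    exact (Subgroup.characteristic_iff_comap_eq.1 (inferInstance : (Subgroup.center (N ⧸ K)).Characteristic) β).ge
      (hπm h)
  -- powers of a fixed element are fixed
  have hfixpow : ∀ (v : N ⧸ K) (j : ℕ), ¬ p ∣ j → π (γ (v ^ j)) = π (v ^ j) → π (γ v) = π v := by
    intro v j hj h
    obtain ⟨u, -, hu⟩ := Nat.exists_mul_mod_eq_one_of_coprime
      (Nat.Coprime.symm ((hpp.coprime_iff_not_dvd).2 hj)) hpp.one_lt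
    have h2 := congrArg (· ^ u) h
    simp only [map_pow, ← pow_mul] at h2
    rwa [pow_eq_pow_mod _ (fr.mk_pow_p (π (γ v))), pow_eq_pow_mod _ (fr.mk_pow_p (π v)), hu, pow_one,
      pow_one] at h2
  -- `γ` moves the `a`-line
  have hmov : π (γ a) ≠ π a := by
    intro h
    obtain ⟨e, he, hge⟩ := hgE
    obtain ⟨j, k, r, hejk⟩ := (hE e).1 he
    have h1 : π (γ (e : N ⧸ K)) = π a ^ j := by
      rw [hejk, hautπ γ _ (a ^ j) ?_, map_pow, map_pow, h]
      rw [mul_assoc, map_mul, (hπ1 _).2 ((fr.mem_center_iff' _).2 ⟨k, r, rfl⟩), mul_one]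
    obtain ⟨k', r', h2⟩ := (fr.mem_center_iff' _).1 (hπm (show π (a ^ j) = π (γ (e : N ⧸ K)) by
      rw [h1, map_pow]))
    refine hge ((hE _).2 ⟨j, k', r', ?_⟩)
    show γ (e : N ⧸ K) = _
    rw [mul_assoc, ← h2, mul_inv_cancel_left]
  have hax : ∀ i j : ℕ, π x ^ i * π a ^ j = 1 → p ∣ i ∧ p ∣ j := fun i j h => fr.mk_exps h
  -- a fixed point of `γ` modulo the center
  let W := (N ⧸ K) ⧸ Subgroup.center (N ⧸ K)
  let γW : MulAut W := RankTwo.quotientAut (Subgroup.center (N ⧸ K)) γ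
  have hγW : ∀ v : N ⧸ K, γW (π v) = π (γ v) := fun v => rfl
  obtain ⟨kg, hkg⟩ := (hM g).imp fun k hk => show γW ^ p ^ k = 1 by
    rw [show γW ^ p ^ k = RankTwo.quotientAut _ (qa (act (g ^ p ^ k))) by simp only [map_pow]; rfl, hk, map_one,
      map_one, map_one]
  have hWp : IsPGroup p W := (hN.to_quotient K).to_quotient _
  haveI : Nontrivial W := ⟨π x, 1, fun h => by
    have := (hax 1 0 (by rw [pow_one, pow_zero, mul_one]; exact h)).1
    exact absurd (Nat.le_of_dvd one_pos this) (not_le.2 hpp.one_lt)⟩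
  obtain ⟨v, hv1, hvfix⟩ := Resist.exists_fixed hWp (Subgroup.zpowers γW) (fun w => by
    obtain ⟨i, hi⟩ := Subgroup.mem_zpowers_iff.1 w.2
    refine ⟨kg, Subtype.ext ?_⟩
    rw [Subgroup.coe_pow, ← hi, ← zpow_natCast, zpow_comm, zpow_natCast, hkg, one_zpow, Subgroup.coe_one])
  have hvfix' : γW v = v := hvfix γW (Subgroup.mem_zpowers γW)
  obtain ⟨i, j, hij⟩ := fr.mk_span v
  have hij' : v = π x ^ i * π a ^ j := hij
  have hi : ¬ p ∣ i := by
    rintro ⟨i', rfl⟩
    rw [pow_mul, fr.mk_pow_p (π x), one_pow, one_mul] at hij'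
    refine hmov (hfixpow a j (fun hj => hv1 ?_) ?_)
    · obtain ⟨j', rfl⟩ := hj
      rw [hij', pow_mul, fr.mk_pow_p (π a), one_pow]
    · rw [← hγW, map_pow π, ← hij', hvfix']
  obtain ⟨u, -, hu⟩ := Nat.exists_mul_mod_eq_one_of_coprime
    (Nat.Coprime.symm ((hpp.coprime_iff_not_dvd).2 hi)) hpp.one_lt
  obtain ⟨j₀, hj₀⟩ : ∃ j₀ : ℕ, j₀ = j * u := ⟨_, rfl⟩
  set w := x * a ^ j₀ with hw
  have hwv : π w = v ^ u := by
    rw [hij', ((hcomm x a).pow_pow i j).mul_pow, ← pow_mul, ← pow_mul, pow_eq_pow_mod (i * u) (fr.mk_pow_p (π x)),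
      hu, pow_one, hw, map_mul, map_pow, hj₀]
  have hwfix : π (γ w) = π w := by rw [← hγW, hwv, map_pow, hvfix']
  have hw1 : π w ≠ 1 := fun h => by
    rw [hw, map_mul, map_pow] at h
    have := (hax 1 j₀ (by rw [pow_one]; exact h)).1
    exact absurd (Nat.le_of_dvd one_pos this) (not_le.2 hpp.one_lt)
  -- `γ` is trivial on the quotient by the fixed line
  haveI hLn : (Subgroup.zpowers (π w)).Normal := ⟨fun t ht q => by
    obtain ⟨q, rfl⟩ := QuotientGroup.mk_surjective q
    obtain ⟨t, rfl⟩ := QuotientGroup.mk_surjective t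
    show π q * π t * (π q)⁻¹ ∈ _
    rwa [(hcomm q t).eq, mul_inv_cancel_right]⟩
  have hlow : ∀ t : N ⧸ K, ∃ r : ℕ, π (γ t) = π t * π w ^ r := by
    intro t
    have hs : Function.Surjective (fun q : Fin p × Fin p => π x ^ (q.1 : ℕ) * π a ^ (q.2 : ℕ)) := fun y => by
      obtain ⟨i, j, rfl⟩ := fr.mk_span y
      exact ⟨(⟨i % p, Nat.mod_lt _ hpp.pos⟩, ⟨j % p, Nat.mod_lt _ hpp.pos⟩), by
        show π x ^ (i % p) * π a ^ (j % p) = π x ^ i * π a ^ j
        rw [← pow_eq_pow_mod i (fr.mk_pow_p _), ← pow_eq_pow_mod j (fr.mk_pow_p _)]⟩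
    have hcard := Nat.card_le_card_of_surjective _ hs
    rw [Nat.card_prod, Nat.card_fin] at hcard
    have h := EssentialSmall.mul_apply_mem_of_card_le hWp (U := Subgroup.zpowers (π w)) (W := ⊤) le_top
      (by rw [Subgroup.card_top, Nat.card_zpowers, orderOf_eq_prime (fr.mk_pow_p (π w)) hw1]; exact hcard)
      (a := γW) hkg (fun y hy => by
        obtain ⟨q, rfl⟩ := Subgroup.mem_zpowers_iff.1 hy
        rw [map_zpow, hγW, hwfix]; exact zpow_mem (Subgroup.mem_zpowers _) q)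
      (fun _ _ => Subgroup.mem_top _) (Subgroup.mem_top (π t))
    obtain ⟨r, hr⟩ := mem_powers_iff_mem_zpowers.2 h
    exact ⟨r, by rw [show π w ^ r = (π t)⁻¹ * γW (π t) from hr, mul_inv_cancel_left, hγW]⟩
  obtain ⟨r₁, hr₁⟩ := hlow x
  have hr₁0 : ¬ p ∣ j₀ → (r₁ : ZMod p) ≠ 0 := fun hj h => by
    have hx : π (γ x) = π x := by
      rw [hr₁, pow_congr (fr.mk_pow_p (π w)) (j := 0) (by rw [h, Nat.cast_zero]), pow_zero, mul_one]
    refine hmov (hfixpow a j₀ hj ?_)
    have := hwfix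
    rw [hw, map_mul γ, map_mul π, map_mul π, hx, mul_right_inj] at this
    exact this
  -- conjugate the torus so that it preserves the fixed line
  have hlm : (m : ZMod p) * (l : ZMod p) = 1 := by rw [← Nat.cast_mul]; exact fr.lm
  have hmn : (m : ZMod p) - (l : ZMod p) * l ≠ 0 := fun h => fr.l3 (by
    linear_combination hlm - (l : ZMod p) * h)
  have mz : (m : ZMod p) ≠ 0 := fun h => by rw [h, zero_mul] at hlm; exact zero_ne_one hlm
  set s := ((((m : ZMod p) - (l : ZMod p) * l) * ((r₁ : ZMod p) * m * m))⁻¹).val with hs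
  set q := s * (r₁ * (m * m)) with hq
  set w' := qa τ w with hw'
  set T := qa τ * γ * (qa τ)⁻¹ with hT
  have hTw : π (T w') = π w' := by
    rw [hT, hw', MulAut.mul_apply, MulAut.mul_apply, MulAut.inv_apply_self]
    exact hautπ _ _ _ hwfix
  have hτx : qa τ (x ^ (m * m)) = x := by
    rw [map_pow, fr.tx, ← pow_mul]
    exact (pow_congr fr.px (j := 1) (by push_cast; linear_combination ((m : ZMod p) * l + 1) * hlm)).trans (pow_one x)
  have hTx : π (T x) = π x * π w' ^ (r₁ * (m * m)) := by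
    have h1 : (qa τ)⁻¹ x = x ^ (m * m) := by
      conv_lhs => rw [← hτx]
      rw [MulAut.inv_apply_self]
    have h2 : π (γ (x ^ (m * m))) = π (x ^ (m * m) * w ^ (r₁ * (m * m))) := by
      rw [map_pow γ, map_pow π, hr₁, ← map_pow π w, (hcomm x (w ^ r₁)).mul_pow, ← map_pow, ← map_pow,
        ← map_mul, ← pow_mul]
    rw [hT, MulAut.mul_apply, MulAut.mul_apply, h1, hautπ _ _ _ h2, map_mul (qa τ), hτx, map_pow (qa τ),
      map_mul, map_pow, hw']
  have hTs : ∀ n : ℕ, π ((T ^ n) x) = π x * π w' ^ (n * (r₁ * (m * m))) := by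
    intro n
    induction n with
    | zero => simp
    | succ n ih =>
      rw [pow_succ' T, MulAut.mul_apply,
        hautπ T _ (x * w' ^ (n * (r₁ * (m * m)))) (by rw [ih, map_mul, map_pow]), map_mul T, map_mul π,
        map_pow T, map_pow π, hTw, hTx, mul_assoc, ← pow_add, add_mul, one_mul,
        add_comm (r₁ * (m * m))]
  obtain ⟨h, hh⟩ : ∃ h : MulAut N, h = (τ * act g * τ⁻¹) ^ s := ⟨_, rfl⟩
  have hhq : qa h = T ^ s := by rw [hh, map_pow, map_mul, map_mul, map_inv]
  have hhx : π (qa h x) = π w ^ (1 + l * l * q) := by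
    rw [hhq, hTs, ← hq, hw', hw, map_mul (qa τ), map_pow, fr.tx, fr.ta, ← pow_mul, map_mul, map_pow, map_pow,
      ((hcomm x a).pow_pow (l * l) (m * j₀)).mul_pow, ← pow_mul, ← pow_mul, ← mul_assoc, ← pow_succ',
      map_mul, map_pow, ((hcomm x a).pow_right j₀).mul_pow, ← pow_mul]
    congr 1
    · rw [add_comm]
    · refine pow_congr (fr.mk_pow_p (π a)) ?_
      by_cases hj : p ∣ j₀
      · simp [(ZMod.natCast_eq_zero_iff _ _).2 hj]
      · have hd : ((m : ZMod p) - (l : ZMod p) * l) * ((r₁ : ZMod p) * m * m) ≠ 0 :=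
          mul_ne_zero hmn (mul_ne_zero (mul_ne_zero (hr₁0 hj) mz) mz)
        have hq' : (q : ZMod p) * ((m : ZMod p) - (l : ZMod p) * l) = 1 := by
          rw [hq, hs, Nat.cast_mul, ZMod.natCast_val, ZMod.cast_id, Nat.cast_mul, Nat.cast_mul]
          rw [show (((m : ZMod p) - (l : ZMod p) * l) * ((r₁ : ZMod p) * m * m))⁻¹ * ((r₁ : ZMod p) * ((m : ZMod p) * m)) *
            ((m : ZMod p) - (l : ZMod p) * l) = (((m : ZMod p) - (l : ZMod p) * l) * ((r₁ : ZMod p) * m * m))⁻¹ *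
              (((m : ZMod p) - (l : ZMod p) * l) * ((r₁ : ZMod p) * m * m)) by ring, inv_mul_cancel₀ hd]
        push_cast
        linear_combination (j₀ : ZMod p) * hq'
  -- transport the frame
  have fr' : Frame p (qa h x) (qa h a) (qa h z) (qa h c) (qa (h * τ * h⁻¹)) l m := by
    rw [map_mul, map_mul, map_inv]; exact fr.map (qa h)
  have hk0 : ¬ p ∣ 1 + l * l * q := by
    rintro ⟨k', hk'⟩
    rw [hk', pow_mul, fr.mk_pow_p (π w), one_pow] at hhx
    have := (fr'.mk_exps (i := 1) (j := 0) (by rw [pow_one, pow_zero, mul_one]; exact hhx)).1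
    exact absurd (Nat.le_of_dvd one_pos this) (not_le.2 hpp.one_lt)
  obtain ⟨u', -, hu'⟩ := Nat.exists_mul_mod_eq_one_of_coprime
    (Nat.Coprime.symm ((hpp.coprime_iff_not_dvd).2 hk0)) hpp.one_lt
  have hwh : π w = π (qa h x) ^ u' := by
    rw [hhx, ← pow_mul, pow_eq_pow_mod _ (fr.mk_pow_p (π w)), hu', pow_one]
  have hxfix : π (γ (qa h x)) = π (qa h x) := by
    rw [hautπ γ _ (w ^ (1 + l * l * q)) (by rw [hhx, map_pow]), map_pow γ, map_pow π, hwfix, ← hhx]
  obtain ⟨r₂, hr₂⟩ := hlow (qa h a)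
  have hr : ¬ p ∣ u' * r₂ := by
    intro hd
    obtain ⟨d, hd⟩ := hd
    have hafix : π (γ (qa h a)) = π (qa h a) := by
      rw [hr₂, hwh, ← pow_mul, hd, pow_mul, fr.mk_pow_p, one_pow, mul_one]
    obtain ⟨i, j, hij⟩ := fr'.mk_span (π a)
    have ha : π a = π (qa h x ^ i * qa h a ^ j) := by rw [map_mul, map_pow, map_pow]; exact hij
    refine hmov ?_
    rw [hautπ γ _ _ ha, map_mul γ, map_pow γ, map_pow γ, map_mul π, map_pow π, map_pow π, hxfix, hafix,
      ← map_pow π, ← map_pow π, ← map_mul π, ← ha]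
  have hhG : h ∈ G := hh ▸ pow_mem (mul_mem (mul_mem hτ (hactG g)) (inv_mem hτ)) s
  refine false_of_fixed hN hM hsr ι hι act hact cent E K hK ?_ fr' G
    (mul_mem (mul_mem hhG hτ) (inv_mem hhG)) hactG stab ext g hgp
    (r := u' * r₂) hr (hπm hxfix.symm) (hπm ?_)
  · intro e f he hef
    obtain ⟨j, k, r, h1⟩ := (hE e).1 he
    rw [QuotientGroup.mk_mul, QuotientGroup.mk_inv, fr.mem_center_iff'] at hef
    obtain ⟨k', r', h2⟩ := hef
    refine (hE f).2 ⟨j, k + k', r + r', ?_⟩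
    rw [inv_mul_eq_iff_eq_mul, h1] at h2
    rw [h2, pow_add, pow_add, mul_assoc (a ^ j), mul_assoc (a ^ j), (fr.zc.symm.pow_pow r k').mul_mul_mul_comm]
    simp only [mul_assoc]
  · rw [map_mul, map_pow, hr₂, hwh, ← pow_mul]

end Cfsg.Agent.RankThreeEss
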